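/-
Exact colimits of complexes and trivial cofibrations (monomorphic quasi-isomorphisms).
-/
import Mathlib.Algebra.Homology.GrothendieckAbelian
import Mathlib.Algebra.Homology.HomologySequenceLemmas
import Mathlib.Algebra.Homology.QuasiIso
import Mathlib.CategoryTheory.Abelian.GrothendieckAxioms.Colim
import Mathlib.CategoryTheory.Abelian.GrothendieckCategory.EnoughInjectives
import Mathlib.CategoryTheory.Limits.Shapes.Pullback.IsPullback.Kernels
import Mathlib.Algebra.Homology.ShortComplex.ExactFunctor

set_option linter.unusedSectionVars false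
set_option linter.style.haveILetI false

universe w w' v u

open CategoryTheory Limits HomologicalComplex

namespace Groth.Agent.DerLib.AcyclicMono

variable {A : Type u} [Category.{v} A] [Abelian A]

/-- If homology classes die along the diagram, the colimit complex is exact. -/
theorem exactAt_colimit {J : Type w} [Category.{w'} J] [HasColimitsOfShape J A]
    [HasExactColimitsOfShape J A] (K : J ⥤ CochainComplex A ℤ) {c : Cocone K} (hc : IsColimit c)
    (i : ℤ) (h : ∀ j, ∃ (k : J) (φ : j ⟶ k), homologyMap (K.map φ) i = 0) : c.pt.ExactAt i := by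
  let S : ShortComplex (J ⥤ A) := ShortComplex.mk
    (Functor.whiskerLeft (K ⋙ shortComplexFunctor A (ComplexShape.up ℤ) i) ShortComplex.π₁Toπ₂)
    (Functor.whiskerLeft (K ⋙ shortComplexFunctor A (ComplexShape.up ℤ) i) ShortComplex.π₂Toπ₃)
    (NatTrans.ext (funext fun j => ((K.obj j).sc i).zero))
  have hS : IsZero (colim.obj S.homology) := by
    rw [IsZero.iff_id_eq_zero]
    refine colimit.hom_ext fun j => ?_
    obtain ⟨k, φ, hφ⟩ := h j
    have hz : S.homology.map φ = 0 := by
      have := ShortComplex.homologyMap_mapNatTrans S ((evaluation J A).map φ)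
      rw [show ShortComplex.homologyMap (S.mapNatTrans ((evaluation J A).map φ)) = 0 from hφ] at this
      exact (cancel_mono (S.mapHomologyIso ((evaluation J A).obj k)).inv).1
        ((cancel_epi (S.mapHomologyIso ((evaluation J A).obj j)).hom).1
          (by rw [zero_comp, comp_zero]; exact this.symm))
    refine (Category.comp_id _).trans (((colimit.w S.homology φ).symm.trans ?_).trans comp_zero.symm)
    rw [hz, zero_comp]
  have hex : (S.map colim).Exact :=
    (ShortComplex.exact_iff_isZero_homology _).2 (hS.of_iso (S.mapHomologyIso colim))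
  rw [exactAt_iff]
  let e : ∀ n : ℤ, colimit (K ⋙ eval A (ComplexShape.up ℤ) n) ≅ c.pt.X n := fun n =>
    IsColimit.coconePointUniqueUpToIso (colimit.isColimit _)
      (isColimitOfPreserves (eval A (ComplexShape.up ℤ) n) hc)
  refine (ShortComplex.exact_iff_of_iso ?_).1 hex
  refine ShortComplex.isoMk (e _) (e _) (e _) (colimit.hom_ext fun j => ?_)
    (colimit.hom_ext fun j => ?_)
  · dsimp [S, e]
    erw [colimit.ι_map_assoc, colimit.comp_coconePointUniqueUpToIso_hom,
      colimit.comp_coconePointUniqueUpToIso_hom_assoc]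
    exact ((c.ι.app j).comm _ _)
  · dsimp [S, e]
    erw [colimit.ι_map_assoc, colimit.comp_coconePointUniqueUpToIso_hom,
      colimit.comp_coconePointUniqueUpToIso_hom_assoc]
    exact ((c.ι.app j).comm _ _)

theorem acyclic_colimit {J : Type w} [Category.{w'} J] [HasColimitsOfShape J A]
    [HasExactColimitsOfShape J A] (K : J ⥤ CochainComplex A ℤ) {c : Cocone K} (hc : IsColimit c)
    (h : ∀ j, (K.obj j).Acyclic) : c.pt.Acyclic :=
  fun i => exactAt_colimit K hc i fun j => ⟨j, 𝟙 j,
    ((h j i).isZero_homology.eq_of_src _ _)⟩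

/-- Monomorphisms which are quasi-isomorphisms. -/
def T : MorphismProperty (CochainComplex A ℤ) :=
  MorphismProperty.monomorphisms _ ⊓ HomologicalComplex.quasiIso A (ComplexShape.up ℤ)

theorem quasiIso_of_acyclic {S : ShortComplex (CochainComplex A ℤ)} (hS : S.ShortExact)
    (h : S.X₃.Acyclic) : QuasiIso S.f := by
  rw [quasiIso_iff]
  intro i
  rw [quasiIsoAt_iff_isIso_homologyMap]
  haveI : Mono (homologyMap S.f i) :=
    (hS.homology_exact₁ (i - 1) i (by simp)).mono_g ((h (i - 1)).isZero_homology.eq_of_src _ _)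
  haveI : Epi (homologyMap S.f i) :=
    (hS.homology_exact₂ i).epi_f ((h i).isZero_homology.eq_of_tgt _ _)
  exact isIso_of_mono_of_epi _

theorem T_of_shortExact {S : ShortComplex (CochainComplex A ℤ)} (hS : S.ShortExact)
    (h : S.X₃.Acyclic) : T S.f :=
  ⟨hS.mono_f, (HomologicalComplex.mem_quasiIso_iff _).2 (quasiIso_of_acyclic hS h)⟩

theorem T_iff {X Y : CochainComplex A ℤ} (f : X ⟶ Y) :
    T f ↔ Mono f ∧ (cokernel f).Acyclic := by
  refine ⟨fun ⟨hm, hq⟩ => ?_, fun ⟨hm, ha⟩ => ?_⟩
  · haveI : Mono f := hm
    exact ⟨hm, ShortComplex.ShortExact.acyclic_X₃ (S := ShortComplex.mk f _ (cokernel.condition f))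
      { exact := ShortComplex.exact_cokernel f }
      ((HomologicalComplex.mem_quasiIso_iff _).1 hq)⟩
  · exact T_of_shortExact (S := ShortComplex.mk f _ (cokernel.condition f))
      { exact := ShortComplex.exact_cokernel f } ha

instance : (T (A := A)).IsStableUnderRetracts := by
  unfold T; infer_instance

instance : (T (A := A)).RespectsIso := by
  unfold T; infer_instance

instance : (T (A := A)).IsMultiplicative := by
  unfold T; infer_instance

theorem acyclic_of_iso {X Y : CochainComplex A ℤ} (e : X ≅ Y) (h : X.Acyclic) : Y.Acyclic :=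
  fun i => (h i).of_iso e

instance : (T (A := A)).IsStableUnderCobaseChange where
  of_isPushout {X X' Y Y' f g f' g'} sq h := by
    rw [T_iff] at h ⊢
    obtain ⟨hm, ha⟩ := h
    refine ⟨MorphismProperty.of_isPushout (P := MorphismProperty.monomorphisms _) sq hm, ?_⟩
    haveI := isIso_cokernel_map_of_isPushout sq.flip
    exact acyclic_of_iso (asIso (cokernel.map _ _ _ _ sq.flip.w)) ha

instance (J : Type w) [Category.{w'} J] [HasColimitsOfShape J A]
    [HasExactColimitsOfShape J A] : (T (A := A)).IsStableUnderColimitsOfShape J where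
  condition X₁ X₂ c₁ c₂ h₁ h₂ f hf φ hφ := by
    haveI : ∀ j, Mono (f.app j) := fun j => (hf j).1
    haveI := NatTrans.mono_of_mono_app f
    let S : ShortComplex (J ⥤ CochainComplex A ℤ) := ShortComplex.mk f _ (cokernel.condition f)
    have hS : S.ShortExact := { exact := ShortComplex.exact_cokernel f }
    let c₃ := colimit.cocone S.X₃
    let h₃ : IsColimit c₃ := colimit.isColimit _
    let g : c₂.pt ⟶ c₃.pt := h₂.desc ((Cocone.precompose S.g).obj c₃)
    have hg : ∀ j, c₂.ι.app j ≫ g = S.g.app j ≫ c₃.ι.app j := fun j => h₂.fac _ j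
    haveI : Mono φ := colim.map_mono' f h₁ h₂ φ hφ
    haveI : Epi g := ⟨fun u v huv => h₃.hom_ext fun j => by
      haveI : Epi (S.g.app j) := (hS.map_of_exact ((evaluation _ _).obj j)).epi_g
      rw [← cancel_epi (S.g.app j), ← reassoc_of% (hg j), ← reassoc_of% (hg j), huv]⟩
    refine T_of_shortExact (S := colim.mapShortComplex S h₁ c₂ c₃ φ g hφ hg)
      { exact := colim.exact_mapShortComplex hS.exact h₁ h₂ h₃ φ g hφ hg
        mono_f := inferInstanceAs (Mono φ)
        epi_g := inferInstanceAs (Epi g) }
      (acyclic_colimit _ h₃ fun j => ?_)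
    exact ShortComplex.ShortExact.acyclic_X₃ (hS.map_of_exact ((evaluation _ _).obj j))
      ((HomologicalComplex.mem_quasiIso_iff _).1 (hf j).2)

instance [IsGrothendieckAbelian.{w} A] :
    MorphismProperty.IsStableUnderTransfiniteComposition.{w} (T (A := A)) where
  isStableUnderTransfiniteCompositionOfShape J _ _ _ _ :=
    .of_isStableUnderColimitsOfShape fun J _ _ _ _ => inferInstance

theorem coproducts_le [IsGrothendieckAbelian.{w} A] :
    MorphismProperty.coproducts.{w} (T (A := A)) ≤ T := by
  intro X Y f hf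
  rw [MorphismProperty.coproducts_iff] at hf
  obtain ⟨J, hf⟩ := hf
  exact MorphismProperty.colimitsOfShape_le _ hf

end Groth.Agent.DerLib.AcyclicMono
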