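/-
K-injective complexes with injective terms and the extension property along trivial cofibrations.
-/
import Groth.Agent.DerLib.AcyclicMono
import Mathlib.Algebra.Homology.Double
import Mathlib.Algebra.Homology.HomotopyCategory.KInjective
import Mathlib.Algebra.Homology.ModelCategory.Lifting
import Mathlib.Algebra.Homology.HomotopyCategory.MappingCone
import Mathlib.Algebra.Homology.HomotopyCategory.Acyclic

set_option linter.unusedSectionVars false
set_option linter.style.haveILetI false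

universe v u

open CategoryTheory Limits HomologicalComplex

namespace Groth.Agent.DerLib.KInjLift

open AcyclicMono

variable {A : Type u} [Category.{v} A] [Abelian A]

/-- The extension property along monomorphic quasi-isomorphisms. -/
def HasExt (I : CochainComplex A ℤ) : Prop :=
  ∀ ⦃X Y : CochainComplex A ℤ⦄ (i : X ⟶ Y), T i → ∀ φ : X ⟶ I, ∃ ψ : Y ⟶ I, i ≫ ψ = φ

theorem hasExt_iff_shortExact (I : CochainComplex A ℤ) : HasExt I ↔
    ∀ (S : ShortComplex (CochainComplex A ℤ)), S.ShortExact → S.X₃.Acyclic →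
      ∀ φ : S.X₁ ⟶ I, ∃ ψ : S.X₂ ⟶ I, S.f ≫ ψ = φ := by
  refine ⟨fun h S hS hA φ => h S.f (T_of_shortExact hS hA) φ, fun h X Y i hi φ => ?_⟩
  obtain ⟨hm, hA⟩ := (T_iff i).1 hi
  exact h (ShortComplex.mk i _ (cokernel.condition i)) { exact := ShortComplex.exact_cokernel i }
    hA φ

/-- A disc complex. -/
noncomputable abbrev disc (X : A) (n : ℤ) : CochainComplex A ℤ :=
  double (𝟙 X) (show (ComplexShape.up ℤ).Rel n (n + 1) from rfl)

theorem acyclic_disc (X : A) (n : ℤ) : (disc X n).Acyclic := by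
  intro k
  have hne : n ≠ n + 1 := by omega
  have hiso : IsIso ((disc X n).d n (n + 1)) := by
    rw [double_d (𝟙 X) _ hne]
    infer_instance
  by_cases h₀ : k = n
  · subst h₀
    rw [exactAt_iff' _ (k - 1) k (k + 1) (by simp) (by simp),
      ShortComplex.exact_iff_mono _ ((isZero_double_X (𝟙 X) (show (ComplexShape.up ℤ).Rel _ _ from rfl) _ (by omega) (by omega)).eq_of_src _ _)]
    exact inferInstanceAs (Mono ((disc X k).d k (k + 1)))
  by_cases h₁ : k = n + 1
  · subst h₁
    rw [exactAt_iff' _ n (n + 1) (n + 1 + 1) (by simp) (by simp),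
      ShortComplex.exact_iff_epi _ ((isZero_double_X (𝟙 X) (show (ComplexShape.up ℤ).Rel _ _ from rfl) _ (by omega) (by omega)).eq_of_tgt _ _)]
    exact inferInstanceAs (Epi ((disc X n).d n (n + 1)))
  exact (exactAt_iff _ k).2 (ShortComplex.exact_of_isZero_X₂ _
    (isZero_double_X (𝟙 X) (show (ComplexShape.up ℤ).Rel n (n + 1) from rfl) k h₀ h₁))

theorem T_of_acyclic {X Y : CochainComplex A ℤ} (i : X ⟶ Y) [Mono i] (hX : X.Acyclic)
    (hY : Y.Acyclic) : T i := by
  refine ⟨inferInstanceAs (Mono i), (HomologicalComplex.mem_quasiIso_iff _).2 ?_⟩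
  rw [quasiIso_iff]
  intro n
  exact (quasiIsoAt_iff_exactAt i n (hX n)).2 (hY n)

theorem injective_of_hasExt {I : CochainComplex A ℤ} (h : HasExt I) (n : ℤ) :
    Injective (I.X n) := by
  constructor
  intro X Y φ g hg
  have hne : n ≠ n + 1 := by omega
  have hrel : (ComplexShape.up ℤ).Rel n (n + 1) := rfl
  let ι : disc X n ⟶ disc Y n := mkHomFromDouble hrel hne (g ≫ (doubleXIso₀ (𝟙 Y) hrel).inv)
    (g ≫ (doubleXIso₁ (𝟙 Y) hrel hne).inv) (by simp [double_d (𝟙 Y) hrel hne])
    (fun k _ => by rw [double_d_eq_zero₀ (𝟙 Y) hrel (n + 1) k (by omega), comp_zero])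
  have hι : Mono ι := by
    refine HomologicalComplex.mono_of_mono_f _ fun k => ?_
    by_cases h₀ : k = n
    · subst h₀
      rw [mkHomFromDouble_f₀]
      infer_instance
    by_cases h₁ : k = n + 1
    · subst h₁
      rw [mkHomFromDouble_f₁]
      infer_instance
    exact (isZero_double_X (𝟙 X) hrel k h₀ h₁).mono _
  let f : disc X n ⟶ I := mkHomFromDouble hrel hne φ (φ ≫ I.d n (n + 1)) (by simp)
    (fun k _ => by simp)
  obtain ⟨ψ, hψ⟩ := h ι (T_of_acyclic ι (acyclic_disc X n) (acyclic_disc Y n)) f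
  refine ⟨(doubleXIso₀ (𝟙 Y) hrel).inv ≫ ψ.f n, ?_⟩
  have := congrArg (fun t : disc X n ⟶ I => t.f n) hψ
  simp only [comp_f, ι, f, mkHomFromDouble_f₀, Category.assoc, Iso.cancel_iso_hom_left] at this
  exact this

theorem isKInjective_of_hasExt {I : CochainComplex A ℤ} (h : HasExt I) : I.IsKInjective := by
  refine ⟨fun {K} f hK => ?_⟩
  have hcone : (CochainComplex.mappingCone (𝟙 K)).Acyclic := by
    rw [← HomotopyCategory.quotient_obj_mem_subcategoryAcyclic_iff_acyclic]
    refine ((HomotopyCategory.subcategoryAcyclic A).trW_iff_of_distinguished _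
      (HomotopyCategory.mappingCone_triangleh_distinguished (𝟙 K))).1 ?_
    rw [← HomotopyCategory.quasiIso_eq_trW_subcategoryAcyclic]
    exact (HomotopyCategory.quotient_map_mem_quasiIso_iff (𝟙 K)).2
      (MorphismProperty.id_mem _ K)
  let i := CochainComplex.mappingCone.inr (𝟙 K)
  have : Mono i := HomologicalComplex.mono_of_mono_f _ fun n =>
    SplitMono.mono ⟨(CochainComplex.mappingCone.snd (𝟙 K)).v n n (add_zero n), by simp [i]⟩
  obtain ⟨ψ, hψ⟩ := h i (T_of_acyclic i hK hcone) f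
  refine ⟨HomotopyCategory.homotopyOfEq _ _ ?_⟩
  have h0 := Pretriangulated.comp_distTriang_mor_zero₁₂ _
    (HomotopyCategory.mappingCone_triangleh_distinguished (𝟙 K))
  have h1 : (HomotopyCategory.quotient A (ComplexShape.up ℤ)).map i = 0 := by
    have h2 : (HomotopyCategory.quotient A (ComplexShape.up ℤ)).map (𝟙 K) ≫
        (HomotopyCategory.quotient A (ComplexShape.up ℤ)).map i = 0 := h0
    rwa [CategoryTheory.Functor.map_id, Category.id_comp] at h2
  rw [← hψ, Functor.map_comp, h1, zero_comp, Functor.map_zero]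

theorem hasExt_of_isKInjective {I : CochainComplex A ℤ} [I.IsKInjective]
    (hI : ∀ n, Injective (I.X n)) : HasExt I := by
  intro K L α hα γ
  obtain ⟨hm, hA⟩ := (T_iff α).1 hα
  have hαn : ∀ n, Mono (α.f n) := fun n => inferInstance
  obtain ⟨Z₀, hZ₀⟩ : ∃ Z : CochainComplex A ℤ, IsZero Z := HasZeroObject.zero
  have sq : CommSq γ α (0 : I ⟶ Z₀) (0 : L ⟶ Z₀) := ⟨by simp⟩
  have hsq : ∀ n, (sq.map (HomologicalComplex.eval _ _ n)).LiftStruct := fun n =>
    { l := (Injective.factorThru (γ.f n) (α.f n) : L.X n ⟶ I.X n)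
      fac_left := @Injective.comp_factorThru A _ (I.X n) (K.X n) (L.X n) (hI n) (γ.f n) (α.f n)
        (hαn n)
      fac_right := (Functor.map_isZero (HomologicalComplex.eval A _ n) hZ₀).eq_of_tgt _ _ }
  have hK : IsLimit (KernelFork.ofι (𝟙 I) (show 𝟙 I ≫ (0 : I ⟶ Z₀) = 0 from comp_zero)) :=
    KernelFork.IsLimit.ofId _ rfl
  obtain ⟨c, hc⟩ := CochainComplex.IsKInjective.eq_δ_of_cocycle
    (CochainComplex.Lifting.cocycle₁ sq hsq (hπ := cokernel.condition α) (cokernelIsCokernel α) hK)
    hA 0 (by simp)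
  have := CochainComplex.Lifting.hasLift sq hsq (hπ := cokernel.condition α)
    (cokernelIsCokernel α) hK c hc
  exact ⟨sq.lift, sq.fac_left⟩

end Groth.Agent.DerLib.KInjLift
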