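/-
In a Grothendieck abelian category, a quotient map onto a nonzero acyclic complex has a small
subcomplex whose image is nonzero and acyclic.
-/
import Groth.Agent.DerLib.AcyclicMono
import Mathlib.CategoryTheory.Abelian.GrothendieckCategory.Subobject
import Mathlib.CategoryTheory.Abelian.Refinements

set_option linter.unusedSectionVars false
set_option linter.style.haveILetI false

universe v u

open CategoryTheory Limits HomologicalComplex

namespace Groth.Agent.DerLib.SmallAcyclic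

variable {A : Type u} [Category.{v} A] [Abelian A] [IsGrothendieckAbelian.{v} A]

variable (A) in
/-- A separator. -/
noncomputable abbrev U : A := separator A

/-- Indices for maps from `U` to quotients of `X`. -/
abbrev K (X : A) : Type v := Shrink.{v} (Σ Q : Subobject X, (U A ⟶ cokernel Q.arrow))

variable (A) in
/-- Indices for subobjects of `U`. -/
abbrev V : Type v := Shrink.{v} (Subobject (U A))

variable (A) in
/-- The bounds for the stages. -/
noncomputable def G : ℕ → A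
  | 0 => U A
  | k + 1 => G k ⊞ ((∐ fun _ : K (G k) × V A => U A) ⊞ (∐ fun _ : K (G k) × V A => U A))

variable (A) in
/-- The bound for the small subcomplexes. -/
noncomputable def GInf : A := ∐ fun k : ULift.{v} ℕ => G A k.down

theorem fac_assoc' {X Y Z : A} (p : X ⟶ Y) (h : Y ⟶ Z) :
    Abelian.factorThruImage p ≫ Abelian.image.ι p ≫ h = p ≫ h := by
  rw [← Category.assoc, Abelian.image.fac]

theorem exists_image_lift {X Y : A} (p : X ⟶ Y) (v : U A ⟶ Abelian.image p) :
    ∃ (Q : Subobject X) (v' : U A ⟶ cokernel Q.arrow) (h : Q.arrow ≫ p = 0),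
      v' ≫ cokernel.desc Q.arrow p h = v ≫ Abelian.image.ι p := by
  let g := Abelian.factorThruImage p
  let Q : Subobject X := kernelSubobject g
  have hQ : Q.arrow ≫ g = 0 := kernelSubobject_arrow_comp g
  have hp : Q.arrow ≫ p = 0 := by
    rw [← Abelian.image.fac p, reassoc_of% hQ, zero_comp]
  have hex : (ShortComplex.mk Q.arrow g hQ).Exact := by
    rw [ShortComplex.exact_iff_exact_up_to_refinements]
    intro T x hx
    exact ⟨T, 𝟙 T, inferInstance, factorThruKernelSubobject g x hx, by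
      rw [Category.id_comp]; exact (factorThruKernelSubobject_comp_arrow g x hx).symm⟩
  haveI : Epi (ShortComplex.mk Q.arrow g hQ).g := inferInstanceAs (Epi g)
  let e := hex.gIsCokernel.desc (CokernelCofork.ofπ (cokernel.π Q.arrow) (cokernel.condition _))
  have he : g ≫ e = cokernel.π Q.arrow :=
    hex.gIsCokernel.fac (CokernelCofork.ofπ (cokernel.π Q.arrow) (cokernel.condition _))
      WalkingParallelPair.one
  refine ⟨Q, v ≫ e, hp, ?_⟩
  rw [Category.assoc]
  congr 1
  rw [← cancel_epi g, reassoc_of% he, cokernel.π_desc]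
  exact (Abelian.image.fac p).symm

section

variable {B C : CochainComplex A ℤ} (π : B ⟶ C)

theorem exists_lifts (hC : C.Acyclic) [Epi π] (m n : ℤ) (hmn : m + 1 = n) (u : U A ⟶ B.X n)
    (hu : u ≫ B.d n (n + 1) ≫ π.f (n + 1) = 0) :
    ∃ (r : V A → (U A ⟶ U A)) (y : V A → (U A ⟶ B.X m)), Epi (Sigma.desc r) ∧
      ∀ i, r i ≫ u ≫ π.f n = y i ≫ B.d m n ≫ π.f n := by
  classical
  have hex := (C.exactAt_iff' m n (n + 1) (by simp; omega) (by simp)).1 (hC n)
  obtain ⟨T₁, ρ, hρ, y₁, hy₁⟩ := hex.exact_up_to_refinements (u ≫ π.f n)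
    ((Category.assoc _ _ _).trans ((congrArg (u ≫ ·) (π.comm n (n + 1))).trans hu))
  obtain ⟨T₂, ρ', hρ', z, hz⟩ := surjective_up_to_refinements_of_epi (π.f m) y₁
  let r₂ := ρ' ≫ ρ
  have hr₂ : r₂ ≫ u ≫ π.f n = z ≫ B.d m n ≫ π.f n := by
    have hy₁' : ρ ≫ u ≫ π.f n = (y₁ : T₁ ⟶ C.X m) ≫ C.d m n := hy₁
    have hz' : ρ' ≫ (y₁ : T₁ ⟶ C.X m) = z ≫ π.f m := hz
    dsimp only [r₂]
    rw [Category.assoc, hy₁', ← Category.assoc ρ', hz']
    exact (Category.assoc _ _ _).trans (congrArg (z ≫ ·) (π.comm m n))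
  have hch : ∀ i : V A, ∃ g : U A ⟶ T₂,
      ∀ g' : U A ⟶ T₂, imageSubobject (g' ≫ r₂) = (equivShrink _).symm i →
        imageSubobject (g ≫ r₂) = (equivShrink _).symm i := by
    intro i
    by_cases h : ∃ g' : U A ⟶ T₂, imageSubobject (g' ≫ r₂) = (equivShrink _).symm i
    · exact ⟨h.choose, fun _ _ => h.choose_spec⟩
    · exact ⟨0, fun g' hg' => absurd ⟨g', hg'⟩ h⟩
  choose g hg using hch
  refine ⟨fun i => g i ≫ r₂, fun i => g i ≫ z, ?_, fun i => by simp [hr₂]⟩
  refine Preadditive.epi_of_cancel_zero _ fun {W} q hq => ?_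
  rw [← cancel_epi r₂, comp_zero]
  refine (isSeparator_separator A).def _ _ fun g' => ?_
  rw [comp_zero]
  set i : V A := equivShrink _ (imageSubobject (g' ≫ r₂))
  have hi : imageSubobject (g i ≫ r₂) = imageSubobject (g' ≫ r₂) :=
    (hg i g' (by simp [i])).trans (by simp [i])
  have h0 : g i ≫ r₂ ≫ q = 0 := by
    have := Sigma.ι (fun _ : V A => U A) i ≫= hq
    simpa using this
  have h1 : (imageSubobject (g i ≫ r₂)).arrow ≫ q = 0 := by
    rw [← cancel_epi (factorThruImageSubobject (g i ≫ r₂)), imageSubobject_arrow_comp_assoc,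
      Category.assoc, h0, comp_zero]
  have h2 : (imageSubobject (g' ≫ r₂)).arrow ≫ q = 0 := by rw [← hi]; exact h1
  rw [← Category.assoc, ← imageSubobject_arrow_comp (g' ≫ r₂), Category.assoc, h2, comp_zero]

theorem exists_step (hC : C.Acyclic) [Epi π] (X : A) (p : ∀ n, X ⟶ B.X n)
    (hp : ∀ n, ∃ f, p n ≫ B.d n (n + 1) = f ≫ p (n + 1)) :
    ∃ p' : ∀ n, (X ⊞ ((∐ fun _ : K X × V A => U A) ⊞ (∐ fun _ : K X × V A => U A))) ⟶ B.X n,
      (∀ n, ∃ f, p' n ≫ B.d n (n + 1) = f ≫ p' (n + 1)) ∧ (∀ n, biprod.inl ≫ p' n = p n) ∧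
      ∀ (m n : ℤ), m + 1 = n → ∀ v : U A ⟶ Abelian.image (p n),
        v ≫ Abelian.image.ι (p n) ≫ B.d n (n + 1) ≫ π.f (n + 1) = 0 →
        ∃ (r : V A → (U A ⟶ U A)) (a : V A → (U A ⟶ Abelian.image (p' m))),
          Epi (Sigma.desc r) ∧ ∀ i, r i ≫ v ≫ Abelian.image.ι (p n) ≫ π.f n =
            a i ≫ Abelian.image.ι (p' m) ≫ B.d m n ≫ π.f n := by
  classical
  let uOf : ∀ n, K X → (U A ⟶ B.X n) := fun n t =>
    if h : ((equivShrink _).symm t).1.arrow ≫ p n = 0 then
      ((equivShrink _).symm t).2 ≫ cokernel.desc _ (p n) h else 0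
  have hz : ∀ m t, ∃ (r : V A → (U A ⟶ U A)) (y : V A → (U A ⟶ B.X m)),
      uOf (m + 1) t ≫ B.d (m + 1) (m + 1 + 1) ≫ π.f (m + 1 + 1) = 0 → Epi (Sigma.desc r) ∧
        ∀ i, r i ≫ uOf (m + 1) t ≫ π.f (m + 1) = y i ≫ B.d m (m + 1) ≫ π.f (m + 1) := by
    intro m t
    by_cases h : uOf (m + 1) t ≫ B.d (m + 1) (m + 1 + 1) ≫ π.f (m + 1 + 1) = 0
    · obtain ⟨r, y, h₁, h₂⟩ := exists_lifts π hC m (m + 1) rfl (uOf (m + 1) t) h
      exact ⟨r, y, fun _ => ⟨h₁, h₂⟩⟩
    · exact ⟨fun _ => 0, fun _ => 0, fun h' => absurd h' h⟩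
  choose r y hry using hz
  let p' : ∀ n, (X ⊞ ((∐ fun _ : K X × V A => U A) ⊞ (∐ fun _ : K X × V A => U A))) ⟶ B.X n :=
    fun n => biprod.desc (p n) (biprod.desc (Sigma.desc fun x => y n x.1 x.2)
      (Sigma.desc fun x => y (n - 1) x.1 x.2 ≫ B.d (n - 1) n))
  refine ⟨p', fun n => ?_, fun n => biprod.inl_desc _ _, fun m n hmn v hv => ?_⟩
  · obtain ⟨f, hf⟩ := hp n
    have key : ∀ (i : ℤ) (x : K X × V A), i = n →
        y i x.1 x.2 ≫ B.d i (n + 1) = y n x.1 x.2 ≫ B.d n (n + 1) := by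
      rintro i x rfl; rfl
    refine ⟨biprod.desc (f ≫ biprod.inl) (biprod.desc (biprod.inr ≫ biprod.inr) 0), ?_⟩
    apply biprod.hom_ext'
    · simp [p', hf]
    · apply biprod.hom_ext'
      · simp only [p', biprod.inr_desc_assoc, biprod.inl_desc_assoc, Category.assoc,
          biprod.inr_desc]
        refine Sigma.hom_ext _ _ fun x => ?_
        simp [key (n + 1 - 1) x (by omega)]
      · simp only [p', biprod.inr_desc_assoc, zero_comp]
        refine Sigma.hom_ext _ _ fun x => ?_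
        simp
  · subst hmn
    obtain ⟨Q, v', hQ, hv'⟩ := exists_image_lift (p (m + 1)) v
    let t : K X := equivShrink _ ⟨Q, v'⟩
    have hu : uOf (m + 1) t = v ≫ Abelian.image.ι (p (m + 1)) := by
      rw [← hv']
      dsimp only [uOf, t]
      rw [Equiv.symm_apply_apply, dif_pos hQ]
    obtain ⟨h₁, h₂⟩ := hry m t (by rw [hu, Category.assoc]; exact hv)
    refine ⟨r m t, fun i => Sigma.ι (fun _ : K X × V A => U A) (t, i) ≫ biprod.inl ≫ biprod.inr ≫
      Abelian.factorThruImage (p' m), h₁, fun i => ?_⟩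
    have := h₂ i
    rw [hu, Category.assoc] at this
    rw [this]
    simp only [Category.assoc, fac_assoc']
    simp [p']

theorem exists_small (hC : C.Acyclic) [Epi π] (n₀ : ℤ) (u₀ : U A ⟶ B.X n₀)
    (hu₀ : u₀ ≫ π.f n₀ ≠ 0) :
    ∃ (P : CochainComplex A ℤ) (j : P ⟶ B) (I : CochainComplex A ℤ) (θ : P ⟶ I) (i : I ⟶ C),
      Mono j ∧ Epi θ ∧ Mono i ∧ θ ≫ i = j ≫ π ∧ I.Acyclic ∧ j ≫ π ≠ 0 ∧
      ∀ n, ∃ e : GInf A ⟶ P.X n, Epi e := by
  classical
  have h0 : ∃ p : ∀ n, U A ⟶ B.X n, p n₀ = u₀ ∧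
      ∀ n, ∃ f, p n ≫ B.d n (n + 1) = f ≫ p (n + 1) := by
    refine ⟨fun n => if h : n₀ = n then u₀ ≫ (XIsoOfEq B h).hom else u₀ ≫ B.d n₀ n,
      by simp, fun n => ?_⟩
    by_cases h : n₀ = n
    · subst h
      refine ⟨𝟙 _, ?_⟩
      simp
    · refine ⟨0, ?_⟩
      simp [h]
  obtain ⟨p₀, hp₀, hc₀⟩ := h0
  choose nx hnxc hnxl hnxs using fun k (s : {p : ∀ n, G A k ⟶ B.X n //
      ∀ n, ∃ f, p n ≫ B.d n (n + 1) = f ≫ p (n + 1)}) => exists_step π hC (G A k) s.1 s.2
  let S : ∀ k, {p : ∀ n, G A k ⟶ B.X n // ∀ n, ∃ f, p n ≫ B.d n (n + 1) = f ≫ p (n + 1)} :=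
    fun k => Nat.rec (motive := fun k => {p : ∀ n, G A k ⟶ B.X n //
      ∀ n, ∃ f, p n ≫ B.d n (n + 1) = f ≫ p (n + 1)}) ⟨p₀, hc₀⟩
      (fun k s => ⟨nx k s, hnxc k s⟩) k
  have hd : ∀ k n, Abelian.image.ι ((S k).1 n) ≫ B.d n (n + 1) ≫
      cokernel.π ((S k).1 (n + 1)) = 0 := fun k n => by
    obtain ⟨f, hf⟩ := (S k).2 n
    rw [← cancel_epi (Abelian.factorThruImage ((S k).1 n)), fac_assoc', comp_zero,
      reassoc_of% hf, cokernel.condition, comp_zero]
  let P : ℕ → CochainComplex A ℤ := fun k => CochainComplex.of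
    (fun n => Abelian.image ((S k).1 n))
    (fun n => kernel.lift _ (Abelian.image.ι ((S k).1 n) ≫ B.d n (n + 1))
      (by rw [Category.assoc]; exact hd k n))
    (fun n => by
      rw [← cancel_mono (Abelian.image.ι _), Category.assoc, kernel.lift_ι, zero_comp,
        ← Category.assoc, kernel.lift_ι, Category.assoc, d_comp_d, comp_zero])
  let j : ∀ k, P k ⟶ B := fun k =>
    { f := fun n => Abelian.image.ι ((S k).1 n)
      comm' := fun a b hab => by
        obtain rfl : a + 1 = b := hab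
        dsimp [P]
        rw [CochainComplex.of_d, kernel.lift_ι] }
  have hj : ∀ k n, Mono ((j k).f n) := fun k n => inferInstanceAs (Mono (Abelian.image.ι _))
  haveI : ∀ k, Mono (j k) := fun k => HomologicalComplex.mono_of_mono_f _ (hj k)
  have hsucc : ∀ k, ∃ φ : P k ⟶ P (k + 1), φ ≫ j (k + 1) = j k := fun k => by
    have h : ∀ n, Abelian.image.ι ((S k).1 n) ≫ cokernel.π ((S (k + 1)).1 n) = 0 := fun n => by
      rw [← cancel_epi (Abelian.factorThruImage ((S k).1 n)), fac_assoc', comp_zero]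
      exact (congrArg (· ≫ cokernel.π ((S (k + 1)).1 n)) (hnxl k (S k) n).symm).trans
        ((Category.assoc _ _ _).trans ((congrArg (biprod.inl ≫ ·)
          (cokernel.condition ((S (k + 1)).1 n))).trans comp_zero))
    refine ⟨{ f := fun n => kernel.lift _ _ (h n), comm' := fun a b hab => ?_ }, ?_⟩
    · rw [← cancel_mono ((j (k + 1)).f b), Category.assoc, Category.assoc, ← (j (k + 1)).comm]
      erw [kernel.lift_ι_assoc, kernel.lift_ι]
      exact (j k).comm a b
    · ext n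
      exact kernel.lift_ι _ _ _
  have hmono : ∀ a b : ULift.{v} ℕ, a ≤ b → ∃ φ : P a.down ⟶ P b.down, φ ≫ j b.down = j a.down := by
    rintro ⟨a⟩ ⟨b⟩ (hab : a ≤ b)
    induction hab with
    | refl => exact ⟨𝟙 _, Category.id_comp _⟩
    | @step b _ ih =>
      obtain ⟨φ, hφ⟩ := ih
      obtain ⟨ψ, hψ⟩ := hsucc b
      exact ⟨φ ≫ ψ, by rw [Category.assoc, hψ, hφ]⟩
  let F : ULift.{v} ℕ ⥤ MonoOver B :=
    { obj := fun k => MonoOver.mk (j k.down)
      map := fun {a b} h => MonoOver.homMk (hmono a b (leOfHom h)).choose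
        (hmono a b (leOfHom h)).choose_spec
      map_id := fun _ => Subsingleton.elim _ _
      map_comp := fun _ _ => Subsingleton.elim _ _ }
  have hq : ∀ a b : ULift.{v} ℕ, a ≤ b →
      ∃ φ : Abelian.image (j a.down ≫ π) ⟶ Abelian.image (j b.down ≫ π),
        φ ≫ Abelian.image.ι _ = Abelian.image.ι _ := fun a b hab => by
    obtain ⟨φ, hφ⟩ := hmono a b hab
    refine ⟨kernel.lift _ (Abelian.image.ι (j a.down ≫ π)) ?_, kernel.lift_ι _ _ _⟩
    rw [← cancel_epi (Abelian.factorThruImage (j a.down ≫ π)), fac_assoc', comp_zero,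
      ← hφ, Category.assoc, Category.assoc, ← Category.assoc (j b.down) π, cokernel.condition,
      comp_zero]
  let F' : ULift.{v} ℕ ⥤ MonoOver C :=
    { obj := fun k => MonoOver.mk (Abelian.image.ι (j k.down ≫ π))
      map := fun {a b} h => MonoOver.homMk (hq a b (leOfHom h)).choose
        (hq a b (leOfHom h)).choose_spec
      map_id := fun _ => Subsingleton.elim _ _
      map_comp := fun _ _ => Subsingleton.elim _ _ }
  let D := F ⋙ MonoOver.forget _ ⋙ Over.forget _
  let D' := F' ⋙ MonoOver.forget _ ⋙ Over.forget _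
  let f : colimit D ⟶ B := colimit.desc D (Cocone.mk B
    { app := fun k => j k.down
      naturality := fun a b h => (MonoOver.w (F.map h)).trans (Category.comp_id _).symm })
  let f' : colimit D' ⟶ C := colimit.desc D' (Cocone.mk C
    { app := fun k => Abelian.image.ι (j k.down ≫ π)
      naturality := fun a b h => (MonoOver.w (F'.map h)).trans (Category.comp_id _).symm })
  let α : D ⟶ D' :=
    { app := fun k => Abelian.factorThruImage (j k.down ≫ π)
      naturality := fun a b h => by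
        apply (cancel_mono (Abelian.image.ι (j b.down ≫ π))).1
        have hF : D.map h ≫ j b.down = j a.down := MonoOver.w (F.map h)
        have hF' : D'.map h ≫ Abelian.image.ι (j b.down ≫ π) =
            Abelian.image.ι (j a.down ≫ π) := MonoOver.w (F'.map h)
        calc (D.map h ≫ Abelian.factorThruImage (j b.down ≫ π)) ≫ Abelian.image.ι (j b.down ≫ π)
            = D.map h ≫ j b.down ≫ π :=
              (Category.assoc _ _ _).trans (congrArg (D.map h ≫ ·) (Abelian.image.fac _))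
          _ = j a.down ≫ π := (Category.assoc _ _ _).symm.trans (congrArg (· ≫ π) hF)
          _ = (Abelian.factorThruImage (j a.down ≫ π) ≫ D'.map h) ≫
              Abelian.image.ι (j b.down ≫ π) :=
              (Abelian.image.fac _).symm.trans
                ((congrArg (Abelian.factorThruImage (j a.down ≫ π) ≫ ·) hF'.symm).trans
                  (Category.assoc _ _ _).symm) }
  let θ : colimit D ⟶ colimit D' := colimMap α
  have hfmono : Mono f := IsGrothendieckAbelian.mono_of_isColimit_monoOver F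
    (colimit.isColimit D) f (fun k => colimit.ι_desc _ _)
  have hf'mono : Mono f' := IsGrothendieckAbelian.mono_of_isColimit_monoOver F'
    (colimit.isColimit D') f' (fun k => colimit.ι_desc _ _)
  have hαe : ∀ k, Epi (α.app k) := fun k =>
    inferInstanceAs (Epi (Abelian.factorThruImage (j k.down ≫ π)))
  have hθepi : Epi θ := ⟨fun a b hab => colimit.hom_ext fun k => by
    have := colimit.ι D k ≫= hab
    exact (cancel_epi (α.app k)).1 (by simpa [θ] using this)⟩
  have hθ : θ ≫ f' = f ≫ π := colimit.hom_ext fun k => by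
    simp only [θ, ι_colimMap_assoc, f, f', colimit.ι_desc_assoc]
    rw [colimit.ι_desc]
    exact Abelian.image.fac _
  refine ⟨colimit D, f, colimit D', θ, f', hfmono, hθepi, hf'mono, hθ, fun n => ?_, ?_, fun n => ?_⟩
  · refine AcyclicMono.exactAt_colimit D' (colimit.isColimit D') n fun k =>
      ⟨⟨k.down + 1⟩, homOfLE (show k.down ≤ k.down + 1 from Nat.le_succ _), ?_⟩
    set φ := D'.map (homOfLE (show k.down ≤ k.down + 1 from Nat.le_succ _) :
      k ⟶ ⟨k.down + 1⟩) with hφdef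
    have hφ : φ ≫ Abelian.image.ι (j (k.down + 1) ≫ π) = Abelian.image.ι (j k.down ≫ π) :=
      MonoOver.w (F'.map (homOfLE (show k.down ≤ k.down + 1 from Nat.le_succ _) :
        k ⟶ ⟨k.down + 1⟩))
    rw [← cancel_epi ((D'.obj k).homologyπ n), homologyπ_naturality, comp_zero]
    let x := (D'.obj k).iCycles n
    obtain ⟨T₁, ρ, hρ, y₀, hy₀⟩ :=
      surjective_up_to_refinements_of_epi ((Abelian.factorThruImage (j k.down ≫ π)).f n) x
    have hyd : ∀ g : U A ⟶ T₁, (g ≫ y₀) ≫ Abelian.image.ι ((S k.down).1 n) ≫ B.d n (n + 1) ≫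
        π.f (n + 1) = 0 := by
      intro g
      let ιk := Abelian.image.ι (j k.down ≫ π)
      have e1 : (Abelian.factorThruImage (j k.down ≫ π)).f n ≫ ιk.f n =
          (j k.down).f n ≫ π.f n := by
        rw [← comp_f, Abelian.image.fac, comp_f]
      have e2 : x ≫ (D'.obj k).d n (n + 1) = 0 := (D'.obj k).iCycles_d n (n + 1)
      have e3 : y₀ ≫ (j k.down).f n ≫ π.f n ≫ C.d n (n + 1) = 0 :=
        calc y₀ ≫ (j k.down).f n ≫ π.f n ≫ C.d n (n + 1)
            = y₀ ≫ ((j k.down).f n ≫ π.f n) ≫ C.d n (n + 1) :=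
              congrArg (y₀ ≫ ·) (Category.assoc _ _ _).symm
          _ = y₀ ≫ ((Abelian.factorThruImage (j k.down ≫ π)).f n ≫ ιk.f n) ≫ C.d n (n + 1) :=
              congrArg (fun t => y₀ ≫ t ≫ C.d n (n + 1)) e1.symm
          _ = (y₀ ≫ (Abelian.factorThruImage (j k.down ≫ π)).f n) ≫ ιk.f n ≫ C.d n (n + 1) :=
              (congrArg (y₀ ≫ ·) (Category.assoc _ _ _)).trans (Category.assoc _ _ _).symm
          _ = (ρ ≫ x) ≫ (D'.obj k).d n (n + 1) ≫ ιk.f (n + 1) :=
              (congrArg (· ≫ ιk.f n ≫ C.d n (n + 1)) hy₀.symm).trans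
                (congrArg ((ρ ≫ x) ≫ ·) (ιk.comm n (n + 1)))
          _ = ρ ≫ (x ≫ (D'.obj k).d n (n + 1)) ≫ ιk.f (n + 1) :=
              (Category.assoc _ _ _).trans (congrArg (ρ ≫ ·) (Category.assoc _ _ _).symm)
          _ = 0 := by rw [e2, zero_comp, comp_zero]
      refine (Category.assoc g y₀ _).trans (Eq.trans (congrArg (g ≫ ·) ?_) comp_zero)
      exact (congrArg (fun t => y₀ ≫ (j k.down).f n ≫ t) (π.comm n (n + 1)).symm).trans e3
    choose r a hr hra using fun g : U A ⟶ T₁ =>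
      hnxs k.down (S k.down) (n - 1) n (by omega) (g ≫ y₀) (hyd g)
    let T := ∐ fun _ : (U A ⟶ T₁) × V A => U A
    let q : T ⟶ T₁ := Sigma.desc fun gi => r gi.1 gi.2 ≫ gi.1
    haveI : Epi q := by
      refine Preadditive.epi_of_cancel_zero _ fun {W} w hw => ?_
      refine (isSeparator_separator A).def _ _ fun g => ?_
      rw [comp_zero]
      haveI := hr g
      rw [← cancel_epi (Sigma.desc (r g)), comp_zero]
      refine Sigma.hom_ext _ _ fun i => ?_
      have := Sigma.ι (fun _ : (U A ⟶ T₁) × V A => U A) (g, i) ≫= hw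
      simpa [q] using this
    let y : T ⟶ (D'.obj ⟨k.down + 1⟩).X (n - 1) := Sigma.desc fun gi =>
      a gi.1 gi.2 ≫ (Abelian.factorThruImage (j (k.down + 1) ≫ π)).f (n - 1)
    have key : (q ≫ ρ) ≫ x ≫ φ.f n = y ≫ (D'.obj ⟨k.down + 1⟩).d (n - 1) n := by
      let ιk := Abelian.image.ι (j k.down ≫ π)
      let ι₁ := Abelian.image.ι (j (k.down + 1) ≫ π)
      have L1 : x ≫ φ.f n ≫ ι₁.f n = x ≫ ιk.f n := congrArg (fun t => x ≫ t.f n) hφ
      have L2 : ρ ≫ x ≫ ιk.f n = y₀ ≫ (j k.down).f n ≫ π.f n :=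
        (Category.assoc _ _ _).symm.trans ((congrArg (· ≫ ιk.f n) hy₀).trans
          ((Category.assoc _ _ _).trans (congrArg (fun t : P k.down ⟶ C => y₀ ≫ t.f n)
            (Abelian.image.fac (j k.down ≫ π)))))
      have R1 : (Abelian.factorThruImage (j (k.down + 1) ≫ π)).f (n - 1) ≫
          (D'.obj ⟨k.down + 1⟩).d (n - 1) n ≫ ι₁.f n =
          (j (k.down + 1)).f (n - 1) ≫ B.d (n - 1) n ≫ π.f n :=
        (congrArg ((Abelian.factorThruImage (j (k.down + 1) ≫ π)).f (n - 1) ≫ ·)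
            (ι₁.comm (n - 1) n).symm).trans
          ((Category.assoc _ _ _).symm.trans ((congrArg (fun t : P (k.down + 1) ⟶ C =>
            t.f (n - 1) ≫ C.d (n - 1) n) (Abelian.image.fac (j (k.down + 1) ≫ π))).trans
              ((Category.assoc _ _ _).trans (congrArg ((j (k.down + 1)).f (n - 1) ≫ ·)
                (π.comm (n - 1) n)))))
      apply (cancel_mono (ι₁.f n)).1
      refine Sigma.hom_ext _ _ fun gi => ?_
      calc Sigma.ι (fun _ : (U A ⟶ T₁) × V A => U A) gi ≫ ((q ≫ ρ) ≫ x ≫ φ.f n) ≫ ι₁.f n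
          = (Sigma.ι (fun _ : (U A ⟶ T₁) × V A => U A) gi ≫ q) ≫ ρ ≫ x ≫ φ.f n ≫ ι₁.f n := by
            simp only [Category.assoc]
        _ = (r gi.1 gi.2 ≫ gi.1) ≫ ρ ≫ x ≫ ιk.f n := by
            rw [Sigma.ι_desc]
            exact congrArg (fun t => (r gi.1 gi.2 ≫ gi.1) ≫ ρ ≫ t) L1
        _ = (r gi.1 gi.2 ≫ gi.1) ≫ y₀ ≫ (j k.down).f n ≫ π.f n :=
            congrArg ((r gi.1 gi.2 ≫ gi.1) ≫ ·) L2
        _ = r gi.1 gi.2 ≫ (gi.1 ≫ y₀) ≫ (j k.down).f n ≫ π.f n :=
            (Category.assoc _ _ _).trans (congrArg (r gi.1 gi.2 ≫ ·) (Category.assoc _ _ _).symm)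
        _ = a gi.1 gi.2 ≫ (j (k.down + 1)).f (n - 1) ≫ B.d (n - 1) n ≫ π.f n := hra gi.1 gi.2
        _ = a gi.1 gi.2 ≫ (Abelian.factorThruImage (j (k.down + 1) ≫ π)).f (n - 1) ≫
              (D'.obj ⟨k.down + 1⟩).d (n - 1) n ≫ ι₁.f n :=
            congrArg (a gi.1 gi.2 ≫ ·) R1.symm
        _ = (Sigma.ι (fun _ : (U A ⟶ T₁) × V A => U A) gi ≫ y) ≫
              (D'.obj ⟨k.down + 1⟩).d (n - 1) n ≫ ι₁.f n := by
            rw [Sigma.ι_desc]
            exact (Category.assoc _ _ _).symm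
        _ = _ := (Category.assoc _ _ _).trans (congrArg (Sigma.ι
            (fun _ : (U A ⟶ T₁) × V A => U A) gi ≫ ·) (Category.assoc _ _ _).symm)
    haveI : Epi (q ≫ ρ) := epi_comp _ _
    rw [← cancel_epi (q ≫ ρ), comp_zero, ← Category.assoc]
    have : (q ≫ ρ) ≫ cyclesMap φ n = y ≫ (D'.obj ⟨k.down + 1⟩).toCycles (n - 1) n := by
      refine (cancel_mono ((D'.obj ⟨k.down + 1⟩).iCycles n)).1 ?_
      refine ((Category.assoc _ _ _).trans (congrArg ((q ≫ ρ) ≫ ·) (cyclesMap_i φ n))).trans ?_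
      exact key.trans ((congrArg (y ≫ ·) ((D'.obj ⟨k.down + 1⟩).toCycles_i (n - 1) n)).symm.trans
        (Category.assoc _ _ _).symm)
    rw [this, Category.assoc, toCycles_comp_homologyπ, comp_zero]
  · intro h
    have h1 : j 0 ≫ π = 0 := by
      have := colimit.ι D ⟨0⟩ ≫= h
      rw [comp_zero, ← Category.assoc] at this
      exact ((congrArg (· ≫ π) (colimit.ι_desc _ _)).symm.trans this :)
    apply hu₀
    have h2 : (S 0).1 n₀ ≫ π.f n₀ = 0 := by
      rw [← Abelian.image.fac ((S 0).1 n₀), Category.assoc,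
        show Abelian.image.ι ((S 0).1 n₀) ≫ π.f n₀ = (j 0 ≫ π).f n₀ from rfl, h1]
      simp
    exact (congrArg (· ≫ π.f n₀) hp₀.symm).trans h2
  · refine ⟨Sigma.desc fun k => Abelian.factorThruImage ((S k.down).1 n) ≫
      (colimit.ι D k).f n, ?_⟩
    refine Preadditive.epi_of_cancel_zero _ fun {W} w hw => ?_
    refine (isColimitOfPreserves (eval A (ComplexShape.up ℤ) n) (colimit.isColimit D)).hom_ext
      fun k => ?_
    have := Sigma.ι (fun k : ULift.{v} ℕ => G A k.down) k ≫= hw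
    refine Eq.trans ?_ comp_zero.symm
    refine (cancel_epi (Abelian.factorThruImage ((S k.down).1 n))).1
      (Eq.trans ?_ comp_zero.symm)
    exact (Category.assoc _ _ _).symm.trans ((congrArg (· ≫ w) (Sigma.ι_desc (f := fun k : ULift.{v} ℕ => G A k.down)
      (fun k => Abelian.factorThruImage ((S k.down).1 n) ≫ (colimit.ι D k).f n) k).symm).trans
      ((Category.assoc _ _ _).trans (this.trans comp_zero)))

end

end Groth.Agent.DerLib.SmallAcyclic
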