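/-
K-injective resolutions in Grothendieck abelian categories.
-/
import Groth.Agent.DerLib.SmallAcyclic
import Groth.Agent.DerLib.KInjLift
import Mathlib.Order.Zorn
import Mathlib.SetTheory.Cardinal.HasCardinalLT

set_option linter.unusedSectionVars false
set_option linter.style.haveILetI false

universe v u

open CategoryTheory Limits HomologicalComplex MorphismProperty

namespace Groth.Agent.DerLib.KInjRes

open AcyclicMono KInjLift SmallAcyclic

variable {A : Type u} [Category.{v} A] [Abelian A] [IsGrothendieckAbelian.{v} A]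

variable (A) in
/-- Small complexes. -/
abbrev Data : Type v :=
  Σ s : ℤ → Shrink.{v} (Subobject (GInf A)),
    {d : ∀ n, cokernel ((equivShrink _).symm (s n)).arrow ⟶
      cokernel ((equivShrink _).symm (s (n + 1))).arrow // ∀ n, d n ≫ d (n + 1) = 0}

/-- The complex of a datum. -/
noncomputable def cx (P : Data A) : CochainComplex A ℤ :=
  CochainComplex.of (fun n => cokernel ((equivShrink _).symm (P.1 n)).arrow) P.2.1 P.2.2

variable (A) in
/-- Indices of the generating trivial cofibrations. -/
abbrev WIdx : Type (max u v) := Σ P : Data A, {Q : Subobject (cx P) // T Q.arrow}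

instance : Small.{v} (WIdx A) := inferInstance

variable (A) in
/-- The generating trivial cofibrations. -/
def W : MorphismProperty (CochainComplex A ℤ) := ofHoms (fun x : WIdx A => x.2.1.arrow)

theorem W_le : W A ≤ T := by
  rintro _ _ _ ⟨x⟩
  exact x.2.2

instance : MorphismProperty.IsSmall.{v} (W A) := by
  dsimp [W]
  infer_instance

theorem exists_data (P : CochainComplex A ℤ) (h : ∀ n, ∃ e : GInf A ⟶ P.X n, Epi e) :
    ∃ P' : Data A, Nonempty (cx P' ≅ P) := by
  choose e he using h
  let s : ℤ → Shrink.{v} (Subobject (GInf A)) := fun n => equivShrink _ (kernelSubobject (e n))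
  have hc : ∀ n, Nonempty (cokernel ((equivShrink _).symm (s n)).arrow ≅ P.X n) := by
    intro n
    rw [show (equivShrink _).symm (s n) = kernelSubobject (e n) from Equiv.symm_apply_apply _ _]
    have hex : (ShortComplex.mk _ (e n) (kernelSubobject_arrow_comp (e n))).Exact := by
      rw [ShortComplex.exact_iff_exact_up_to_refinements]
      intro T x hx
      exact ⟨T, 𝟙 T, inferInstance, factorThruKernelSubobject (e n) x hx, by
        rw [Category.id_comp]; exact (factorThruKernelSubobject_comp_arrow (e n) x hx).symm⟩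
    haveI : Epi (ShortComplex.mk _ (e n) (kernelSubobject_arrow_comp (e n))).g :=
      inferInstanceAs (Epi (e n))
    exact ⟨IsColimit.coconePointUniqueUpToIso (cokernelIsCokernel _) hex.gIsCokernel⟩
  let c := fun n => (hc n).some
  refine ⟨⟨s, fun n => (c n).hom ≫ P.d n (n + 1) ≫ (c (n + 1)).inv, fun n => by simp⟩,
    ⟨HomologicalComplex.Hom.isoOfComponents c ?_⟩⟩
  rintro i j (rfl : i + 1 = j)
  dsimp [cx]
  simp [CochainComplex.of_d]

/-- A partial extension. -/
structure Partial {A₀ B : CochainComplex A ℤ} (i : A₀ ⟶ B) [Mono i] {I : CochainComplex A ℤ}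
    (φ : A₀ ⟶ I) where
  S : Subobject B
  le : Subobject.mk i ≤ S
  hT : T S.arrow
  ψ : (S : CochainComplex A ℤ) ⟶ I
  fac : Subobject.ofMkLE i S le ≫ ψ = φ

/-- The order on partial extensions. -/
def Partial.Le {A₀ B : CochainComplex A ℤ} {i : A₀ ⟶ B} [Mono i] {I : CochainComplex A ℤ}
    {φ : A₀ ⟶ I} (a b : Partial i φ) : Prop :=
  ∃ h : a.S ≤ b.S, Subobject.ofLE a.S b.S h ≫ b.ψ = a.ψ

/-- A type synonym, with no instances. -/
structure Wrap (α : Type v) where
  /-- The underlying element. -/
  val : α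

theorem exists_ub {A₀ B : CochainComplex A ℤ} {i : A₀ ⟶ B} [Mono i] {I : CochainComplex A ℤ}
    {φ : A₀ ⟶ I} (c : Set (Partial i φ)) (hc : IsChain Partial.Le c) (hne : c.Nonempty) :
    ∃ ub, ∀ a ∈ c, Partial.Le a ub := by
  classical
  let St : Set (Subobject B) := Partial.S '' c
  let J : Type v := Wrap (Shrink.{v} St)
  let sub : J → Subobject B := fun x => ((equivShrink _).symm x.val).1
  letI : Preorder J := Preorder.lift sub
  have hel : ∀ x : J, ∃ a ∈ c, a.S = sub x := fun x => ((equivShrink _).symm x.val).2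
  choose el helc hels using hel
  have hcomp : ∀ a ∈ c, ∀ b ∈ c, Partial.Le a b ∨ Partial.Le b a := fun a ha b hb => by
    by_cases h : a = b
    · subst h
      exact Or.inl ⟨le_rfl, by simp⟩
    · exact hc ha hb h
  have hinj : ∀ a ∈ c, ∀ b ∈ c, a.S = b.S → a = b := fun a ha b hb h => by
    obtain ⟨S, l, t, ψ, f⟩ := a
    obtain ⟨S', l', t', ψ', f'⟩ := b
    obtain rfl : S = S' := h
    rcases hcomp _ ha _ hb with ⟨_, h'⟩ | ⟨_, h'⟩ <;> simp at h' <;> subst h' <;> rfl
  have hle : ∀ x y : J, x ≤ y → Partial.Le (el x) (el y) := fun x y hxy => by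
    rcases hcomp _ (helc x) _ (helc y) with h | ⟨h, h'⟩
    · exact h
    · have hS : (el x).S = (el y).S :=
        le_antisymm (by rw [hels x, hels y]; exact hxy) h
      rw [hinj _ (helc x) _ (helc y) hS]
      exact ⟨le_rfl, by simp⟩
  haveI : Nonempty J := ⟨⟨equivShrink _ ⟨_, hne.some, hne.some_mem, rfl⟩⟩⟩
  haveI : IsDirectedOrder J := ⟨fun x y => by
    rcases hcomp _ (helc x) _ (helc y) with ⟨h, _⟩ | ⟨h, _⟩
    · exact ⟨y, (show sub x ≤ sub y by rw [← hels x, ← hels y]; exact h), le_refl (sub y)⟩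
    · exact ⟨x, le_refl (sub x), (show sub y ≤ sub x by rw [← hels x, ← hels y]; exact h)⟩⟩
  let F : J ⥤ MonoOver B :=
    { obj := fun x => MonoOver.mk (el x).S.arrow
      map := fun {x y} h => MonoOver.homMk (Subobject.ofLE _ _ (hle x y (leOfHom h)).1)
        (Subobject.ofLE_arrow _)
      map_id := fun _ => Subsingleton.elim _ _
      map_comp := fun _ _ => Subsingleton.elim _ _ }
  let D := F ⋙ MonoOver.forget _ ⋙ Over.forget _
  let α : D ⟶ (Functor.const J).obj B :=
    { app := fun x => (el x).S.arrow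
      naturality := fun x y h => (MonoOver.w (F.map h)).trans (Category.comp_id _).symm }
  let f : colimit D ⟶ B := colimit.desc D (Cocone.mk B α)
  have hfmono : Mono f := IsGrothendieckAbelian.mono_of_isColimit_monoOver F
    (colimit.isColimit D) f (fun k => colimit.ι_desc _ _)
  haveI : IsConnected J := IsFiltered.isConnected J
  have hfT : T f := colimitsOfShape_le _ (colimitsOfShape.mk' D _ _ _ (colimit.isColimit D)
    (isColimitConstCocone J B) α (fun x => (el x).hT) f
    (fun x => (colimit.ι_desc (Cocone.mk B α) x).trans (Category.comp_id _).symm))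
  let ψ : colimit D ⟶ I := colimit.desc D (Cocone.mk I
    { app := fun x => (el x).ψ
      naturality := fun x y h => (hle x y (leOfHom h)).2.trans (Category.comp_id _).symm })
  have hsub : ∀ x, (el x).S ≤ Subobject.mk f := fun x =>
    Subobject.le_mk_of_comm (colimit.ι D x) (colimit.ι_desc _ _)
  have hψ : ∀ x, Subobject.ofLE (el x).S (Subobject.mk f) (hsub x) ≫
      (Subobject.underlyingIso f).hom ≫ ψ = (el x).ψ := fun x => by
    have : Subobject.ofLE (el x).S (Subobject.mk f) (hsub x) ≫ (Subobject.underlyingIso f).hom =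
        colimit.ι D x := by
      refine (cancel_mono f).1 ?_
      rw [Category.assoc, Subobject.underlyingIso_hom_comp_eq_mk, Subobject.ofLE_arrow]
      exact (colimit.ι_desc (Cocone.mk B α) x).symm
    rw [reassoc_of% this]
    exact colimit.ι_desc _ _
  let x₀ : J := Classical.arbitrary J
  refine ⟨⟨Subobject.mk f, (el x₀).le.trans (hsub x₀), ?_,
    (Subobject.underlyingIso f).hom ≫ ψ, ?_⟩, fun a ha => ?_⟩
  · rw [← Subobject.underlyingIso_hom_comp_eq_mk f, T.cancel_left_of_respectsIso]
    exact hfT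
  · refine Eq.trans ?_ (el x₀).fac
    simp only [← hψ x₀, ← Category.assoc]
    congr 2
    exact (cancel_mono (Subobject.mk f).arrow).1 (by simp)
  · let x : J := ⟨equivShrink _ ⟨a.S, a, ha, rfl⟩⟩
    have hS : a.S = (el x).S := by simp [hels, sub, x]
    rw [hinj _ ha _ (helc x) hS]
    exact ⟨hsub x, hψ x⟩

theorem hasExt_of_W {I : CochainComplex A ℤ}
    (hW : ∀ (x : WIdx A) (φ : (x.2.1 : CochainComplex A ℤ) ⟶ I), ∃ ψ, x.2.1.arrow ≫ ψ = φ) :
    HasExt I := by
  intro A₀ B i hi φ
  haveI : Mono i := hi.1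
  haveI : Nonempty (Partial i φ) := ⟨⟨Subobject.mk i, le_rfl, by
    rw [← Subobject.underlyingIso_hom_comp_eq_mk i, T.cancel_left_of_respectsIso]
    exact hi, (Subobject.underlyingIso i).hom ≫ φ, by
    rw [← Category.assoc]
    convert Category.id_comp φ
    exact (cancel_mono i).1 (by simp)⟩⟩
  obtain ⟨m, hm⟩ := exists_maximal_of_nonempty_chains_bounded
    (r := Partial.Le (i := i) (φ := φ)) exists_ub (by
      rintro a b c ⟨h₁, h₁'⟩ ⟨h₂, h₂'⟩
      exact ⟨h₁.trans h₂, by rw [← Subobject.ofLE_comp_ofLE _ _ _ h₁ h₂, Category.assoc, h₂', h₁']⟩)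
  haveI : Mono m.S.arrow := inferInstance
  by_cases hiso : IsIso m.S.arrow
  · exact ⟨inv m.S.arrow ≫ m.ψ, by
      have := m.fac
      rw [← Category.assoc]
      convert this using 2
      rw [IsIso.comp_inv_eq, Subobject.ofMkLE_arrow]⟩
  exfalso
  let π := cokernel.π m.S.arrow
  have hC := ((T_iff _).1 m.hT).2
  have hπ : π ≠ 0 := fun h => hiso (by
    haveI : Epi m.S.arrow := Preadditive.epi_of_cancel_zero _ fun {Z} g hg => by
      rw [← cokernel.π_desc m.S.arrow g hg, show cokernel.π m.S.arrow = 0 from h, zero_comp]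
    exact isIso_of_mono_of_epi _)
  obtain ⟨n₀, u₀, hu₀⟩ : ∃ (n₀ : ℤ) (u₀ : U A ⟶ B.X n₀), u₀ ≫ π.f n₀ ≠ 0 := by
    by_contra! h
    exact hπ (HomologicalComplex.hom_ext _ _ fun n =>
      (isSeparator_separator A).def _ _ fun u => by rw [h n u]; simp)
  obtain ⟨P, j, C', θ, ι, hj, hθ, hι, hfac, hC', hne, hP⟩ := exists_small π hC n₀ u₀ hu₀
  obtain ⟨P', ⟨e⟩⟩ := exists_data P hP
  let θ' := e.hom ≫ θ
  let j' := e.hom ≫ j
  let Q : Subobject (cx P') := kernelSubobject θ'
  haveI : Epi θ' := epi_comp _ _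
  have hQ : T Q.arrow := by
    refine T_of_shortExact (S := ShortComplex.mk Q.arrow θ' (kernelSubobject_arrow_comp θ')) ?_ hC'
    exact
      { exact := by
          rw [ShortComplex.exact_iff_exact_up_to_refinements]
          intro T x hx
          exact ⟨T, 𝟙 T, inferInstance, factorThruKernelSubobject θ' x hx, by
            rw [Category.id_comp]
            exact (factorThruKernelSubobject_comp_arrow θ' x hx).symm⟩
        mono_f := inferInstanceAs (Mono Q.arrow)
        epi_g := inferInstanceAs (Epi θ') }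
  have hfac' : θ' ≫ ι = j' ≫ π := by simp [θ', j', hfac]
  have hQj : (Q.arrow ≫ j') ≫ π = 0 := by
    rw [Category.assoc, ← hfac', ← Category.assoc, kernelSubobject_arrow_comp, zero_comp]
  let a : (Q : CochainComplex A ℤ) ⟶ (m.S : CochainComplex A ℤ) :=
    Abelian.monoLift m.S.arrow (Q.arrow ≫ j') hQj
  have ha : a ≫ m.S.arrow = Q.arrow ≫ j' := Abelian.monoLift_comp _ _ _
  obtain ⟨b, hb⟩ := hW ⟨P', Q, hQ⟩ (a ≫ m.ψ)
  let p : pushout a Q.arrow ⟶ B := pushout.desc m.S.arrow j' ha
  have hp₁ : pushout.inl a Q.arrow ≫ p = m.S.arrow := pushout.inl_desc _ _ _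
  have hp₂ : pushout.inr a Q.arrow ≫ p = j' := pushout.inr_desc _ _ _
  have hinl : T (pushout.inl a Q.arrow) :=
    MorphismProperty.of_isPushout (P := T) (IsPushout.of_hasPushout a Q.arrow) hQ
  haveI : Mono j' := mono_comp _ _
  have hpb : IsPullback a Q.arrow m.S.arrow j' := by
    refine ⟨⟨ha⟩, ⟨PullbackCone.IsLimit.mk _
      (fun s => factorThruKernelSubobject θ' s.snd ?_) (fun s => ?_) (fun s => ?_)
      (fun s l _ h₂ => ?_)⟩⟩
    · rw [← cancel_mono ι, Category.assoc, hfac', ← Category.assoc, ← s.condition, Category.assoc,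
        cokernel.condition, comp_zero, zero_comp]
    · refine (cancel_mono m.S.arrow).1 ?_
      rw [Category.assoc, ha, ← Category.assoc, factorThruKernelSubobject_comp_arrow]
      exact s.condition.symm
    · exact factorThruKernelSubobject_comp_arrow _ _ _
    · rw [← cancel_mono Q.arrow, factorThruKernelSubobject_comp_arrow]
      exact h₂
  have hp : Mono p := (IsPushout.of_hasPushout a Q.arrow).mono_of_isPullback_of_mono
    hpb p hp₁ hp₂
  have hpT : T p := by
    refine ⟨hp, (HomologicalComplex.mem_quasiIso_iff _).2 ?_⟩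
    haveI : QuasiIso (pushout.inl a Q.arrow) := (HomologicalComplex.mem_quasiIso_iff _).1 hinl.2
    haveI : QuasiIso (pushout.inl a Q.arrow ≫ p) := by
      rw [hp₁]
      exact (HomologicalComplex.mem_quasiIso_iff _).1 m.hT.2
    exact quasiIso_of_comp_left (pushout.inl a Q.arrow) p
  have hS : m.S ≤ Subobject.mk p :=
    Subobject.le_mk_of_comm (pushout.inl a Q.arrow) hp₁
  let ψ' : pushout a Q.arrow ⟶ I := pushout.desc m.ψ b hb.symm
  have hψ' : Subobject.ofLE m.S (Subobject.mk p) hS ≫ (Subobject.underlyingIso p).hom ≫ ψ' =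
      m.ψ := by
    have : Subobject.ofLE m.S (Subobject.mk p) hS ≫ (Subobject.underlyingIso p).hom =
        pushout.inl a Q.arrow := (cancel_mono p).1 (by
      rw [Category.assoc, Subobject.underlyingIso_hom_comp_eq_mk, Subobject.ofLE_arrow, hp₁])
    rw [reassoc_of% this]
    exact pushout.inl_desc _ _ _
  let m' : Partial i φ := ⟨Subobject.mk p, m.le.trans hS, by
    rw [← Subobject.underlyingIso_hom_comp_eq_mk p, T.cancel_left_of_respectsIso]
    exact hpT, (Subobject.underlyingIso p).hom ≫ ψ', by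
    refine Eq.trans ?_ m.fac
    simp only [← hψ', ← Category.assoc]
    congr 2
    exact (cancel_mono (Subobject.mk p).arrow).1 (by simp)⟩
  obtain ⟨hle, -⟩ := hm m' ⟨hS, hψ'⟩
  apply hne
  have : j' ≫ π = 0 := by
    rw [show j' = (pushout.inr a Q.arrow ≫ (Subobject.underlyingIso p).inv ≫
      Subobject.ofLE _ _ hle) ≫ m.S.arrow by
        rw [Category.assoc, Category.assoc, Subobject.ofLE_arrow, ← hp₂]
        congr 1
        exact ((Iso.inv_comp_eq _).2 (Subobject.underlyingIso_hom_comp_eq_mk p).symm).symm,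
      Category.assoc, cokernel.condition, comp_zero]
  rw [show j' ≫ π = e.hom ≫ j ≫ π from Category.assoc _ _ _] at this
  exact zero_of_epi_comp _ this

theorem hasSmallObjectArgument : HasSmallObjectArgument.{v} (W A) := by
  obtain ⟨κ, hκ', hκ⟩ := HasCardinalLT.exists_regular_cardinal.{v}
    (Σ x : WIdx A, Subobject (x.2.1 : CochainComplex A ℤ))
  haveI : Fact κ.IsRegular := ⟨hκ'⟩
  haveI : Nonempty κ.ord.ToType := by simpa using hκ'.ne_zero
  letI := WellFoundedLT.toOrderBot κ.ord.ToType
  refine ⟨κ, inferInstance, inferInstance,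
    { preservesColimit := fun {A' B X Y} i hi f hf => ?_ }⟩
  let hf' : (monomorphisms (CochainComplex A ℤ)).TransfiniteCompositionOfShape κ.ord.ToType f :=
    { toTransfiniteCompositionOfShape := hf.toTransfiniteCompositionOfShape
      map_mem j hj := by
        have := (hf.attachCells j hj).pushouts_coproducts
        simp only [ofHoms_homFamily] at this
        refine (?_ : _ ≤ monomorphisms (CochainComplex A ℤ)) _ this
        simp only [pushouts_le_iff, coproducts_le_iff]
        exact fun _ _ _ h => (W_le _ h).1 }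
  have hmem : ∀ (j j' : κ.ord.ToType) (φ : j ⟶ j'), Mono (hf'.F.map φ) :=
    fun j j' φ => hf'.mem_map φ
  obtain ⟨x⟩ := hi
  exact IsGrothendieckAbelian.preservesColimit_coyoneda_obj_of_mono (Y := hf'.F) (κ := κ)
    (hκ.of_injective (fun Q => (⟨x, Q⟩ : Σ x : WIdx A, Subobject (x.2.1 : CochainComplex A ℤ)))
      (fun _ _ h => eq_of_heq (Sigma.mk.inj h).2))

/-- Every complex has a monomorphic quasi-isomorphism into a K-injective complex with injective
terms. -/
theorem exists_resolution (M : CochainComplex A ℤ) :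
    ∃ (I : CochainComplex A ℤ) (f : M ⟶ I), I.IsKInjective ∧ T f ∧ ∀ n, Injective (I.X n) := by
  haveI := hasSmallObjectArgument (A := A)
  obtain ⟨Z, hZ⟩ : ∃ Z : CochainComplex A ℤ, IsZero Z := HasZeroObject.zero
  let fac := (functorialFactorizationData (W A).rlp.llp (W A).rlp).factorizationData (0 : M ⟶ Z)
  have hle : (W A).rlp.llp ≤ T := by
    rw [llp_rlp_of_hasSmallObjectArgument]
    trans (transfiniteCompositions.{v} (T (A := A))).retracts
    · apply retracts_monotone
      apply transfiniteCompositions_monotone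
      simp only [pushouts_le_iff]
      exact (coproducts_monotone W_le).trans coproducts_le
    · exact (retracts_monotone (transfiniteCompositions_le (T (A := A)))).trans (retracts_le _)
  have hext : HasExt fac.Z := by
    refine hasExt_of_W fun x φ => ?_
    have sq : CommSq φ x.2.1.arrow fac.p (0 : cx x.1 ⟶ Z) := ⟨hZ.eq_of_tgt _ _⟩
    haveI := fac.hp _ ⟨x⟩
    exact ⟨sq.lift, sq.fac_left⟩
  exact ⟨fac.Z, fac.i, isKInjective_of_hasExt hext, hle _ fac.hi, injective_of_hasExt hext⟩

end Groth.Agent.DerLib.KInjRes
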