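/-
Null homotopic maps, products of K-injective complexes, and (co)products in derived categories.
-/
import Groth.Agent.DerLib.KInjRes
import Mathlib.Algebra.Homology.DerivedCategory.KInjective
import Mathlib.Algebra.Homology.HomotopyCategory.MappingCone

set_option linter.unusedSectionVars false
set_option linter.style.haveILetI false

universe w v u

open CategoryTheory Limits HomologicalComplex

namespace Groth.Agent.DerLib.KInjUse

open CochainComplex (mappingCone)

variable {A : Type u} [Category.{v} A] [Abelian A]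

theorem quotient_inr_eq_zero (K : CochainComplex A ℤ) :
    (HomotopyCategory.quotient A (ComplexShape.up ℤ)).map (CochainComplex.mappingCone.inr (𝟙 K)) = 0 := by
  have h2 : (HomotopyCategory.quotient A (ComplexShape.up ℤ)).map (𝟙 K) ≫
      (HomotopyCategory.quotient A (ComplexShape.up ℤ)).map (CochainComplex.mappingCone.inr (𝟙 K)) = 0 :=
    Pretriangulated.comp_distTriang_mor_zero₁₂ _
      (HomotopyCategory.mappingCone_triangleh_distinguished (𝟙 K))
  rwa [CategoryTheory.Functor.map_id, Category.id_comp] at h2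

theorem exists_factor {K L : CochainComplex A ℤ} (f : K ⟶ L)
    (h : (HomotopyCategory.quotient A (ComplexShape.up ℤ)).map f = 0) :
    ∃ ψ : mappingCone (𝟙 K) ⟶ L, CochainComplex.mappingCone.inr (𝟙 K) ≫ ψ = f := by
  have H : Homotopy f 0 := HomotopyCategory.homotopyOfEq _ _ (h.trans (Functor.map_zero _ _ _).symm)
  exact ⟨CochainComplex.mappingCone.desc (𝟙 K) (CochainComplex.HomComplex.Cochain.ofHomotopy H) f
    (by simp [CochainComplex.HomComplex.δ_ofHomotopy]), CochainComplex.mappingCone.inr_desc _ _ _ _⟩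

theorem quotient_eq_zero_of_factor {K L : CochainComplex A ℤ} (ψ : mappingCone (𝟙 K) ⟶ L) :
    (HomotopyCategory.quotient A (ComplexShape.up ℤ)).map
      (CochainComplex.mappingCone.inr (𝟙 K) ≫ ψ) = 0 := by
  rw [Functor.map_comp, quotient_inr_eq_zero, zero_comp]

theorem acyclic_cone_id (K : CochainComplex A ℤ) : (mappingCone (𝟙 K)).Acyclic := by
  rw [← HomotopyCategory.quotient_obj_mem_subcategoryAcyclic_iff_acyclic]
  refine ((HomotopyCategory.subcategoryAcyclic A).trW_iff_of_distinguished _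
    (HomotopyCategory.mappingCone_triangleh_distinguished (𝟙 K))).1 ?_
  rw [← HomotopyCategory.quasiIso_eq_trW_subcategoryAcyclic]
  exact (HomotopyCategory.quotient_map_mem_quasiIso_iff (𝟙 K)).2 (MorphismProperty.id_mem _ K)

theorem quotient_eq_zero_of_pi {K : CochainComplex A ℤ} {T : Type*} {I : T → CochainComplex A ℤ}
    [HasProduct I] (f : K ⟶ ∏ᶜ I)
    (h : ∀ t, (HomotopyCategory.quotient A (ComplexShape.up ℤ)).map (f ≫ Pi.π I t) = 0) :
    (HomotopyCategory.quotient A (ComplexShape.up ℤ)).map f = 0 := by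
  choose ψ hψ using fun t => exists_factor _ (h t)
  rw [show f = CochainComplex.mappingCone.inr (𝟙 K) ≫ Pi.lift ψ from
    Limits.Pi.hom_ext _ _ fun t => by rw [Category.assoc, Pi.lift_π, hψ]]
  exact quotient_eq_zero_of_factor _

theorem isKInjective_pi {T : Type*} (I : T → CochainComplex A ℤ) [HasProduct I]
    (h : ∀ t, (I t).IsKInjective) : (∏ᶜ I).IsKInjective := by
  refine ⟨fun {K} f hK => ⟨HomotopyCategory.homotopyOfEq _ _ ?_⟩⟩
  rw [Functor.map_zero]
  refine quotient_eq_zero_of_pi f fun t => ?_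
  haveI := h t
  rw [HomotopyCategory.eq_of_homotopy _ 0 (CochainComplex.IsKInjective.homotopyZero (f ≫ Pi.π I t) hK),
    Functor.map_zero]

section Derived

variable [HasDerivedCategory.{w} A]

theorem exists_iso_Q_kInjective [IsGrothendieckAbelian.{v} A] (X : DerivedCategory A) :
    ∃ I : CochainComplex A ℤ, I.IsKInjective ∧ Nonempty (X ≅ DerivedCategory.Q.obj I) := by
  let K := DerivedCategory.Q.objPreimage X
  obtain ⟨I, f, hI, hf, -⟩ := KInjRes.exists_resolution K
  haveI : QuasiIso f := (HomologicalComplex.mem_quasiIso_iff _).1 hf.2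
  exact ⟨I, hI, ⟨(DerivedCategory.Q.objObjPreimageIso X).symm ≪≫ asIso (DerivedCategory.Q.map f)⟩⟩

theorem Q_map_surjective (K L : CochainComplex A ℤ) [L.IsKInjective] :
    Function.Surjective (DerivedCategory.Q.map : (K ⟶ L) → _) := by
  intro g
  obtain ⟨g', hg'⟩ := (CochainComplex.IsKInjective.Qh_map_bijective
    ((HomotopyCategory.quotient A (ComplexShape.up ℤ)).obj K) L).2 g
  obtain ⟨g'', rfl⟩ := (HomotopyCategory.quotient A (ComplexShape.up ℤ)).map_surjective g'
  exact ⟨g'', hg'⟩

theorem quotient_eq_zero_of_Q {K L : CochainComplex A ℤ} [L.IsKInjective] {f : K ⟶ L}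
    (h : DerivedCategory.Q.map f = 0) :
    (HomotopyCategory.quotient A (ComplexShape.up ℤ)).map f = 0 := by
  refine (CochainComplex.IsKInjective.Qh_map_bijective
    ((HomotopyCategory.quotient A (ComplexShape.up ℤ)).obj K) L).1 ?_
  rw [Functor.map_zero]
  exact h

theorem Q_map_zero_of_quotient {K L : CochainComplex A ℤ} {f : K ⟶ L}
    (h : (HomotopyCategory.quotient A (ComplexShape.up ℤ)).map f = 0) :
    DerivedCategory.Q.map f = 0 :=
  (congrArg DerivedCategory.Qh.map h).trans (Functor.map_zero _ _ _)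

theorem hasProduct_of_kInjective {T : Type*} (X : T → DerivedCategory A)
    (I : T → CochainComplex A ℤ) (hI : ∀ t, (I t).IsKInjective)
    (e : ∀ t, Nonempty (X t ≅ DerivedCategory.Q.obj (I t))) [HasProduct I] : HasProduct X := by
  haveI := isKInjective_pi I hI
  let c : Fan X := Fan.mk (DerivedCategory.Q.obj (∏ᶜ I))
    fun t => DerivedCategory.Q.map (Pi.π I t) ≫ (e t).some.inv
  suffices key : ∀ (W : DerivedCategory A) (g : ∀ t, W ⟶ X t), ∃! l, ∀ t, l ≫ c.proj t = g t from
    ⟨⟨⟨c, mkFanLimit c (fun s => (key s.pt s.proj).choose)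
      (fun s t => (key s.pt s.proj).choose_spec.1 t)
      (fun s m hm => (key s.pt s.proj).choose_spec.2 m hm)⟩⟩⟩
  intro W g
  let K := DerivedCategory.Q.objPreimage W
  let eW : DerivedCategory.Q.obj K ≅ W := DerivedCategory.Q.objObjPreimageIso W
  haveI : ∀ t, (I t).IsKInjective := hI
  choose g' hg' using fun t => Q_map_surjective K (I t) (eW.hom ≫ g t ≫ (e t).some.hom)
  refine ⟨eW.inv ≫ DerivedCategory.Q.map (Pi.lift g'), fun t => ?_, fun y hy => ?_⟩
  · show (eW.inv ≫ DerivedCategory.Q.map (Pi.lift g')) ≫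
      DerivedCategory.Q.map (Pi.π I t) ≫ (e t).some.inv = g t
    rw [Category.assoc, ← Functor.map_comp_assoc, Pi.lift_π, hg']
    simp
  · obtain ⟨y', hy'⟩ := Q_map_surjective K (∏ᶜ I) (eW.hom ≫ y)
    rw [← cancel_epi eW.hom, Iso.hom_inv_id_assoc, ← hy', ← sub_eq_zero, ← Functor.map_sub]
    refine Q_map_zero_of_quotient (quotient_eq_zero_of_pi _ fun t => quotient_eq_zero_of_Q ?_)
    rw [Functor.map_comp, Functor.map_sub, Preadditive.sub_comp, hy', ← Functor.map_comp,
      Pi.lift_π, hg', sub_eq_zero, Category.assoc, ← cancel_mono (e t).some.inv]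
    have := hy t
    simp only [Category.assoc, Iso.hom_inv_id, Category.comp_id]
    exact congrArg (eW.hom ≫ ·) this

theorem isZero_Q_obj {K : CochainComplex A ℤ} (h : K.Acyclic) :
    IsZero (DerivedCategory.Q.obj K) := by
  have hq : IsIso (DerivedCategory.Q.map (0 : K ⟶ K)) := by
    rw [DerivedCategory.isIso_Q_map_iff_quasiIso]
    refine ⟨fun i => ?_⟩
    rw [quasiIsoAt_iff_isIso_homologyMap]
    exact ((h i).isZero_homology).isIso ((h i).isZero_homology) _
  rw [Functor.map_zero] at hq
  rw [IsZero.iff_id_eq_zero, ← IsIso.inv_hom_id (0 : DerivedCategory.Q.obj K ⟶ DerivedCategory.Q.obj K)]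
  exact comp_zero

theorem hasProduct [IsGrothendieckAbelian.{v} A] {T : Type v} (X : T → DerivedCategory A) :
    HasProduct X := by
  choose I hI e using fun t => exists_iso_Q_kInjective (X t)
  exact hasProduct_of_kInjective X I hI e

theorem acyclic_sigma [IsGrothendieckAbelian.{v} A] {T : Type v} (K : T → CochainComplex A ℤ) (h : ∀ t, (K t).Acyclic) :
    (∐ K).Acyclic :=
  AcyclicMono.acyclic_colimit (Discrete.functor K) (colimit.isColimit _) fun t => h t.as

theorem hasCoproduct [IsGrothendieckAbelian.{v} A] {T : Type v} (X : T → DerivedCategory A) : HasCoproduct X := by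
  let K := fun t => DerivedCategory.Q.objPreimage (X t)
  let eK : ∀ t, DerivedCategory.Q.obj (K t) ≅ X t := fun t =>
    DerivedCategory.Q.objObjPreimageIso (X t)
  let c : Cofan X := Cofan.mk (DerivedCategory.Q.obj (∐ K))
    fun t => (eK t).inv ≫ DerivedCategory.Q.map (Sigma.ι K t)
  suffices key : ∀ (W : DerivedCategory A) (g : ∀ t, X t ⟶ W), ∃! l, ∀ t, c.inj t ≫ l = g t from
    ⟨⟨⟨c, mkCofanColimit c (fun s => (key s.pt s.inj).choose)
      (fun s t => (key s.pt s.inj).choose_spec.1 t)
      (fun s m hm => (key s.pt s.inj).choose_spec.2 m hm)⟩⟩⟩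
  intro W g
  obtain ⟨I, hI, ⟨eW⟩⟩ := exists_iso_Q_kInjective W
  choose g' hg' using fun t => Q_map_surjective (K t) I ((eK t).hom ≫ g t ≫ eW.hom)
  refine ⟨DerivedCategory.Q.map (Sigma.desc g') ≫ eW.inv, fun t => ?_, fun y hy => ?_⟩
  · show ((eK t).inv ≫ DerivedCategory.Q.map (Sigma.ι K t)) ≫ _ = g t
    rw [Category.assoc, ← Functor.map_comp_assoc, Sigma.ι_desc, hg']
    simp
  · obtain ⟨y', hy'⟩ := Q_map_surjective (∐ K) I (y ≫ eW.hom)
    rw [← cancel_mono eW.hom, Category.assoc, Iso.inv_hom_id, Category.comp_id, ← hy',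
      ← sub_eq_zero, ← Functor.map_sub]
    have h0 : ∀ t, (HomotopyCategory.quotient A (ComplexShape.up ℤ)).map
        (Sigma.ι K t ≫ (y' - Sigma.desc g')) = 0 := fun t => quotient_eq_zero_of_Q (by
      rw [Functor.map_comp, Functor.map_sub, Preadditive.comp_sub, hy', ← Functor.map_comp,
        Sigma.ι_desc, hg', sub_eq_zero, ← cancel_epi (eK t).inv, Iso.inv_hom_id_assoc]
      have := hy t
      rw [← Category.assoc, ← Category.assoc]
      exact congrArg (· ≫ eW.hom) this)
    choose ψ hψ using fun t => exists_factor _ (h0 t)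
    have : y' - Sigma.desc g' = Limits.Sigma.map
        (fun t => CochainComplex.mappingCone.inr (𝟙 (K t))) ≫ Sigma.desc ψ :=
      Limits.Sigma.hom_ext _ _ fun t => by simp [hψ]
    rw [this, Functor.map_comp]
    have hz : IsZero (DerivedCategory.Q.obj (∐ fun t => mappingCone (𝟙 (K t)))) := by
      exact isZero_Q_obj (acyclic_sigma _ fun t => acyclic_cone_id (K t))
    rw [hz.eq_of_src (DerivedCategory.Q.map (Sigma.desc ψ)) 0, comp_zero]

end Derived

end Groth.Agent.DerLib.KInjUse
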