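/-
Exact functors on derived categories commute with cohomology.
-/
import Mathlib.Algebra.Homology.DerivedCategory.ExactFunctor
import Mathlib.Algebra.Homology.ShortComplex.PreservesHomology
import Mathlib.Algebra.Homology.DerivedCategory.HomologySequence

set_option linter.style.haveILetI false

universe w₁ w₂ v₁ v₂ u₁ u₂

open CategoryTheory Limits

namespace Groth.Agent.DerLib.ExactHomology

variable {A : Type u₁} [Category.{v₁} A] [Abelian A] [HasDerivedCategory.{w₁} A]
  {B : Type u₂} [Category.{v₂} B] [Abelian B] [HasDerivedCategory.{w₂} B]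
  (G : A ⥤ B) [G.Additive] [PreservesFiniteLimits G] [PreservesFiniteColimits G]

/-- An exact functor commutes with the cohomology of complexes. -/
noncomputable def mapHomologyFunctorIso (j : ℤ) :
    G.mapHomologicalComplex (ComplexShape.up ℤ) ⋙ HomologicalComplex.homologyFunctor B (ComplexShape.up ℤ) j ≅
      HomologicalComplex.homologyFunctor A (ComplexShape.up ℤ) j ⋙ G :=
  NatIso.ofComponents (fun K => (K.sc j).mapHomologyIso G) fun {K L} φ =>
    ShortComplex.mapHomologyIso_hom_naturality
      ((HomologicalComplex.shortComplexFunctor A (ComplexShape.up ℤ) j).map φ) G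

/-- An exact functor commutes with cohomology on derived categories. -/
noncomputable def homologyIso (j : ℤ) :
    G.mapDerivedCategory ⋙ DerivedCategory.homologyFunctor B j ≅
      DerivedCategory.homologyFunctor A j ⋙ G :=
  letI : Localization.Lifting DerivedCategory.Q (HomologicalComplex.quasiIso A (ComplexShape.up ℤ))
      (DerivedCategory.Q ⋙ G.mapDerivedCategory ⋙ DerivedCategory.homologyFunctor B j)
      (G.mapDerivedCategory ⋙ DerivedCategory.homologyFunctor B j) := ⟨Iso.refl _⟩
  letI : Localization.Lifting DerivedCategory.Q (HomologicalComplex.quasiIso A (ComplexShape.up ℤ))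
      (DerivedCategory.Q ⋙ DerivedCategory.homologyFunctor A j ⋙ G)
      (DerivedCategory.homologyFunctor A j ⋙ G) := ⟨Iso.refl _⟩
  Localization.liftNatIso DerivedCategory.Q (HomologicalComplex.quasiIso A (ComplexShape.up ℤ))
    (DerivedCategory.Q ⋙ G.mapDerivedCategory ⋙ DerivedCategory.homologyFunctor B j)
    (DerivedCategory.Q ⋙ DerivedCategory.homologyFunctor A j ⋙ G) _ _
    ((Functor.associator _ _ _).symm ≪≫ Functor.isoWhiskerRight G.mapDerivedCategoryFactors _ ≪≫
      Functor.associator _ _ _ ≪≫
      Functor.isoWhiskerLeft _ (DerivedCategory.homologyFunctorFactors B j) ≪≫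
      mapHomologyFunctorIso G j ≪≫
      Functor.isoWhiskerRight (DerivedCategory.homologyFunctorFactors A j).symm G ≪≫
      Functor.associator _ _ _)

/-- An exact functor preserves isomorphisms on cohomology. -/
theorem isIso_homology_map {X Y : DerivedCategory A} (g : X ⟶ Y) (j : ℤ)
    [IsIso ((DerivedCategory.homologyFunctor A j).map g)] :
    IsIso ((DerivedCategory.homologyFunctor B j).map (G.mapDerivedCategory.map g)) :=
  (NatIso.isIso_map_iff (homologyIso G j) g).2
    (inferInstanceAs (IsIso (G.map ((DerivedCategory.homologyFunctor A j).map g))))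

end Groth.Agent.DerLib.ExactHomology
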