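/-
Bounded below complexes embed quasi-isomorphically into complexes with terms in a class of
objects into which every object embeds.
-/
import Mathlib

universe v u

open CategoryTheory Limits HomologicalComplex

namespace Groth.Agent.DerLib.RightRes

variable {A : Type u} [Category.{v} A] [Abelian A]

theorem pushout_exact {X Y Z : A} (c : X ⟶ Y) (f : X ⟶ Z) {T : A} (y : T ⟶ Y) (z : T ⟶ Z)
    (h : y ≫ pushout.inl c f + z ≫ pushout.inr c f = 0) :
    ∃ (T' : A) (π : T' ⟶ T) (_ : Epi π) (q : T' ⟶ X),
      π ≫ y = q ≫ c ∧ π ≫ z = -(q ≫ f) := by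
  have h' : biprod.lift y z ≫ (IsPushout.of_hasPushout c f).shortComplex.g = 0 :=
    (biprod.lift_desc ..).trans h
  obtain ⟨T', π, hπ, q, hq⟩ :=
    (IsPushout.of_hasPushout c f).exact_shortComplex.exact_up_to_refinements _ h'
  have hq' : π ≫ biprod.lift y z = (q : T' ⟶ X) ≫ biprod.lift c (-f) := hq
  refine ⟨T', π, hπ, q, ?_, ?_⟩
  · have := congrArg (· ≫ biprod.fst) hq'
    simp only [Category.assoc, biprod.lift_fst] at this
    exact this
  · have := congrArg (· ≫ biprod.snd) hq'
    simp only [Category.assoc, biprod.lift_snd] at this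
    exact this.trans (Preadditive.comp_neg q f)

theorem cokernel_exact {X Y : A} (f : X ⟶ Y) {T : A} (y : T ⟶ Y) (h : y ≫ cokernel.π f = 0) :
    ∃ (T' : A) (π : T' ⟶ T) (_ : Epi π) (u : T' ⟶ X), π ≫ y = u ≫ f :=
  (ShortComplex.exact_cokernel f).exact_up_to_refinements y h

variable {I : A → Prop}
  (hI : ∀ X : A, ∃ (Y : A) (ι : X ⟶ Y), I Y ∧ Mono ι) (K : CochainComplex A ℕ)

/-- An object in the class receiving a monomorphism from `X`. -/
noncomputable def tgt (X : A) : A := (hI X).choose

/-- The chosen monomorphism. -/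
noncomputable def emb (X : A) : X ⟶ tgt hI X := (hI X).choose_spec.choose

theorem tgt_mem (X : A) : I (tgt hI X) := (hI X).choose_spec.choose_spec.1

instance emb_mono (X : A) : Mono (emb hI X) := (hI X).choose_spec.choose_spec.2

/-- The state after step `n`: the term, the cokernel of the differential landing in it and the
map from the opcycles. -/
structure St (n : ℕ) where
  L : A
  C : A
  p : L ⟶ C
  α : K.X n ⟶ L
  c : K.opcycles n ⟶ C

/-- The initial step. -/
noncomputable def st₀ : St K 0 where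
  L := tgt hI (K.opcycles 0)
  C := tgt hI (K.opcycles 0)
  p := 𝟙 _
  α := K.pOpcycles 0 ≫ emb hI _
  c := emb hI _

variable {K}

/-- The pushout of a step. -/
noncomputable abbrev St.P {n : ℕ} (s : St K n) : A :=
  pushout s.c (K.fromOpcycles n (n + 1))

/-- The next term. -/
noncomputable def St.next {n : ℕ} (s : St K n) : St K (n + 1) where
  L := tgt hI s.P
  C := cokernel (pushout.inl s.c (K.fromOpcycles n (n + 1)) ≫ emb hI s.P)
  p := cokernel.π _
  α := pushout.inr s.c (K.fromOpcycles n (n + 1)) ≫ emb hI s.P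
  c := K.descOpcycles (pushout.inr s.c (K.fromOpcycles n (n + 1)) ≫ emb hI s.P ≫ cokernel.π _) n
    (by simp) (by
      rw [← K.p_fromOpcycles n (n + 1), Category.assoc, ← pushout.condition_assoc,
        ← Category.assoc (pushout.inl _ _), cokernel.condition, comp_zero, comp_zero])

variable (K)

/-- All the steps. -/
noncomputable def st : ∀ n, St K n
  | 0 => st₀ hI K
  | n + 1 => (st n).next hI

/-- The differential. -/
noncomputable def dL (n : ℕ) : (st hI K n).L ⟶ (st hI K (n + 1)).L :=
  (st hI K n).p ≫ pushout.inl _ _ ≫ emb hI (st hI K n).P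

theorem dL_p (n : ℕ) : dL hI K n ≫ (st hI K (n + 1)).p = 0 := by
  show ((st hI K n).p ≫ pushout.inl _ _ ≫ emb hI (st hI K n).P) ≫ cokernel.π _ = 0
  rw [Category.assoc, cokernel.condition, comp_zero]

/-- The resolution. -/
noncomputable def res : CochainComplex A ℕ :=
  CochainComplex.of (fun n => (st hI K n).L) (dL hI K) (fun n => by
    show dL hI K n ≫ (st hI K (n + 1)).p ≫ pushout.inl _ _ ≫ emb hI _ = 0
    exact ((Category.assoc _ _ _).symm.trans ((congrArg (· ≫ _) (dL_p hI K n)).trans zero_comp)))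

theorem α_p : ∀ n, (st hI K n).α ≫ (st hI K n).p = K.pOpcycles n ≫ (st hI K n).c
  | 0 => Category.comp_id _
  | n + 1 => by
      dsimp [st, St.next]
      simp

theorem comm (n : ℕ) : (st hI K n).α ≫ dL hI K n = K.d n (n + 1) ≫ (st hI K (n + 1)).α := by
  rw [dL, ← Category.assoc, α_p hI K n, Category.assoc, ← K.p_fromOpcycles n (n + 1),
    Category.assoc]
  congr 1
  rw [← Category.assoc, pushout.condition, Category.assoc]
  rfl

theorem res_d (n : ℕ) : (res hI K).d n (n + 1) = dL hI K n :=
  CochainComplex.of_d (fun n => (st hI K n).L) (dL hI K) n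

/-- The comparison map. -/
noncomputable def toRes : K ⟶ res hI K where
  f n := (st hI K n).α
  comm' i j hij := by
    obtain rfl : i + 1 = j := hij
    exact (congrArg ((st hI K i).α ≫ ·) (res_d hI K i)).trans (comm hI K i)

theorem res_mem : ∀ n, I ((res hI K).X n)
  | 0 => tgt_mem hI _
  | _ + 1 => tgt_mem hI _

theorem mono_c : ∀ n, Mono (st hI K n).c
  | 0 => emb_mono hI _
  | n + 1 => by
      have := mono_c n
      set s := st hI K n
      change Mono (s.next hI).c
      rw [Preadditive.mono_iff_cancel_zero]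
      intro T x hx
      obtain ⟨T₁, π₁, hπ₁, z, hz⟩ := surjective_up_to_refinements_of_epi (K.pOpcycles (n + 1)) x
      have h1 : (z ≫ pushout.inr s.c (K.fromOpcycles n (n + 1)) ≫ emb hI s.P) ≫
          cokernel.π (pushout.inl s.c (K.fromOpcycles n (n + 1)) ≫ emb hI s.P) = 0 := by
        calc _ = z ≫ K.pOpcycles (n + 1) ≫ (s.next hI).c := by
              dsimp [St.next]
              simp
          _ = π₁ ≫ x ≫ (s.next hI).c := by rw [← Category.assoc, ← hz, Category.assoc]
          _ = 0 := by rw [hx, comp_zero]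
      obtain ⟨T₂, π₂, hπ₂, y, hy⟩ := cokernel_exact _ _ h1
      have h2 : y ≫ pushout.inl s.c (K.fromOpcycles n (n + 1)) +
          (-(π₂ ≫ z)) ≫ pushout.inr s.c (K.fromOpcycles n (n + 1)) = 0 := by
        rw [← cancel_mono (emb hI s.P)]
        simp only [Preadditive.add_comp, Preadditive.neg_comp, Category.assoc, zero_comp]
        rw [← hy]
        exact add_neg_cancel _
      obtain ⟨T₃, π₃, hπ₃, q, -, hq⟩ := pushout_exact _ _ _ _ h2
      have h3 : π₃ ≫ π₂ ≫ z = q ≫ K.fromOpcycles n (n + 1) := by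
        rw [Preadditive.comp_neg] at hq
        exact neg_injective hq
      obtain ⟨T₄, π₄, hπ₄, r, hr⟩ := surjective_up_to_refinements_of_epi (K.pOpcycles n) q
      rw [← cancel_epi (π₄ ≫ π₃ ≫ π₂ ≫ π₁), comp_zero]
      simp only [Category.assoc, hz]
      rw [← Category.assoc π₂, ← Category.assoc π₃, h3, ← Category.assoc π₄, ← Category.assoc π₄,
        hr]
      simp only [Category.assoc, K.p_fromOpcycles_assoc, K.d_pOpcycles, comp_zero]

theorem mono_α : ∀ n, Mono ((toRes hI K).f n)
  | 0 => by
      have : IsIso (K.pOpcycles 0) :=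
        K.isIso_pOpcycles _ 0 rfl (K.shape _ _ (by simp))
      exact @mono_comp _ _ _ _ _ _ inferInstance _ (emb_mono hI _)
  | n + 1 => by
      have := mono_c hI K n
      exact @mono_comp _ _ _ _ _ _ inferInstance _ (emb_mono hI _)

theorem exact_p : ∀ (n : ℕ) {T : A} (y : T ⟶ (res hI K).X n), y ≫ (st hI K n).p = 0 →
    ∃ (T' : A) (π : T' ⟶ T) (_ : Epi π) (w : T' ⟶ (res hI K).X ((ComplexShape.up ℕ).prev n)),
      π ≫ y = w ≫ (res hI K).d _ n
  | 0, T, y, hy => ⟨T, 𝟙 _, inferInstance, 0, by
      have hy0 : y = 0 := (Category.comp_id y).symm.trans hy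
      rw [hy0]; simp⟩
  | n + 1, T, y, hy => by
      obtain ⟨T₁, π₁, hπ₁, u, hu⟩ := cokernel_exact (pushout.inl (st hI K n).c
        (K.fromOpcycles n (n + 1)) ≫ emb hI (st hI K n).P) y hy
      obtain ⟨T₂, π₂, hπ₂, w, hw⟩ : ∃ (T' : A) (π : T' ⟶ T₁) (_ : Epi π) (w : T' ⟶ (st hI K n).L),
          π ≫ u = w ≫ (st hI K n).p := by
        have : Epi (st hI K n).p := by
          cases n with
          | zero => exact inferInstanceAs (Epi (𝟙 _))
          | succ k => exact inferInstanceAs (Epi (cokernel.π _))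
        exact surjective_up_to_refinements_of_epi _ u
      have hprev : (ComplexShape.up ℕ).prev (n + 1) = n := (ComplexShape.up ℕ).prev_eq' rfl
      rw [hprev]
      refine ⟨T₂, π₂ ≫ π₁, inferInstance, w, ?_⟩
      rw [res_d]
      refine (Category.assoc _ _ _).trans ((congrArg (π₂ ≫ ·) hu).trans ?_)
      exact ((Category.assoc _ _ _).symm.trans (congrArg (· ≫ _) hw)).trans (Category.assoc _ _ _)

theorem quasiIso_toRes : QuasiIso (toRes hI K) := by
  rw [quasiIso_iff]
  intro n
  rw [quasiIsoAt_iff_isIso_homologyMap]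
  have hdL : (res hI K).d n (n + 1) = dL hI K n := res_d hI K n
  have hmono := mono_c hI K n
  have hnext : (ComplexShape.up ℕ).next n = n + 1 := (ComplexShape.up ℕ).next_eq' rfl
  have : Mono (homologyMap (toRes hI K) n) := by
    rw [mono_homologyMap_iff_up_to_refinements _ _ _ _ rfl hnext]
    intro T x hx y hy
    have h : x ≫ K.pOpcycles n ≫ (st hI K n).c = 0 := by
      rw [← α_p hI K n, ← Category.assoc]
      change (x ≫ (toRes hI K).f n) ≫ (st hI K n).p = 0
      rw [hy]
      cases n with
      | zero => simp [shape]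
      | succ k =>
        have hprev : (ComplexShape.up ℕ).prev (k + 1) = k := (ComplexShape.up ℕ).prev_eq' rfl
        revert y
        rw [hprev]
        intro y _
        rw [res_d, Category.assoc]
        exact (congrArg _ (dL_p hI K k)).trans comp_zero
    exact (K.comp_pOpcycles_eq_zero_iff_up_to_refinements x _ rfl).1
      ((cancel_mono (st hI K n).c).1 ((Category.assoc _ _ _).trans (h.trans zero_comp.symm)))
  have : Epi (homologyMap (toRes hI K) n) := by
    rw [epi_homologyMap_iff_up_to_refinements _ _ _ _ rfl hnext]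
    intro T y hy
    rw [hdL] at hy
    have h1 : (y ≫ (st hI K n).p) ≫ pushout.inl (st hI K n).c (K.fromOpcycles n (n + 1)) +
        (0 : T ⟶ K.X (n + 1)) ≫ pushout.inr (st hI K n).c (K.fromOpcycles n (n + 1)) = 0 := by
      rw [← cancel_mono (emb hI (st hI K n).P), zero_comp, add_zero, zero_comp]
      exact (Category.assoc _ _ _).trans ((Category.assoc _ _ _).trans hy)
    obtain ⟨T₁, π₁, hπ₁, q, hqc, hqd'⟩ := pushout_exact _ _ _ _ h1
    have hqd : q ≫ K.fromOpcycles n (n + 1) = 0 := by simpa using hqd'.symm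
    obtain ⟨T₂, π₂, hπ₂, z, hz⟩ := surjective_up_to_refinements_of_epi (K.pOpcycles n) q
    have hzd : z ≫ K.d n (n + 1) = 0 := by
      rw [← K.p_fromOpcycles n (n + 1), ← Category.assoc, ← hz, Category.assoc, hqd, comp_zero]
    have hzp : (π₂ ≫ π₁ ≫ y - z ≫ (toRes hI K).f n) ≫ (st hI K n).p = 0 := by
      rw [Preadditive.sub_comp, Category.assoc, Category.assoc, hqc, Category.assoc,
        show (toRes hI K).f n ≫ (st hI K n).p = _ from α_p hI K n, ← Category.assoc z, ← hz,
        Category.assoc, sub_self]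
    obtain ⟨T₃, π₃, hπ₃, w, hw⟩ := exact_p hI K n _ hzp
    refine ⟨T₃, π₃ ≫ π₂ ≫ π₁, inferInstance, π₃ ≫ z, by rw [Category.assoc, hzd, comp_zero], w, ?_⟩
    rw [← hw, Preadditive.comp_sub]
    simp only [Category.assoc]
    abel
  exact isIso_of_mono_of_epi _

include hI in
/-- Bounded below complexes admit degreewise injective quasi-isomorphisms into complexes with terms
in the class. -/
theorem exists_resolution (K : CochainComplex A ℕ) :
    ∃ (L : CochainComplex A ℕ) (α : K ⟶ L), (∀ n, I (L.X n)) ∧ (∀ n, Mono (α.f n)) ∧ QuasiIso α :=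
  ⟨_, toRes hI K, res_mem hI K, mono_α hI K, quasiIso_toRes hI K⟩

include hI in
/-- The `ℤ`-indexed version. -/
theorem exists_resolution_int (hI0 : ∃ Z : A, IsZero Z ∧ I Z) (K : CochainComplex A ℤ) (a : ℤ)
    [K.IsStrictlyGE a] : ∃ (L : CochainComplex A ℤ) (α : K ⟶ L), L.IsStrictlyGE a ∧
      (∀ n, I (L.X n)) ∧ (∀ n, Mono (α.f n)) ∧ QuasiIso α := by
  let e := ComplexShape.embeddingUpIntGE a
  have hlift : e.HasLift (𝟙 (K.restriction e)) := by
    intro j hj i' hi'
    refine (CochainComplex.isZero_of_isStrictlyGE K a i' ?_).eq_of_src _ _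
    rw [ComplexShape.boundaryGE_embeddingUpIntGE_iff] at hj
    subst hj
    simp [e] at hi'
    omega
  let ψ : K ⟶ (K.restriction e).extend e := e.liftExtend _ hlift
  have hψ : ∀ n : ℤ, IsIso (ψ.f n) := by
    intro n
    by_cases h : ∃ k, e.f k = n
    · obtain ⟨k, hk⟩ := h
      rw [e.isIso_liftExtend_f_iff _ hlift hk]
      exact inferInstanceAs (IsIso (𝟙 _))
    · push_neg at h
      exact isIso_of_source_target_iso_zero _
        (CochainComplex.isZero_of_isStrictlyGE K a n (by
          by_contra hn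
          exact h (n - a).toNat (by simp [e]; omega))).isoZero
        ((K.restriction e).isZero_extend_X e n h).isoZero
  have hψ' : IsIso ψ := HomologicalComplex.Hom.isIso_of_components ψ
  obtain ⟨L, α, hL, hα, hq⟩ := exists_resolution hI (K.restriction e)
  obtain ⟨Z, hZ, hZI⟩ := hI0
  have hY : ∀ n : ℤ, ∃ Y : A, I Y ∧ Nonempty (Y ≅ (L.extend e).X n) := by
    intro n
    by_cases h : ∃ k, e.f k = n
    · obtain ⟨k, hk⟩ := h
      exact ⟨L.X k, hL k, ⟨(L.extendXIso e hk).symm⟩⟩
    · push_neg at h
      exact ⟨Z, hZI, ⟨hZ.iso (L.isZero_extend_X e n h)⟩⟩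
  choose Y hYI hYe using hY
  let L' : CochainComplex A ℤ :=
    { X := Y
      d := fun i j => (hYe i).some.hom ≫ (L.extend e).d i j ≫ (hYe j).some.inv
      shape := fun i j hij => by rw [(L.extend e).shape i j hij, zero_comp, comp_zero] }
  let φ : L.extend e ≅ L' := HomologicalComplex.Hom.isoOfComponents (fun n => (hYe n).some.symm)
    (fun i j _ => by simp [L'])
  have hαe : ∀ n, Mono ((extendMap α e).f n) := by
    intro n
    by_cases h : ∃ k, e.f k = n
    · obtain ⟨k, hk⟩ := h
      rw [HomologicalComplex.extendMap_f α e hk]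
      have := hα k
      infer_instance
    · push_neg at h
      exact ⟨fun {W} f g _ => ((K.restriction e).isZero_extend_X e n h).eq_of_tgt f g⟩
  have hqe : QuasiIso (extendMap α e) := (quasiIso_extendMap_iff α e).2 hq
  refine ⟨L', ψ ≫ extendMap α e ≫ φ.hom, ?_, hYI, fun n => ?_, inferInstance⟩
  · have : CochainComplex.IsStrictlyGE (L.extend e) a := by
      rw [CochainComplex.isStrictlyGE_iff]
      intro i hi
      exact L.isZero_extend_X e i (fun k => by simp [e]; omega)
    exact CochainComplex.isStrictlyGE_of_iso φ a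
  · have := hψ n
    have := hαe n
    rw [HomologicalComplex.comp_f, HomologicalComplex.comp_f]
    infer_instance

end Groth.Agent.DerLib.RightRes
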