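/-
The horseshoe lemma for bounded below complexes, strict extensions into bounded below complexes
of injectives, and the five lemma for quasi-isomorphisms.
-/
import Groth.Agent.DerLib.RightRes

universe v u

open CategoryTheory Limits HomologicalComplex

namespace Groth.Agent.DerLib.Horseshoe

variable {A : Type u} [Category.{v} A] [Abelian A]

theorem quasiIso_τ₂ {S₁ S₂ : ShortComplex (CochainComplex A ℤ)} (φ : S₁ ⟶ S₂)
    (hS₁ : S₁.ShortExact) (hS₂ : S₂.ShortExact) (h₁ : QuasiIso φ.τ₁) (h₃ : QuasiIso φ.τ₃) :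
    QuasiIso φ.τ₂ := by
  rw [quasiIso_iff]
  intro i
  rw [quasiIsoAt_iff_isIso_homologyMap]
  have : Mono (homologyMap φ.τ₂ i) := by
    apply Abelian.mono_of_epi_of_mono_of_mono
      ((ComposableArrows.δ₀Functor ⋙ ComposableArrows.δ₀Functor).map
        (HomologySequence.mapComposableArrows₅ φ hS₁ hS₂ (i - 1) i (by simp)))
    · exact (HomologySequence.composableArrows₅_exact hS₁ (i - 1) i (by simp)).δ₀.δ₀
    · exact (HomologySequence.composableArrows₅_exact hS₂ (i - 1) i (by simp)).δ₀.δ₀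
    · exact inferInstanceAs (Epi (homologyMap φ.τ₃ (i - 1)))
    · exact inferInstanceAs (Mono (homologyMap φ.τ₁ i))
    · exact inferInstanceAs (Mono (homologyMap φ.τ₃ i))
  have : Epi (homologyMap φ.τ₂ i) := by
    apply Abelian.epi_of_epi_of_epi_of_mono
      ((ComposableArrows.δlastFunctor ⋙ ComposableArrows.δlastFunctor).map
        (HomologySequence.mapComposableArrows₅ φ hS₁ hS₂ i (i + 1) (by simp)))
    · exact (HomologySequence.composableArrows₅_exact hS₁ i (i + 1) (by simp)).δlast.δlast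
    · exact (HomologySequence.composableArrows₅_exact hS₂ i (i + 1) (by simp)).δlast.δlast
    · exact inferInstanceAs (Epi (homologyMap φ.τ₁ i))
    · exact inferInstanceAs (Epi (homologyMap φ.τ₃ i))
    · exact inferInstanceAs (Mono (homologyMap φ.τ₁ (i + 1)))
  exact isIso_of_mono_of_epi _

theorem exists_desc {K L I : CochainComplex A ℤ} (α : K ⟶ L) [QuasiIso α]
    (hα : ∀ n : ℤ, Mono (α.f n)) (a : ℤ) [I.IsStrictlyGE a] (hI : ∀ n : ℤ, Injective (I.X n))
    (γ : K ⟶ I) : ∃ β : L ⟶ I, α ≫ β = γ := by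
  have : Mono α := HomologicalComplex.mono_of_mono_f α hα
  obtain ⟨Z₀, hZ₀⟩ : ∃ Z : CochainComplex A ℤ, IsZero Z := HasZeroObject.zero
  have sq : CommSq γ α (0 : I ⟶ Z₀) (0 : L ⟶ Z₀) := ⟨by simp⟩
  have hn : ∀ n, Injective (I.X n) := hI
  have : I.IsKInjective := CochainComplex.isKInjective_of_injective I a
  have hsq : ∀ n, (sq.map (HomologicalComplex.eval _ _ n)).LiftStruct := fun n =>
    { l := (Injective.factorThru (γ.f n) (α.f n) : L.X n ⟶ I.X n)
      fac_left := @Injective.comp_factorThru A _ (I.X n) (K.X n) (L.X n) (hn n) (γ.f n) (α.f n)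
        (hα n)
      fac_right := (Functor.map_isZero (HomologicalComplex.eval A _ n) hZ₀).eq_of_tgt _ _ }
  have hS : (ShortComplex.mk _ _ (cokernel.condition α)).ShortExact :=
    { exact := ShortComplex.exact_cokernel α }
  have hK : IsLimit (KernelFork.ofι (𝟙 I) (show 𝟙 I ≫ (0 : I ⟶ Z₀) = 0 from comp_zero)) :=
    KernelFork.IsLimit.ofId _ rfl
  obtain ⟨c, hc⟩ := CochainComplex.IsKInjective.eq_δ_of_cocycle
    (CochainComplex.Lifting.cocycle₁ sq hsq (hπ := cokernel.condition α) (cokernelIsCokernel α) hK)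
    (hS.acyclic_X₃ (by dsimp; infer_instance)) 0 (by simp)
  have := CochainComplex.Lifting.hasLift sq hsq (hπ := cokernel.condition α)
    (cokernelIsCokernel α) hK c hc
  exact ⟨sq.lift, sq.fac_left⟩

theorem exists_injective_resolution [EnoughInjectives A] (K : CochainComplex A ℤ) (a : ℤ)
    [K.IsStrictlyGE a] : ∃ (L : CochainComplex A ℤ) (α : K ⟶ L), L.IsStrictlyGE a ∧
      (∀ n, Injective (L.X n)) ∧ (∀ n, Mono (α.f n)) ∧ QuasiIso α := by
  obtain ⟨Z, hZ⟩ : ∃ Z : A, IsZero Z := HasZeroObject.zero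
  exact RightRes.exists_resolution_int (I := fun X : A => Injective X)
    (fun X => ⟨Injective.under X, Injective.ι X, inferInstance, inferInstance⟩)
    ⟨Z, hZ, hZ.injective⟩ K a

/-- The complex `M₁ ⊞ M₃` with differential twisted by `ψ`. -/
@[simps]
noncomputable def twist (M₁ M₃ : CochainComplex A ℤ) (ψ : ∀ i, M₃.X i ⟶ M₁.X (i + 1))
    (hψ : ∀ i, ψ i ≫ M₁.d (i + 1) (i + 1 + 1) + M₃.d i (i + 1) ≫ ψ (i + 1) = 0) :
    CochainComplex A ℤ where
  X k := M₁.X k ⊞ M₃.X k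
  d i j := if h : i + 1 = j then biprod.fst ≫ M₁.d i j ≫ biprod.inl +
      biprod.snd ≫ M₃.d i j ≫ biprod.inr +
      biprod.snd ≫ ψ i ≫ (M₁.XIsoOfEq h).hom ≫ biprod.inl else 0
  shape i j h := dif_neg h
  d_comp_d' i j k hij hjk := by
    obtain rfl : i + 1 = j := hij
    obtain rfl : i + 1 + 1 = k := hjk
    rw [dif_pos rfl, dif_pos rfl]
    ext <;> simp [hψ]

/-- A morphism to a twisted complex. -/
theorem exists_horseshoe [EnoughInjectives A] (S : ShortComplex (CochainComplex A ℤ))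
    (hS : S.ShortExact) (n : ℤ)
    [S.X₁.IsStrictlyGE n] [S.X₂.IsStrictlyGE n] [S.X₃.IsStrictlyGE n] :
    ∃ (T : ShortComplex (CochainComplex A ℤ)) (φ : S ⟶ T), T.ShortExact ∧
      T.X₁.IsStrictlyGE n ∧ T.X₂.IsStrictlyGE n ∧ T.X₃.IsStrictlyGE n ∧
      (∀ k : ℤ, Injective (T.X₁.X k) ∧ Injective (T.X₂.X k) ∧ Injective (T.X₃.X k)) ∧
      QuasiIso φ.τ₁ ∧ QuasiIso φ.τ₂ ∧ QuasiIso φ.τ₃ := by
  obtain ⟨M₁, u₁, hM₁, hI₁, hu₁, hq₁⟩ := exists_injective_resolution S.X₁ n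
  obtain ⟨M₃, u₃, hM₃, hI₃, hu₃, hq₃⟩ := exists_injective_resolution S.X₃ n
  have hSd := (shortExact_iff_degreewise_shortExact S).1 hS
  have hr : ∀ k, ∃ r : S.X₂.X k ⟶ M₁.X k, S.f.f k ≫ r = u₁.f k := fun k => by
    have : Mono (S.f.f k) := (hSd k).mono_f
    have := hI₁ k
    exact ⟨Injective.factorThru (u₁.f k) (S.f.f k), Injective.comp_factorThru _ _⟩
  choose r hr using hr
  have hθ : ∀ k, ∃ θ : S.X₃.X k ⟶ M₁.X (k + 1),
      S.g.f k ≫ θ = S.X₂.d k (k + 1) ≫ r (k + 1) - r k ≫ M₁.d k (k + 1) := fun k => by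
    have := (hSd k).epi_g
    refine ⟨(hSd k).exact.desc (S.X₂.d k (k + 1) ≫ r (k + 1) - r k ≫ M₁.d k (k + 1)) ?_,
      (hSd k).exact.g_desc _ _⟩
    change S.f.f k ≫ _ = 0
    rw [Preadditive.comp_sub, S.f.comm_assoc, hr, reassoc_of% hr, u₁.comm, sub_self]
  choose θ hθ using hθ
  have hepi : ∀ k, Epi (S.g.f k) := fun k => (hSd k).epi_g
  let γ : S.X₃ ⟶ M₁⟦(1 : ℤ)⟧ :=
    { f := θ
      comm' := fun i j hij => by
        obtain rfl : i + 1 = j := hij
        have := hepi i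
        have key : θ i ≫ M₁.d (i + 1) (i + 1 + 1) + S.X₃.d i (i + 1) ≫ θ (i + 1) = 0 := by
          rw [← cancel_epi (S.g.f i), Preadditive.comp_add, reassoc_of% hθ i, S.g.comm_assoc, hθ]
          simp
        simp only [CochainComplex.shiftFunctor_obj_d', Int.negOnePow_one, Units.neg_smul, one_smul]
        exact (Preadditive.comp_neg _ _).trans (neg_eq_of_add_eq_zero_right key) }
  obtain ⟨ψ, hψ⟩ : ∃ ψ : M₃ ⟶ M₁⟦(1 : ℤ)⟧, u₃ ≫ ψ = γ := by
    have : (M₁⟦(1 : ℤ)⟧).IsStrictlyGE (n - 1) := M₁.isStrictlyGE_shift n 1 (n - 1) (by omega)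
    exact exists_desc u₃ hu₃ (n - 1) (fun k => hI₁ (k + 1)) γ
  have hψ' : ∀ k, u₃.f k ≫ ψ.f k = θ k := fun k =>
    congrArg (fun φ : S.X₃ ⟶ M₁⟦(1 : ℤ)⟧ => φ.f k) hψ
  let p : ∀ i, M₃.X i ⟶ M₁.X (i + 1) := fun i => ψ.f i
  have hp : ∀ i, p i ≫ M₁.d (i + 1) (i + 1 + 1) + M₃.d i (i + 1) ≫ p (i + 1) = 0 := by
    intro i
    have h := ψ.comm i (i + 1)
    simp only [CochainComplex.shiftFunctor_obj_d', Int.negOnePow_one, Units.neg_smul, one_smul] at h
    exact (congrArg (ψ.f i ≫ M₁.d (i + 1) (i + 1 + 1) + ·) h.symm).trans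
      ((congrArg _ (Preadditive.comp_neg _ _)).trans (add_neg_cancel _))
  have hp' : ∀ k, u₃.f k ≫ p k = θ k := hψ'
  let inl : M₁ ⟶ twist M₁ M₃ p hp :=
    { f := fun k => biprod.inl
      comm' := fun i j hij => by
        obtain rfl : i + 1 = j := hij
        change biprod.inl ≫ (dite _ _ _ : M₁.X i ⊞ M₃.X i ⟶ M₁.X (i + 1) ⊞ M₃.X (i + 1)) =
          M₁.d i (i + 1) ≫ biprod.inl
        rw [dif_pos rfl]
        simp [Preadditive.comp_add] }
  let snd : twist M₁ M₃ p hp ⟶ M₃ :=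
    { f := fun k => biprod.snd
      comm' := fun i j hij => by
        obtain rfl : i + 1 = j := hij
        change biprod.snd ≫ M₃.d i (i + 1) =
          (dite _ _ _ : M₁.X i ⊞ M₃.X i ⟶ M₁.X (i + 1) ⊞ M₃.X (i + 1)) ≫ biprod.snd
        rw [dif_pos rfl]
        simp [Preadditive.add_comp] }
  have hT : ∀ k, (((ShortComplex.mk inl snd (by ext k; exact biprod.inl_snd)).map
      (HomologicalComplex.eval A _ k))).ShortExact := fun k =>
    (ShortComplex.Splitting.ofHasBinaryBiproduct (M₁.X k) (M₃.X k)).shortExact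
  let τ₂ : S.X₂ ⟶ twist M₁ M₃ p hp :=
    { f := fun k => biprod.lift (r k) (S.g.f k ≫ u₃.f k)
      comm' := fun i j hij => by
        obtain rfl : i + 1 = j := hij
        change biprod.lift (r i) (S.g.f i ≫ u₃.f i) ≫
            (dite _ _ _ : M₁.X i ⊞ M₃.X i ⟶ M₁.X (i + 1) ⊞ M₃.X (i + 1)) =
          S.X₂.d i (i + 1) ≫ biprod.lift (r (i + 1)) (S.g.f (i + 1) ≫ u₃.f (i + 1))
        rw [dif_pos rfl]
        apply biprod.hom_ext
        · simp [Preadditive.add_comp, reassoc_of% hp' i, hp', hθ]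
        · simp [Preadditive.add_comp] }
  let φ : S ⟶ ShortComplex.mk inl snd (by ext k; exact biprod.inl_snd) :=
    { τ₁ := u₁
      τ₂ := τ₂
      τ₃ := u₃
      comm₁₂ := by
        ext k
        change u₁.f k ≫ (biprod.inl : M₁.X k ⟶ M₁.X k ⊞ M₃.X k) =
          S.f.f k ≫ biprod.lift (r k) (S.g.f k ≫ u₃.f k)
        apply biprod.hom_ext
        · simp [hr]
        · simp [← HomologicalComplex.comp_f_assoc, S.zero]
      comm₂₃ := by
        ext k
        change biprod.lift (r k) (S.g.f k ≫ u₃.f k) ≫ biprod.snd = S.g.f k ≫ u₃.f k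
        simp }
  have hTe := HomologicalComplex.shortExact_of_degreewise_shortExact _ hT
  refine ⟨_, φ, hTe, hM₁, ?_, hM₃, fun k => ⟨hI₁ k, ?_, hI₃ k⟩, hq₁,
    quasiIso_τ₂ φ hS hTe hq₁ hq₃, hq₃⟩
  · rw [CochainComplex.isStrictlyGE_iff]
    intro i hi
    exact biprod_isZero_iff _ _ |>.2 ⟨M₁.isZero_of_isStrictlyGE n i, M₃.isZero_of_isStrictlyGE n i⟩
  · have := hI₁ k
    have := hI₃ k
    exact inferInstanceAs (Injective (M₁.X k ⊞ M₃.X k))

end Groth.Agent.DerLib.Horseshoe
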