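/-
Devissage for natural transformations of triangulated functors between derived categories.
-/
import Mathlib.Algebra.Homology.DerivedCategory.TStructure
import Mathlib.Algebra.Homology.DerivedCategory.FullyFaithful
import Mathlib.CategoryTheory.Triangulated.TStructure.TruncLEGT
import Mathlib.CategoryTheory.Triangulated.Functor

set_option linter.unusedSectionVars false
set_option linter.style.haveILetI false

universe w w' v v' u u'

open CategoryTheory Limits Pretriangulated DerivedCategory DerivedCategory.TStructure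

namespace Groth.Agent.DerLib.Devissage

variable {C : Type u} [Category.{v} C] [Abelian C] [HasDerivedCategory.{w} C]

section Homology

variable (T : Triangle (DerivedCategory C)) (hT : T ∈ distTriang _) (j : ℤ)

include hT

theorem isIso_homologyMap_mor₁ (h : IsZero ((homologyFunctor C j).obj T.obj₃))
    (h' : IsZero ((homologyFunctor C (j - 1)).obj T.obj₃)) :
    IsIso ((homologyFunctor C j).map T.mor₁) := by
  haveI : Mono ((homologyFunctor C j).map T.mor₁) :=
    (HomologySequence.mono_homologyMap_mor₁_iff T hT (j - 1) j).2 (h'.eq_of_src _ _)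
  haveI : Epi ((homologyFunctor C j).map T.mor₁) :=
    (HomologySequence.epi_homologyMap_mor₁_iff T hT j).2 (h.eq_of_tgt _ _)
  exact isIso_of_mono_of_epi _

theorem isIso_homologyMap_mor₂ (h : IsZero ((homologyFunctor C j).obj T.obj₁))
    (h' : IsZero ((homologyFunctor C (j + 1)).obj T.obj₁)) :
    IsIso ((homologyFunctor C j).map T.mor₂) := by
  haveI : Mono ((homologyFunctor C j).map T.mor₂) :=
    (HomologySequence.mono_homologyMap_mor₂_iff T hT j).2 (h.eq_of_src _ _)
  haveI : Epi ((homologyFunctor C j).map T.mor₂) :=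
    (HomologySequence.epi_homologyMap_mor₂_iff T hT j (j + 1)).2 (h'.eq_of_tgt _ _)
  exact isIso_of_mono_of_epi _

end Homology

theorem isIso_homology_truncLEι (X : DerivedCategory C) (b j : ℤ) (hj : j ≤ b) :
    IsIso ((homologyFunctor C j).map ((t.truncLEι b).app X)) :=
  isIso_homologyMap_mor₁ _ (t.triangleLEGT_distinguished b X) j
    (isZero_of_isGE ((t.truncGT b).obj X) (b + 1) j (by omega))
    (isZero_of_isGE ((t.truncGT b).obj X) (b + 1) (j - 1) (by omega))

theorem isIso_homology_truncGTπ (X : DerivedCategory C) (b j : ℤ) (hj : b < j) :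
    IsIso ((homologyFunctor C j).map ((t.truncGTπ b).app X)) :=
  isIso_homologyMap_mor₂ _ (t.triangleLEGT_distinguished b X) j
    (isZero_of_isLE ((t.truncLE b).obj X) b j (by omega))
    (isZero_of_isLE ((t.truncLE b).obj X) b (j + 1) (by omega))

/-- An object concentrated in one degree is the corresponding shifted homology object. -/
theorem nonempty_iso_single (X : DerivedCategory C) (n : ℤ) [X.IsGE n] [X.IsLE n] :
    Nonempty (X ≅ (singleFunctor C n).obj ((homologyFunctor C n).obj X)) := by
  obtain ⟨Y, ⟨e⟩⟩ := X.exists_iso_singleFunctor_obj_of_isGE_of_isLE n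
  exact ⟨e ≪≫ (singleFunctor C n).mapIso
    (((singleFunctorCompHomologyFunctorIso C n).app Y).symm ≪≫ (homologyFunctor C n).mapIso e.symm)⟩

variable {D : Type u'} [Category.{v'} D] [HasShift D ℤ] {Φ Ψ : DerivedCategory C ⥤ D}
  [Φ.CommShift ℤ] [Ψ.CommShift ℤ] (τ : Φ ⟶ Ψ) [NatTrans.CommShift τ ℤ]

theorem isIso_app_shift (X : DerivedCategory C) (a : ℤ) [IsIso (τ.app X)] :
    IsIso (τ.app (X⟦a⟧)) := by
  rw [NatTrans.app_shift τ a X]
  infer_instance

theorem isIso_app_single (M : C) (a b : ℤ) (h : IsIso (τ.app ((singleFunctor C a).obj M))) :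
    IsIso (τ.app ((singleFunctor C b).obj M)) :=
  haveI := isIso_app_shift τ ((singleFunctor C a).obj M) (a - b)
  (NatTrans.isIso_app_iff_of_iso τ
    (((singleFunctors C).shiftIso (a - b) b a (by omega)).app M)).1 this

variable [HasZeroObject D] [Preadditive D] [∀ n : ℤ, (shiftFunctor D n).Additive]
  [Pretriangulated D] [Φ.IsTriangulated] [Ψ.IsTriangulated]

theorem isIso_app_obj₂ (T : Triangle (DerivedCategory C)) (hT : T ∈ distTriang _)
    [h₁ : IsIso (τ.app T.obj₁)] [h₃ : IsIso (τ.app T.obj₃)] : IsIso (τ.app T.obj₂) :=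
  isIso₂_of_isIso₁₃ ((Φ.mapTriangle.obj T).homMk (Ψ.mapTriangle.obj T) (τ.app T.obj₁)
    (τ.app T.obj₂) (τ.app T.obj₃) (τ.naturality _) (τ.naturality _)
    (by
      show (Φ.map T.mor₃ ≫ (Φ.commShiftIso (1 : ℤ)).hom.app T.obj₁) ≫ (τ.app T.obj₁)⟦(1 : ℤ)⟧' =
        τ.app T.obj₃ ≫ Ψ.map T.mor₃ ≫ (Ψ.commShiftIso (1 : ℤ)).hom.app T.obj₁
      rw [Category.assoc, NatTrans.shift_app_comm τ (1 : ℤ) T.obj₁, τ.naturality_assoc]))
    (Φ.map_distinguished _ hT) (Ψ.map_distinguished _ hT) h₁ h₃

/-- Devissage for bounded objects. -/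
theorem isIso_app_of_bounded (a : ℤ) (k : ℕ) (X : DerivedCategory C) [X.IsGE a]
    [X.IsLE (a + k)]
    (h : ∀ q : ℤ, IsIso (τ.app ((singleFunctor C 0).obj ((homologyFunctor C q).obj X)))) :
    IsIso (τ.app X) := by
  induction k generalizing X with
  | zero =>
    haveI : X.IsLE a := t.isLE_of_le X (a + ((0 : ℕ) : ℤ)) a (by omega)
    obtain ⟨e⟩ := nonempty_iso_single X a
    rw [NatTrans.isIso_app_iff_of_iso τ e]
    exact isIso_app_single τ _ 0 a (h a)
  | succ k ih =>
    let b : ℤ := a + k
    haveI : X.IsLE (b + 1) := t.isLE_of_le X (a + ((k + 1 : ℕ) : ℤ)) (b + 1) (by simp [b]; omega)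
    haveI : IsIso (τ.app ((t.triangleLEGT b).obj X).obj₁) := by
      change IsIso (τ.app ((t.truncLE b).obj X))
      haveI : ((t.truncLE b).obj X).IsGE a := by
        rw [isGE_iff]
        intro i hi
        haveI := isIso_homology_truncLEι X b i (by omega)
        exact (isZero_of_isGE X a i hi).of_iso
          (asIso ((homologyFunctor C i).map ((t.truncLEι b).app X)))
      haveI : ((t.truncLE b).obj X).IsLE (a + k) := t.isLE_of_le _ b (a + k) le_rfl
      refine ih _ fun q => ?_
      by_cases hq : q ≤ b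
      · haveI := isIso_homology_truncLEι X b q hq
        exact (NatTrans.isIso_app_iff_of_iso τ ((singleFunctor C 0).mapIso
          (asIso ((homologyFunctor C q).map ((t.truncLEι b).app X))))).2 (h q)
      · haveI : IsZero ((singleFunctor C 0).obj ((homologyFunctor C q).obj ((t.truncLE b).obj X))) :=
          (singleFunctor C 0).map_isZero (isZero_of_isLE _ b q (by omega))
        exact (Φ.map_isZero this).isIso (Ψ.map_isZero this) _
    haveI : IsIso (τ.app ((t.triangleLEGT b).obj X).obj₃) := by
      change IsIso (τ.app ((t.truncGT b).obj X))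
      haveI : ((t.truncGT b).obj X).IsLE (b + 1) := by
        rw [isLE_iff]
        intro i hi
        haveI := isIso_homology_truncGTπ X b i (by omega)
        exact (isZero_of_isLE X (b + 1) i hi).of_iso
          (asIso ((homologyFunctor C i).map ((t.truncGTπ b).app X))).symm
      obtain ⟨e⟩ := nonempty_iso_single ((t.truncGT b).obj X) (b + 1)
      rw [NatTrans.isIso_app_iff_of_iso τ e]
      haveI := isIso_homology_truncGTπ X b (b + 1) (by omega)
      exact isIso_app_single τ _ 0 _ ((NatTrans.isIso_app_iff_of_iso τ ((singleFunctor C 0).mapIso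
        (asIso ((homologyFunctor C (b + 1)).map ((t.truncGTπ b).app X))))).1 (h (b + 1)))
    exact isIso_app_obj₂ τ _ (t.triangleLEGT_distinguished b X)

end Groth.Agent.DerLib.Devissage

namespace Groth.Agent.DerLib.Devissage

variable {C : Type u} [Category.{v} C] [Abelian C] [HasDerivedCategory.{w} C]
  {E : Type u'} [Category.{v'} E] [Abelian E] [HasDerivedCategory.{w'} E]
  {Φ Ψ : DerivedCategory C ⥤ DerivedCategory E}
  [Φ.CommShift ℤ] [Ψ.CommShift ℤ] [Φ.IsTriangulated] [Ψ.IsTriangulated]
  (τ : Φ ⟶ Ψ) [NatTrans.CommShift τ ℤ]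

/-- `Φ` lowers the lower bound of the cohomological amplitude by at most `d`. -/
def LeftBound (Φ : DerivedCategory C ⥤ DerivedCategory E) (d : ℤ) : Prop :=
  ∀ (X : DerivedCategory C) (n i : ℤ), X.IsGE n → i < n - d →
    IsZero ((homologyFunctor E i).obj (Φ.obj X))

theorem isIso_homology_map_truncLEι (d : ℤ) (hΦ : LeftBound Φ d) (X : DerivedCategory C) (j : ℤ) :
    IsIso ((homologyFunctor E j).map (Φ.map ((t.truncLEι (j + d)).app X))) :=
  isIso_homologyMap_mor₁ _ (Φ.map_distinguished _ (t.triangleLEGT_distinguished (j + d) X)) j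
    (hΦ ((t.truncGT (j + d)).obj X) (j + d + 1) j inferInstance (by omega))
    (hΦ ((t.truncGT (j + d)).obj X) (j + d + 1) (j - 1) inferInstance (by omega))

/-- Devissage for bounded below objects and functors of bounded below amplitude. -/
theorem isIso_app_of_isGE (d : ℤ) (hΦ : LeftBound Φ d) (hΨ : LeftBound Ψ d)
    (X : DerivedCategory C) (n : ℤ) [X.IsGE n]
    (h : ∀ q : ℤ, IsIso (τ.app ((singleFunctor C 0).obj ((homologyFunctor C q).obj X)))) :
    IsIso (τ.app X) := by
  rw [isIso_iff]
  intro j
  by_cases hj : j < n - d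
  · exact (hΦ X n j inferInstance hj).isIso (hΨ X n j inferInstance hj) _
  haveI : IsIso (τ.app ((t.truncLE (j + d)).obj X)) := by
    haveI : ((t.truncLE (j + d)).obj X).IsGE n := by
      rw [isGE_iff]
      intro i hi
      haveI := isIso_homology_truncLEι X (j + d) i (by omega)
      exact (isZero_of_isGE X n i hi).of_iso
        (asIso ((homologyFunctor C i).map ((t.truncLEι (j + d)).app X)))
    haveI : ((t.truncLE (j + d)).obj X).IsLE (n + ((j + d - n).toNat : ℤ)) :=
      t.isLE_of_le _ (j + d) _ (by omega)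
    refine isIso_app_of_bounded τ n (j + d - n).toNat _ fun q => ?_
    by_cases hq : q ≤ j + d
    · haveI := isIso_homology_truncLEι X (j + d) q hq
      exact (NatTrans.isIso_app_iff_of_iso τ ((singleFunctor C 0).mapIso
        (asIso ((homologyFunctor C q).map ((t.truncLEι (j + d)).app X))))).2 (h q)
    · have hz : IsZero ((singleFunctor C 0).obj
          ((homologyFunctor C q).obj ((t.truncLE (j + d)).obj X))) :=
        (singleFunctor C 0).map_isZero (isZero_of_isLE _ (j + d) q (by omega))
      exact (Φ.map_isZero hz).isIso (Ψ.map_isZero hz) _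
  haveI := isIso_homology_map_truncLEι d hΦ X j
  haveI := isIso_homology_map_truncLEι d hΨ X j
  have := (homologyFunctor E j).congr_map (τ.naturality ((t.truncLEι (j + d)).app X))
  simp only [Functor.map_comp] at this
  exact IsIso.of_isIso_fac_left this

end Groth.Agent.DerLib.Devissage

namespace Groth.Agent.DerLib.Devissage

variable {C : Type u} [Category.{v} C] [Abelian C] [HasDerivedCategory.{w} C]
  {E : Type u'} [Category.{v'} E] [Abelian E] [HasDerivedCategory.{w'} E]

theorem leftBound_id : LeftBound (𝟭 (DerivedCategory C)) 0 := fun X n i hX hi =>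
  isZero_of_isGE X n i (by omega)

theorem isGE_of_leftBound {Φ : DerivedCategory C ⥤ DerivedCategory E} (hΦ : LeftBound Φ 0)
    (X : DerivedCategory C) (n : ℤ) [X.IsGE n] : (Φ.obj X).IsGE n :=
  (isGE_iff _ n).2 fun i hi => hΦ X n i inferInstance (by omega)

theorem leftBound_comp {G : Type*} [Category G] [Abelian G] [HasDerivedCategory G]
    {Φ : DerivedCategory C ⥤ DerivedCategory E} {Φ' : DerivedCategory E ⥤ DerivedCategory G}
    (hΦ : LeftBound Φ 0) (hΦ' : LeftBound Φ' 0) : LeftBound (Φ ⋙ Φ') 0 := fun X n i hX hi =>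
  hΦ' (Φ.obj X) n i (isGE_of_leftBound hΦ X n) hi

end Groth.Agent.DerLib.Devissage
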