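/-
Weak Serre subcategories, five term exact sequences and devissage of cohomology conditions.
-/
import Groth.Agent.DerLib.Devissage
import Groth.Prelude.Def_WeakSerre

set_option linter.unusedSectionVars false
set_option linter.style.haveILetI false

universe w w' v v' u u'

open CategoryTheory Limits Pretriangulated DerivedCategory DerivedCategory.TStructure

namespace Groth.Agent.DerLib.WeakSerreTri

variable {C : Type u} [Category.{v} C] [Abelian C] (P : ObjectProperty C) [WSerre.IsWeakSerre P]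

theorem prop_of_five_exact {X₁ X₂ X₃ X₄ X₅ : C} {a : X₁ ⟶ X₂} {b : X₂ ⟶ X₃} {c : X₃ ⟶ X₄}
    {d : X₄ ⟶ X₅} {w₁ : a ≫ b = 0} {w₂ : b ≫ c = 0} {w₃ : c ≫ d = 0}
    (h₁ : (ShortComplex.mk a b w₁).Exact) (h₂ : (ShortComplex.mk b c w₂).Exact)
    (h₃ : (ShortComplex.mk c d w₃).Exact) (p₁ : P X₁) (p₂ : P X₂) (p₄ : P X₄) (p₅ : P X₅) :
    P X₃ := by
  let β : X₂ ⟶ kernel c := kernel.lift c b w₂
  let γ : X₃ ⟶ kernel d := kernel.lift d c w₃
  have : Epi β := h₂.epi_kernelLift
  have : Epi γ := h₃.epi_kernelLift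
  have hab : (ShortComplex.mk a β (by rw [← cancel_mono (kernel.ι c)]; simpa [β] using w₁)).Exact :=
    (ShortComplex.exact_iff_of_epi_of_isIso_of_mono
      (S₁ := ShortComplex.mk a β (by rw [← cancel_mono (kernel.ι c)]; simpa [β] using w₁))
      (S₂ := ShortComplex.mk a b w₁)
      { τ₁ := 𝟙 _, τ₂ := 𝟙 _, τ₃ := kernel.ι c, comm₁₂ := by simp, comm₂₃ := by simp [β] }).2 h₁
  have pK : P (kernel c) := P.prop_of_isColimit_cokernelCofork hab.gIsCokernel p₁ p₂
  have pI : P (kernel d) := P.prop_of_isLimit_kernelFork (limit.isLimit (parallelPair d 0)) p₄ p₅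
  have hex : (ShortComplex.mk (kernel.ι c) γ
      (by rw [← cancel_mono (kernel.ι d)]; simp [γ])).Exact :=
    (ShortComplex.exact_iff_of_epi_of_isIso_of_mono
      (S₁ := ShortComplex.mk (kernel.ι c) γ (by rw [← cancel_mono (kernel.ι d)]; simp [γ]))
      (S₂ := ShortComplex.mk (kernel.ι c) c (kernel.condition c))
      { τ₁ := 𝟙 _, τ₂ := 𝟙 _, τ₃ := kernel.ι d, comm₁₂ := by simp, comm₂₃ := by simp [γ] }).2
        (ShortComplex.exact_kernel c)
  exact P.prop_X₂_of_shortExact { exact := hex } pK pI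

variable [HasDerivedCategory.{w} C]

theorem cohIn_obj₂ (T : Triangle (DerivedCategory C)) (hT : T ∈ distTriang _)
    (h₁ : WSerre.cohIn P T.obj₁) (h₃ : WSerre.cohIn P T.obj₃) : WSerre.cohIn P T.obj₂ := fun j =>
  prop_of_five_exact P (HomologySequence.exact₁ T hT (j - 1) j) (HomologySequence.exact₂ T hT j)
    (HomologySequence.exact₃ T hT j (j + 1)) (h₃ (j - 1)) (h₁ j) (h₃ j) (h₁ (j + 1))

variable {B : Type u'} [Category.{v'} B] [Abelian B] [HasDerivedCategory.{w'} B]
  (R : ObjectProperty B) [WSerre.IsWeakSerre R]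
  (Φ : DerivedCategory C ⥤ DerivedCategory B) [Φ.CommShift ℤ] [Φ.IsTriangulated]

open Devissage

theorem cohIn_shift (X : DerivedCategory B) (a : ℤ) (h : WSerre.cohIn R X) :
    WSerre.cohIn R (X⟦a⟧) := fun i =>
  R.prop_of_iso (((DerivedCategory.homologyFunctor B 0).shiftIso a i (a + i) rfl).app X).symm
    (h (a + i))

theorem cohIn_of_iso {X Y : DerivedCategory B} (e : X ≅ Y) (h : WSerre.cohIn R X) :
    WSerre.cohIn R Y := fun i =>
  R.prop_of_iso ((DerivedCategory.homologyFunctor B i).mapIso e) (h i)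

theorem cohIn_of_bounded (hs : ∀ M, P M → WSerre.cohIn R (Φ.obj ((singleFunctor C 0).obj M)))
    (a : ℤ) (k : ℕ) (X : DerivedCategory C) [X.IsGE a] [X.IsLE (a + k)]
    (h : WSerre.cohIn P X) : WSerre.cohIn R (Φ.obj X) := by
  have single : ∀ (M : C) (b : ℤ), P M → WSerre.cohIn R (Φ.obj ((singleFunctor C b).obj M)) :=
    fun M b hM => cohIn_of_iso R
      (((Φ.commShiftIso (-b)).app _).symm ≪≫
        Φ.mapIso (((singleFunctors C).shiftIso (-b) b 0 (by omega)).app M))
      (cohIn_shift R _ (-b) (hs M hM))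
  induction k generalizing X with
  | zero =>
    haveI : X.IsLE a := t.isLE_of_le X (a + ((0 : ℕ) : ℤ)) a (by omega)
    obtain ⟨e⟩ := nonempty_iso_single X a
    exact cohIn_of_iso R (Φ.mapIso e).symm (single _ a (h a))
  | succ k ih =>
    let b : ℤ := a + k
    haveI : X.IsLE (b + 1) := t.isLE_of_le X (a + ((k + 1 : ℕ) : ℤ)) (b + 1) (by simp [b]; omega)
    refine cohIn_obj₂ R _ (Φ.map_distinguished _ (t.triangleLEGT_distinguished b X)) ?_ ?_
    · change WSerre.cohIn R (Φ.obj ((t.truncLE b).obj X))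
      haveI : ((t.truncLE b).obj X).IsGE a := by
        rw [isGE_iff]
        intro i hi
        haveI := isIso_homology_truncLEι X b i (by omega)
        exact (isZero_of_isGE X a i hi).of_iso
          (asIso ((DerivedCategory.homologyFunctor C i).map ((t.truncLEι b).app X)))
      haveI : ((t.truncLE b).obj X).IsLE (a + k) := t.isLE_of_le _ b (a + k) le_rfl
      refine ih _ fun q => ?_
      by_cases hq : q ≤ b
      · haveI := isIso_homology_truncLEι X b q hq
        exact P.prop_of_iso
          (asIso ((DerivedCategory.homologyFunctor C q).map ((t.truncLEι b).app X))).symm (h q)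
      · exact P.prop_of_isZero (isZero_of_isLE _ b q (by omega))
    · change WSerre.cohIn R (Φ.obj ((t.truncGT b).obj X))
      haveI : ((t.truncGT b).obj X).IsLE (b + 1) := by
        rw [isLE_iff]
        intro i hi
        haveI := isIso_homology_truncGTπ X b i (by omega)
        exact (isZero_of_isLE X (b + 1) i hi).of_iso
          (asIso ((DerivedCategory.homologyFunctor C i).map ((t.truncGTπ b).app X))).symm
      obtain ⟨e⟩ := nonempty_iso_single ((t.truncGT b).obj X) (b + 1)
      haveI := isIso_homology_truncGTπ X b (b + 1) (by omega)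
      exact cohIn_of_iso R (Φ.mapIso e).symm (single _ (b + 1) (P.prop_of_iso
        (asIso ((DerivedCategory.homologyFunctor C (b + 1)).map ((t.truncGTπ b).app X))) (h (b + 1))))

/-- Cohomology conditions propagate to bounded below objects. -/
theorem cohIn_of_isGE (hΦ : LeftBound Φ 0)
    (hs : ∀ M, P M → WSerre.cohIn R (Φ.obj ((singleFunctor C 0).obj M)))
    (X : DerivedCategory C) (n : ℤ) [X.IsGE n] (h : WSerre.cohIn P X) :
    WSerre.cohIn R (Φ.obj X) := fun j => by
  haveI := isIso_homology_map_truncLEι (Φ := Φ) 0 hΦ X j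
  refine R.prop_of_iso
    (asIso ((DerivedCategory.homologyFunctor B j).map (Φ.map ((t.truncLEι (j + 0)).app X)))) ?_
  by_cases hj : j + 0 < n
  · exact R.prop_of_isZero ((hΦ X n j inferInstance (by omega)).of_iso
      (asIso ((DerivedCategory.homologyFunctor B j).map (Φ.map ((t.truncLEι (j + 0)).app X)))))
  haveI : ((t.truncLE (j + 0)).obj X).IsGE n := by
    rw [isGE_iff]
    intro i hi
    haveI := isIso_homology_truncLEι X (j + 0) i (by omega)
    exact (isZero_of_isGE X n i hi).of_iso
      (asIso ((DerivedCategory.homologyFunctor C i).map ((t.truncLEι (j + 0)).app X)))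
  haveI : ((t.truncLE (j + 0)).obj X).IsLE (n + ((j + 0 - n).toNat : ℤ)) :=
    t.isLE_of_le _ (j + 0) _ (by omega)
  refine cohIn_of_bounded P R Φ hs n (j + 0 - n).toNat _ (fun q => ?_) j
  by_cases hq : q ≤ j + 0
  · haveI := isIso_homology_truncLEι X (j + 0) q hq
    exact P.prop_of_iso
      (asIso ((DerivedCategory.homologyFunctor C q).map ((t.truncLEι (j + 0)).app X))).symm (h q)
  · exact P.prop_of_isZero (isZero_of_isLE _ (j + 0) q (by omega))

end Groth.Agent.DerLib.WeakSerreTri

namespace Groth.Agent.DerLib.WeakSerreTri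

theorem cohIn_single {B : Type u'} [Category.{v'} B] [Abelian B] [HasDerivedCategory.{w'} B]
    (R : ObjectProperty B) [WSerre.IsWeakSerre R] (n : ℤ) (M : B) (hM : R M) :
    WSerre.cohIn R ((singleFunctor B n).obj M) := fun i => by
  rcases lt_trichotomy i n with h | rfl | h
  · exact R.prop_of_isZero (isZero_of_isGE ((singleFunctor B n).obj M) n i h)
  · exact R.prop_of_iso ((singleFunctorCompHomologyFunctorIso B i).app M).symm hM
  · exact R.prop_of_isZero (isZero_of_isLE ((singleFunctor B n).obj M) n i h)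

end Groth.Agent.DerLib.WeakSerreTri
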