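/-
Right derived functors computed with K-injective complexes, and derived adjunctions.
-/
import Mathlib.Algebra.Homology.DerivedCategory.KInjective
import Mathlib.Algebra.Homology.DerivedCategory.ExactFunctor
import Mathlib.CategoryTheory.Functor.Derived.PointwiseRightDerived
import Mathlib.CategoryTheory.Functor.Derived.PointwiseLeftDerived
import Mathlib.CategoryTheory.Functor.Derived.Adjunction

set_option linter.unusedSectionVars false
set_option linter.style.haveILetI false

universe w w' v v' u u' vH uH

open CategoryTheory Limits

namespace Groth.Agent.DerLib.KInjDerived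

variable {A : Type u} [Category.{v} A] [Abelian A]

variable (A) in
/-- Every complex admits a quasi-isomorphism to a K-injective complex. -/
def EnoughKInj : Prop :=
  ∀ K : CochainComplex A ℤ, ∃ (I : CochainComplex A ℤ) (f : K ⟶ I), I.IsKInjective ∧ QuasiIso f

variable [HasDerivedCategory.{w} A]

/-- A K-injective complex is terminal among objects over it in the derived category. -/
noncomputable def isTerminal (I : CochainComplex A ℤ) [I.IsKInjective] :
    IsTerminal (CostructuredArrow.mk (𝟙 (DerivedCategory.Qh.obj
      ((HomotopyCategory.quotient A (ComplexShape.up ℤ)).obj I))) :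
        CostructuredArrow DerivedCategory.Qh (DerivedCategory.Qh.obj
          ((HomotopyCategory.quotient A (ComplexShape.up ℤ)).obj I))) :=
  IsTerminal.ofUniqueHom
    (fun Y => CostructuredArrow.homMk
      ((CochainComplex.IsKInjective.Qh_map_bijective Y.left I).2 Y.hom).choose
      (by simpa using ((CochainComplex.IsKInjective.Qh_map_bijective Y.left I).2 Y.hom).choose_spec))
    (fun Y m => CostructuredArrow.hom_ext _ _
      ((CochainComplex.IsKInjective.Qh_map_bijective Y.left I).1 (by
        refine Eq.trans ?_ ((CochainComplex.IsKInjective.Qh_map_bijective Y.left I).2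
          Y.hom).choose_spec.symm
        simpa using CostructuredArrow.w m)))

variable {H : Type uH} [Category.{vH} H] (F : HomotopyCategory A (ComplexShape.up ℤ) ⥤ H)

theorem hasPointwiseAt (I : CochainComplex A ℤ) [I.IsKInjective] :
    F.HasPointwiseRightDerivedFunctorAt (HomotopyCategory.quasiIso A (ComplexShape.up ℤ))
      ((HomotopyCategory.quotient A (ComplexShape.up ℤ)).obj I) := by
  rw [F.hasPointwiseRightDerivedFunctorAt_iff DerivedCategory.Qh]
  exact ⟨⟨_, colimitOfDiagramTerminal (isTerminal I) _⟩⟩

theorem hasPointwise (hA : EnoughKInj A) :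
    F.HasPointwiseRightDerivedFunctor (HomotopyCategory.quasiIso A (ComplexShape.up ℤ)) := fun X => by
  obtain ⟨K, rfl⟩ := HomotopyCategory.quotient_obj_surjective X
  obtain ⟨I, f, hI, hf⟩ := hA K
  rw [F.hasPointwiseRightDerivedFunctorAt_iff_of_mem _
    ((HomotopyCategory.quotient A (ComplexShape.up ℤ)).map f)
    ((HomotopyCategory.quotient_map_mem_quasiIso_iff f).2
      ((HomologicalComplex.mem_quasiIso_iff _).2 hf))]
  exact hasPointwiseAt F I

theorem hasRightDerivedFunctor (hA : EnoughKInj A) :
    F.HasRightDerivedFunctor (HomotopyCategory.quasiIso A (ComplexShape.up ℤ)) :=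
  haveI := hasPointwise F hA
  inferInstance

theorem essSurj_kInjective (hA : EnoughKInj A) (X : DerivedCategory A) :
    ∃ I : CochainComplex A ℤ, I.IsKInjective ∧
      Nonempty (DerivedCategory.Qh.obj ((HomotopyCategory.quotient A (ComplexShape.up ℤ)).obj I) ≅ X) := by
  obtain ⟨I, f, hI, hf⟩ := hA (DerivedCategory.Q.objPreimage X)
  refine ⟨I, hI, ⟨(DerivedCategory.quotientCompQhIso A).app I ≪≫ (asIso (DerivedCategory.Q.map f)).symm ≪≫
    DerivedCategory.Q.objObjPreimageIso X⟩⟩

variable {F} (RF : DerivedCategory A ⥤ H) (α : F ⟶ DerivedCategory.Qh ⋙ RF)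

/-- The unit of a right derived functor is an isomorphism on K-injective complexes. -/
theorem isIso_app (hA : EnoughKInj A)
    [RF.IsRightDerivedFunctor α (HomotopyCategory.quasiIso A (ComplexShape.up ℤ))]
    (I : CochainComplex A ℤ) [I.IsKInjective] :
    IsIso (α.app ((HomotopyCategory.quotient A (ComplexShape.up ℤ)).obj I)) := by
  haveI := hasPointwise F hA
  have hc := Functor.isPointwiseLeftKanExtensionOfHasPointwiseRightDerivedFunctor RF α
    (HomotopyCategory.quasiIso A (ComplexShape.up ℤ))
    (DerivedCategory.Qh.obj ((HomotopyCategory.quotient A (ComplexShape.up ℤ)).obj I))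
  have := IsColimit.isIso_ι_app_of_isTerminal hc _ (isTerminal I)
  simp at this
  exact this

/-- A functor agreeing with `F` on K-injective complexes is a right derived functor. -/
theorem isRightDerivedFunctor_of_isIso (hA : EnoughKInj A)
    (h : ∀ (I : CochainComplex A ℤ) [I.IsKInjective],
      IsIso (α.app ((HomotopyCategory.quotient A (ComplexShape.up ℤ)).obj I))) :
    RF.IsRightDerivedFunctor α (HomotopyCategory.quasiIso A (ComplexShape.up ℤ)) := by
  refine ⟨Functor.LeftExtension.IsPointwiseLeftKanExtension.isLeftKanExtension (E :=
    Functor.LeftExtension.mk RF α) fun X => ?_⟩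
  have hI := essSurj_kInjective hA X
  haveI := hI.choose_spec.1
  refine (Functor.LeftExtension.mk RF α).isPointwiseLeftKanExtensionAtEquivOfIso'
    hI.choose_spec.2.some ?_
  haveI := h hI.choose
  let cc := (Functor.LeftExtension.mk RF α).coconeAt
    (DerivedCategory.Qh.obj ((HomotopyCategory.quotient A (ComplexShape.up ℤ)).obj hI.choose))
  let t := isTerminal hI.choose
  have hd : IsIso ((colimitOfDiagramTerminal t (CostructuredArrow.proj DerivedCategory.Qh _ ⋙ F)).desc
      cc) := by
    have e : (colimitOfDiagramTerminal t (CostructuredArrow.proj DerivedCategory.Qh _ ⋙ F)).desc cc =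
        cc.ι.app _ := rfl
    rw [e]
    simp [cc, t]
    exact h hI.choose
  exact @IsColimit.ofPointIso _ _ _ _ _ _ cc (colimitOfDiagramTerminal t _) hd

section MapAdjunction

variable {C D : Type*} [Category C] [Category D] [Preadditive C] [Preadditive D] {G : C ⥤ D}
  {R : D ⥤ C} (adj : G ⊣ R) [G.Additive] [R.Additive] {ι : Type*} (c : ComplexShape ι)

/-- An adjunction of additive functors induces an adjunction on complexes. -/
@[simps]
def mapHomologicalComplexAdj : G.mapHomologicalComplex c ⊣ R.mapHomologicalComplex c where
  unit :=
    { app := fun K =>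
        { f := fun i => adj.unit.app (K.X i)
          comm' := fun i j _ => (adj.unit.naturality (K.d i j)).symm }
      naturality := fun K L f => by ext i; exact adj.unit.naturality (f.f i) }
  counit :=
    { app := fun K =>
        { f := fun i => adj.counit.app (K.X i)
          comm' := fun i j _ => (adj.counit.naturality (K.d i j)).symm }
      naturality := fun K L f => by ext i; exact adj.counit.naturality (f.f i) }
  left_triangle_components K := by ext i; exact adj.left_triangle_components _
  right_triangle_components K := by ext i; exact adj.right_triangle_components _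

/-- An adjunction of additive functors induces an adjunction on homotopy categories. -/
def mapHomotopyCategoryAdj : G.mapHomotopyCategory c ⊣ R.mapHomotopyCategory c where
  unit :=
    { app := fun X => (HomotopyCategory.quotient C c).map
        ((mapHomologicalComplexAdj adj c).unit.app X.as)
      naturality := fun X Y f => by
        obtain ⟨f, rfl⟩ := (HomotopyCategory.quotient C c).map_surjective f
        exact ((HomotopyCategory.quotient C c).map_comp _ _).symm.trans
          ((congrArg (HomotopyCategory.quotient C c).map
            ((mapHomologicalComplexAdj adj c).unit.naturality f)).trans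
            ((HomotopyCategory.quotient C c).map_comp _ _)) }
  counit :=
    { app := fun X => (HomotopyCategory.quotient D c).map
        ((mapHomologicalComplexAdj adj c).counit.app X.as)
      naturality := fun X Y f => by
        obtain ⟨f, rfl⟩ := (HomotopyCategory.quotient D c).map_surjective f
        exact ((HomotopyCategory.quotient D c).map_comp _ _).symm.trans
          ((congrArg (HomotopyCategory.quotient D c).map
            ((mapHomologicalComplexAdj adj c).counit.naturality f)).trans
            ((HomotopyCategory.quotient D c).map_comp _ _)) }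
  left_triangle_components X :=
    ((HomotopyCategory.quotient D c).map_comp _ _).symm.trans
      ((congrArg (HomotopyCategory.quotient D c).map
        ((mapHomologicalComplexAdj adj c).left_triangle_components X.as)).trans
        ((HomotopyCategory.quotient D c).map_id _))
  right_triangle_components X :=
    ((HomotopyCategory.quotient C c).map_comp _ _).symm.trans
      ((congrArg (HomotopyCategory.quotient C c).map
        ((mapHomologicalComplexAdj adj c).right_triangle_components X.as)).trans
        ((HomotopyCategory.quotient C c).map_id _))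

end MapAdjunction

section Adjunction

variable {B : Type u'} [Category.{v'} B] [Abelian B] [HasDerivedCategory.{w'} B]
  {G : B ⥤ A} {R : A ⥤ B} (adj : G ⊣ R) [G.Additive] [R.Additive]
  [PreservesFiniteLimits G] [PreservesFiniteColimits G]
  (RR : DerivedCategory A ⥤ DerivedCategory B)
  (β : R.mapHomotopyCategory (ComplexShape.up ℤ) ⋙ DerivedCategory.Qh ⟶ DerivedCategory.Qh ⋙ RR)
  [RR.IsRightDerivedFunctor β (HomotopyCategory.quasiIso A (ComplexShape.up ℤ))]

theorem isRightDerived_comp (hA : EnoughKInj A) :
    (RR ⋙ G.mapDerivedCategory).IsRightDerivedFunctor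
      (Functor.whiskerRight β G.mapDerivedCategory ≫ (Functor.associator _ _ _).hom)
      (HomotopyCategory.quasiIso A (ComplexShape.up ℤ)) :=
  isRightDerivedFunctor_of_isIso _ _ hA fun I _ => by
    haveI := isIso_app RR β hA I
    simp only [NatTrans.comp_app, Functor.whiskerRight_app, Functor.associator_hom_app,
      Category.comp_id]
    infer_instance

/-- The derived adjunction of an adjunction with exact left adjoint. -/
noncomputable def derivedAdj (hA : EnoughKInj A) : G.mapDerivedCategory ⊣ RR :=
  haveI := isRightDerived_comp (G := G) RR β hA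
  haveI : G.mapDerivedCategory.IsLeftDerivedFunctor G.mapDerivedCategoryFactorsh.hom
      (HomotopyCategory.quasiIso B (ComplexShape.up ℤ)) :=
    Functor.isLeftDerivedFunctor_of_inverts _ G.mapDerivedCategory G.mapDerivedCategoryFactorsh
  haveI : (G.mapDerivedCategory ⋙ RR).IsLeftDerivedFunctor
      ((Functor.associator _ _ _).inv ≫ Functor.whiskerRight G.mapDerivedCategoryFactorsh.hom RR)
      (HomotopyCategory.quasiIso B (ComplexShape.up ℤ)) :=
    Functor.isLeftDerivedFunctor_of_inverts _ _
      ((Functor.associator _ _ _).symm ≪≫ Functor.isoWhiskerRight G.mapDerivedCategoryFactorsh RR)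
  (mapHomotopyCategoryAdj adj (ComplexShape.up ℤ)).derived
    (HomotopyCategory.quasiIso B (ComplexShape.up ℤ)) (HomotopyCategory.quasiIso A (ComplexShape.up ℤ))
    G.mapDerivedCategoryFactorsh.hom β

/-- If the right adjoint is fully faithful, so is its derived functor. -/
theorem isIso_counit (hA : EnoughKInj A) [IsIso adj.counit] :
    IsIso (derivedAdj adj RR β hA).counit := by
  rw [NatTrans.isIso_iff_isIso_app]
  intro X
  obtain ⟨I, hI, ⟨e⟩⟩ := essSurj_kInjective hA X
  rw [← NatTrans.isIso_app_iff_of_iso _ e]
  haveI := isRightDerived_comp (G := G) RR β hA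
  haveI := isIso_app RR β hA I
  have key := (mapHomotopyCategoryAdj adj (ComplexShape.up ℤ)).derivedε_fac_app
    (HomotopyCategory.quasiIso A (ComplexShape.up ℤ)) G.mapDerivedCategoryFactorsh.hom β
    ((HomotopyCategory.quotient A (ComplexShape.up ℤ)).obj I)
  have : IsIso ((mapHomotopyCategoryAdj adj (ComplexShape.up ℤ)).counit.app
      ((HomotopyCategory.quotient A (ComplexShape.up ℤ)).obj I)) := by
    haveI : ∀ i, IsIso (((mapHomologicalComplexAdj adj (ComplexShape.up ℤ)).counit.app I).f i) :=
      fun i => inferInstanceAs (IsIso (adj.counit.app (I.X i)))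
    haveI : IsIso ((mapHomologicalComplexAdj adj (ComplexShape.up ℤ)).counit.app I) :=
      HomologicalComplex.Hom.isIso_of_components _
    exact inferInstanceAs (IsIso ((HomotopyCategory.quotient A (ComplexShape.up ℤ)).map
      ((mapHomologicalComplexAdj adj (ComplexShape.up ℤ)).counit.app I)))
  exact IsIso.of_isIso_fac_left key

end Adjunction

end Groth.Agent.DerLib.KInjDerived
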