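/-
Total right derived functors computed with K-injective complexes are triangulated.
-/
import Groth.Agent.DerLib.KInjDerived
import Mathlib.CategoryTheory.Triangulated.Adjunction
import Mathlib.Algebra.Homology.HomotopyCategory.KInjective
import Mathlib.CategoryTheory.Triangulated.Orthogonal

set_option linter.unusedSectionVars false
set_option linter.style.haveILetI false

universe w w' v v' u u'

open CategoryTheory Limits

namespace Groth.Agent.DerLib.KInjDerived

variable {A : Type u} [Category.{v} A] [Abelian A] [HasDerivedCategory.{w} A]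

variable (A) in
/-- The K-injective objects of the homotopy category. -/
noncomputable abbrev kInjProp : ObjectProperty (HomotopyCategory A (ComplexShape.up ℤ)) :=
  (HomotopyCategory.subcategoryAcyclic A).rightOrthogonal

theorem kInjProp_bijective (X : HomotopyCategory A (ComplexShape.up ℤ))
    {Y : HomotopyCategory A (ComplexShape.up ℤ)} (hY : kInjProp A Y) :
    Function.Bijective (DerivedCategory.Qh.map : (X ⟶ Y) → _) :=
  hY.map_bijective_of_isTriangulated _ _

instance : ((kInjProp A).ι ⋙ DerivedCategory.Qh).Faithful where
  map_injective {X Y} _ _ h := (kInjProp A).ι.map_injective ((kInjProp_bijective _ Y.property).1 h)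

instance : ((kInjProp A).ι ⋙ DerivedCategory.Qh).Full where
  map_surjective {X Y} f := by
    obtain ⟨g, hg⟩ := (kInjProp_bijective X.obj Y.property).2 f
    exact ⟨ObjectProperty.homMk g, hg⟩

theorem isEquivalence (hA : EnoughKInj A) :
    ((kInjProp A).ι ⋙ DerivedCategory.Qh).IsEquivalence :=
  { essSurj := ⟨fun X => by
      obtain ⟨I, hI, ⟨e⟩⟩ := essSurj_kInjective hA X
      haveI := hI
      exact ⟨⟨_, CochainComplex.IsKInjective.rightOrthogonal I⟩, ⟨e⟩⟩⟩ }

variable {B : Type u'} [Category.{v'} B] [Abelian B] [HasDerivedCategory.{w'} B]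

/-- A total right derived functor of a triangulated functor on the homotopy category is triangulated. -/
theorem exists_isTriangulated (hA : EnoughKInj A)
    {F : HomotopyCategory A (ComplexShape.up ℤ) ⥤ DerivedCategory B} [F.CommShift ℤ] [F.IsTriangulated]
    (RF : DerivedCategory A ⥤ DerivedCategory B) (α : F ⟶ DerivedCategory.Qh ⋙ RF)
    [RF.IsRightDerivedFunctor α (HomotopyCategory.quasiIso A (ComplexShape.up ℤ))] :
    ∃ _ : RF.CommShift ℤ, RF.IsTriangulated := by
  haveI := isEquivalence hA
  let J := (kInjProp A).ι ⋙ DerivedCategory.Qh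
  let E := J.asEquivalence
  letI : E.functor.CommShift ℤ := (inferInstance : J.CommShift ℤ)
  haveI : E.functor.IsTriangulated := (inferInstance : J.IsTriangulated)
  letI := E.commShiftInverse ℤ
  haveI : E.CommShift ℤ := E.commShift_of_functor ℤ
  haveI : E.inverse.IsTriangulated := E.toAdjunction.isTriangulated_rightAdjoint
  let G := E.inverse ⋙ (kInjProp A).ι ⋙ F
  have lift : ∀ X : HomotopyCategory A (ComplexShape.up ℤ), ∃ η :
      X ⟶ (E.inverse.obj (DerivedCategory.Qh.obj X)).obj,
        DerivedCategory.Qh.map η = E.counitIso.inv.app (DerivedCategory.Qh.obj X) :=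
    fun X => (kInjProp_bijective X (E.inverse.obj (DerivedCategory.Qh.obj X)).property).2 _
  choose η hη using lift
  let β : F ⟶ DerivedCategory.Qh ⋙ G :=
    { app := fun X => F.map (η X)
      naturality := fun X Y f => by
        have key : f ≫ η Y = η X ≫ (E.inverse.map (DerivedCategory.Qh.map f)).hom := by
          refine (kInjProp_bijective X (E.inverse.obj (DerivedCategory.Qh.obj Y)).property).1 ?_
          rw [Functor.map_comp, Functor.map_comp, hη, hη]
          exact E.counitIso.inv.naturality _
        show F.map f ≫ F.map (η Y) = F.map (η X) ≫ F.map _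
        rw [← Functor.map_comp, key, Functor.map_comp]
        rfl }
  haveI : G.IsRightDerivedFunctor β (HomotopyCategory.quasiIso A (ComplexShape.up ℤ)) := by
    refine isRightDerivedFunctor_of_isIso G β hA fun I _ => ?_
    let P := (HomotopyCategory.quotient A (ComplexShape.up ℤ)).obj I
    have hP : kInjProp A P := CochainComplex.IsKInjective.rightOrthogonal I
    haveI : IsIso (η P) := by
      let m : (⟨P, hP⟩ : (kInjProp A).FullSubcategory) ⟶ E.inverse.obj (DerivedCategory.Qh.obj P) :=
        ObjectProperty.homMk (η P)
      haveI : IsIso (J.map m) := by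
        show IsIso (DerivedCategory.Qh.map (η P))
        rw [hη]
        exact (E.counitIso.app (DerivedCategory.Qh.obj P)).isIso_inv
      haveI : IsIso m := isIso_of_reflects_iso m J
      exact (inferInstance : IsIso ((kInjProp A).ι.map m))
    exact (inferInstance : IsIso (F.map (η P)))
  let e : G ≅ RF := Functor.rightDerivedUnique G RF β α (HomotopyCategory.quasiIso A (ComplexShape.up ℤ))
  letI : RF.CommShift ℤ := Functor.CommShift.ofIso e ℤ
  haveI : NatTrans.CommShift e.hom ℤ := Functor.CommShift.ofIso_compatibility e ℤ
  exact ⟨inferInstance, Functor.isTriangulated_of_iso e⟩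

/-- The total right derived functor of an additive functor is triangulated. -/
theorem exists_isTriangulated_map (hA : EnoughKInj A) (G : A ⥤ B) [G.Additive]
    (RF : DerivedCategory A ⥤ DerivedCategory B)
    (α : G.mapHomotopyCategory (ComplexShape.up ℤ) ⋙ DerivedCategory.Qh ⟶ DerivedCategory.Qh ⋙ RF)
    [RF.IsRightDerivedFunctor α (HomotopyCategory.quasiIso A (ComplexShape.up ℤ))] :
    ∃ _ : RF.CommShift ℤ, RF.IsTriangulated :=
  exists_isTriangulated hA RF α

end Groth.Agent.DerLib.KInjDerived
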