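/-
Passing between cochain complexes in `Aᵒᵖ` and in `A` by reindexing `n ↦ -n`.
-/
import Mathlib

universe v u

open CategoryTheory Limits HomologicalComplex Opposite

namespace Groth.Agent.DerLib.OpDual

variable {A : Type u} [Category.{v} A] [Abelian A]

/-- From complexes in `A` to complexes in `Aᵒᵖ`. -/
abbrev opC (K : CochainComplex A ℤ) : CochainComplex Aᵒᵖ ℤ :=
  (CochainComplex.opEquivalence A).functor.obj (op K)

/-- The action of `opC` on morphisms. -/
abbrev opMap {K L : CochainComplex A ℤ} (f : K ⟶ L) : opC L ⟶ opC K :=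
  (CochainComplex.opEquivalence A).functor.map f.op

/-- From complexes in `Aᵒᵖ` to complexes in `A`. -/
@[simps]
def unopC (K : CochainComplex Aᵒᵖ ℤ) : CochainComplex A ℤ where
  X i := (K.X (-i)).unop
  d i j := (K.d (-j) (-i)).unop
  shape i j h := by
    rw [K.shape _ _ (by simp at h ⊢; omega), unop_zero]
  d_comp_d' i j k _ _ := by rw [← unop_comp, K.d_comp_d, unop_zero]

/-- The action of `unopC` on morphisms. -/
@[simps]
def unopMap {K L : CochainComplex Aᵒᵖ ℤ} (f : K ⟶ L) : unopC L ⟶ unopC K where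
  f i := (f.f (-i)).unop
  comm' i j _ := by
    change (f.f (-i)).unop ≫ (K.d (-j) (-i)).unop = (L.d (-j) (-i)).unop ≫ (f.f (-j)).unop
    rw [← unop_comp, ← unop_comp, f.comm]

theorem quasiIso_unopMap {K L : CochainComplex Aᵒᵖ ℤ} (f : K ⟶ L) [QuasiIso f] :
    QuasiIso (unopMap f) := by
  rw [quasiIso_iff]
  intro i
  rw [quasiIsoAt_iff' _ (i - 1) i (i + 1) (by simp) (by simp)]
  have h : ShortComplex.QuasiIso ((shortComplexFunctor' Aᵒᵖ (ComplexShape.up ℤ)
      (-(i + 1)) (-i) (-(i - 1))).map f) := by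
    rw [← quasiIsoAt_iff' f (-(i + 1)) (-i) (-(i - 1)) (by simp [CochainComplex.prev]; omega)
      (by simp [CochainComplex.next]; omega)]
    infer_instance
  exact @ShortComplex.quasiIso_unopMap _ _ _ _ _ _ _ _ _ _ h

/-- The round trip. -/
def backIso (K : CochainComplex A ℤ) : unopC (opC K) ≅ K :=
  HomologicalComplex.Hom.isoOfComponents (fun i => K.XIsoOfEq (neg_neg i))
    (fun i j _ => by
      change (K.XIsoOfEq (neg_neg i)).hom ≫ K.d i j = (K.d (- -i) (- -j)) ≫ (K.XIsoOfEq (neg_neg j)).hom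
      simp)

end Groth.Agent.DerLib.OpDual
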