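/-
Right acyclic complexes: when is the unit `F(K) ⟶ RF(K)` an isomorphism in `D⁺`.
-/
import Groth.Agent.SpSeqLib.AcyclicComplex
import Mathlib.Algebra.Homology.DerivedCategory.RightDerivedFunctorPlus
import Mathlib.CategoryTheory.Abelian.Injective.Extend

set_option linter.unusedSectionVars false
set_option linter.style.haveILetI false

universe w w' v v' u u'

open CategoryTheory CategoryTheory.Limits HomologicalComplex

namespace Groth.Agent.DerLib.LerayAcyclic

variable {C : Type u} [Category.{v} C] [Abelian C] {D : Type u'} [Category.{v'} D] [Abelian D]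
  (F : C ⥤ D) [F.Additive]

theorem isIso_unit_iff [HasDerivedCategory.{w} C] [EnoughInjectives C] [HasDerivedCategory.{w'} D]
    (K : CochainComplex.Plus C) (L : CochainComplex C ℤ) (a : ℤ) [L.IsStrictlyGE a]
    [∀ n, Injective (L.X n)] (i : K.obj ⟶ L) [QuasiIso i] :
    IsIso (F.rightDerivedFunctorPlusUnit.app ((HomotopyCategory.Plus.quotient C).obj K)) ↔
      QuasiIso ((F.mapHomologicalComplex _).map i) := by
  let L' : CochainComplex (InjectiveObject C) ℤ :=
    HomologicalComplex.liftObjectProperty _ L inferInstance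
  have hL' : L'.IsStrictlyGE a := by
    rw [← CochainComplex.isStrictlyGE_mapHomologicalComplex_obj_iff _ (InjectiveObject.ι _)]
    assumption
  let LP : CochainComplex.Plus (InjectiveObject C) := ⟨L', a, hL'⟩
  let f : K ⟶ (InjectiveObject.ι C).mapCochainComplexPlus.obj LP := ObjectProperty.homMk i
  let g := (HomotopyCategory.Plus.quotient C).map f
  have hg : HomotopyCategory.Plus.quasiIso C g :=
    (HomotopyCategory.quotient_map_mem_quasiIso_iff i).2
      ((HomologicalComplex.mem_quasiIso_iff _).2 ‹_›)
  have hη : IsIso (F.rightDerivedFunctorPlusUnit.app ((HomotopyCategory.Plus.quotient C).obj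
      ((InjectiveObject.ι C).mapCochainComplexPlus.obj LP))) := inferInstance
  have hQ : IsIso (DerivedCategory.Plus.Qh.map g) :=
    Localization.inverts DerivedCategory.Plus.Qh (HomotopyCategory.Plus.quasiIso C) g hg
  have hR : IsIso (F.rightDerivedFunctorPlus.map (DerivedCategory.Plus.Qh.map g)) := inferInstance
  have nat : DerivedCategory.Plus.Qh.map (F.mapHomotopyCategoryPlus.map g) ≫
      F.rightDerivedFunctorPlusUnit.app _ = F.rightDerivedFunctorPlusUnit.app _ ≫
        F.rightDerivedFunctorPlus.map (DerivedCategory.Plus.Qh.map g) :=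
    F.rightDerivedFunctorPlusUnit.naturality g
  have key : IsIso (F.rightDerivedFunctorPlusUnit.app ((HomotopyCategory.Plus.quotient C).obj K)) ↔
      IsIso (DerivedCategory.Plus.Qh.map (F.mapHomotopyCategoryPlus.map g)) := by
    constructor
    · intro h
      have : IsIso (DerivedCategory.Plus.Qh.map (F.mapHomotopyCategoryPlus.map g) ≫
          F.rightDerivedFunctorPlusUnit.app _) := nat.symm ▸ @IsIso.comp_isIso _ _ _ _ _ _ _ h hR
      exact @IsIso.of_isIso_comp_right _ _ _ _ _ _ _ hη this
    · intro h
      have : IsIso (F.rightDerivedFunctorPlusUnit.app _ ≫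
          F.rightDerivedFunctorPlus.map (DerivedCategory.Plus.Qh.map g)) :=
        nat ▸ @IsIso.comp_isIso _ _ _ _ _ _ _ h hη
      exact @IsIso.of_isIso_comp_right _ _ _ _ _ _ _ hR this
  rw [key]
  have e : IsIso (DerivedCategory.Plus.Qh.map (F.mapHomotopyCategoryPlus.map g)) ↔
      IsIso (DerivedCategory.Qh.map (F.mapHomotopyCategoryPlus.map g).hom) := by
    constructor
    · intro h
      exact inferInstanceAs (IsIso (DerivedCategory.Plus.ι.map
        (DerivedCategory.Plus.Qh.map (F.mapHomotopyCategoryPlus.map g))))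
    · intro h
      have : IsIso (DerivedCategory.Plus.ι.map
        (DerivedCategory.Plus.Qh.map (F.mapHomotopyCategoryPlus.map g))) := h
      exact isIso_of_reflects_iso _ DerivedCategory.Plus.ι
  rw [e, DerivedCategory.isIso_Qh_map_iff]
  exact (HomotopyCategory.quotient_map_mem_quasiIso_iff ((F.mapHomologicalComplex _).map i)).trans
    (HomologicalComplex.mem_quasiIso_iff _)

/-- A morphism of complexes whose mapping cone stays acyclic after applying `F`. -/
theorem quasiIso_map_of_acyclic {K L : CochainComplex C ℤ} (u : K ⟶ L)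
    (h : ((F.mapHomologicalComplex _).obj (CochainComplex.mappingCone u)).Acyclic) :
    QuasiIso ((F.mapHomologicalComplex _).map u) := by
  have h' : (CochainComplex.mappingCone ((F.mapHomologicalComplex _).map u)).Acyclic := fun n =>
    (h n).of_iso (CochainComplex.mappingCone.mapHomologicalComplexIso u F)
  rw [← HomotopyCategory.quotient_obj_mem_subcategoryAcyclic_iff_acyclic] at h'
  have := ((HomotopyCategory.subcategoryAcyclic D).trW_iff_of_distinguished _
      (HomotopyCategory.mappingCone_triangleh_distinguished ((F.mapHomologicalComplex _).map u))).2 h'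
  rw [← HomotopyCategory.quasiIso_eq_trW_subcategoryAcyclic] at this
  exact (HomologicalComplex.mem_quasiIso_iff _).1
    ((HomotopyCategory.quotient_map_mem_quasiIso_iff _).1 this)

theorem acyclic_mappingCone {K L : CochainComplex C ℤ} (u : K ⟶ L) [QuasiIso u] :
    (CochainComplex.mappingCone u).Acyclic := by
  rw [← HomotopyCategory.quotient_obj_mem_subcategoryAcyclic_iff_acyclic]
  refine ((HomotopyCategory.subcategoryAcyclic C).trW_iff_of_distinguished _
    (HomotopyCategory.mappingCone_triangleh_distinguished u)).1 ?_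
  rw [← HomotopyCategory.quasiIso_eq_trW_subcategoryAcyclic]
  exact (HomotopyCategory.quotient_map_mem_quasiIso_iff u).2
    ((HomologicalComplex.mem_quasiIso_iff _).2 ‹_›)

theorem mapExtendNatXIso_naturality [EnoughInjectives C] [HasDerivedCategory.{w} C]
    {K L : CochainComplex C ℕ} (φ : K ⟶ L) (n : ℤ) :
    F.map ((extendMap φ ComplexShape.embeddingUpNat).f n) ≫ (SpSeqLib.mapExtendNatXIso F L n).hom =
      (SpSeqLib.mapExtendNatXIso F K n).hom ≫
        (extendMap ((F.mapHomologicalComplex _).map φ) ComplexShape.embeddingUpNat).f n := by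
  by_cases h : 0 ≤ n
  · obtain ⟨k, rfl⟩ := Int.eq_ofNat_of_zero_le h
    dsimp [SpSeqLib.mapExtendNatXIso]
    rw [extendMap_f φ ComplexShape.embeddingUpNat (i := (k : ℤ).toNat) (by simp),
      extendMap_f _ ComplexShape.embeddingUpNat (i := (k : ℤ).toNat) (by simp)]
    erw [← F.map_comp_assoc]
    simp only [Category.assoc, Iso.inv_hom_id, Category.comp_id, Functor.map_comp]
    erw [Iso.inv_hom_id_assoc]
    rfl
  · exact (F.map_isZero (K.isZero_extend_X ComplexShape.embeddingUpNat n
      (by intro i hi; simp at hi; omega))).eq_of_src _ _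

theorem quasiIso_map_ι'_iff [EnoughInjectives C] [HasDerivedCategory.{w} C] {X : C}
    (R : InjectiveResolution X) :
    QuasiIso ((F.mapHomologicalComplex _).map R.ι') ↔
      QuasiIso ((F.mapHomologicalComplex _).map R.ι) := by
  let e : ComplexShape.Embedding _ _ := ComplexShape.embeddingUpNat
  have h₁ : QuasiIso ((F.mapHomologicalComplex _).map R.ι') ↔
      QuasiIso ((F.mapHomologicalComplex _).map (extendMap R.ι e)) := by
    unfold InjectiveResolution.ι'
    rw [Functor.map_comp]
    exact quasiIso_iff_comp_left _ _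
  rw [h₁, ← quasiIso_extendMap_iff ((F.mapHomologicalComplex _).map R.ι) e,
    ← HomologicalComplex.mem_quasiIso_iff, ← HomologicalComplex.mem_quasiIso_iff]
  refine (HomologicalComplex.quasiIso D _).arrow_mk_iso_iff (Arrow.isoMk
    (SpSeqLib.mapExtendNatIso F _) (SpSeqLib.mapExtendNatIso F _) ?_)
  ext n
  exact (mapExtendNatXIso_naturality F R.ι n).symm

theorem quasiIsoAt_zero_iff {X : C} (R : InjectiveResolution X) :
    QuasiIsoAt ((F.mapHomologicalComplex _).map R.ι) 0 ↔ IsIso (R.toRightDerivedZero' F) := by
  rw [CochainComplex.quasiIsoAt₀_iff, InjectiveResolution.toRightDerivedZero',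
    CochainComplex.isIso_liftCycles_iff]
  exact (ShortComplex.quasiIso_iff_of_zeros _
    (((F.mapHomologicalComplex _).obj _).shape _ _ (by simp))
    (F.map_zero _ _)
    (((F.mapHomologicalComplex _).obj _).shape _ _ (by simp)))

theorem quasiIso_map_ι_iff [HasInjectiveResolutions C] {X : C} (R : InjectiveResolution X) :
    QuasiIso ((F.mapHomologicalComplex _).map R.ι) ↔
      (IsIso (F.toRightDerivedZero.app X) ∧ ∀ i : ℕ, 0 < i → IsZero ((F.rightDerived i).obj X)) := by
  have h0 : IsIso (F.toRightDerivedZero.app X) ↔ IsIso (R.toRightDerivedZero' F) := by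
    rw [R.toRightDerivedZero_eq F]
    exact ⟨fun h => IsIso.of_isIso_comp_right _ ((CochainComplex.isoHomologyπ₀ _).hom ≫
      (R.isoRightDerivedObj F 0).inv), fun h => inferInstance⟩
  have hn : ∀ i : ℕ, 0 < i → (QuasiIsoAt ((F.mapHomologicalComplex _).map R.ι) i ↔
      IsZero ((F.rightDerived i).obj X)) := by
    intro i hi
    rw [quasiIsoAt_iff_exactAt _ i (show ((F.mapHomologicalComplex (ComplexShape.up ℕ)).obj
      ((CochainComplex.single₀ C).obj X)).ExactAt i from ShortComplex.exact_of_isZero_X₂ _
        (F.map_isZero (HomologicalComplex.isZero_single_obj_X _ 0 X i hi.ne'))),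
      exactAt_iff_isZero_homology]
    exact (R.isoRightDerivedObj F i).isZero_iff.symm
  rw [quasiIso_iff, h0]
  constructor
  · intro h
    exact ⟨(quasiIsoAt_zero_iff F R).1 (h 0), fun i hi => (hn i hi).1 (h i)⟩
  · rintro ⟨h, h'⟩ (_ | i)
    · exact (quasiIsoAt_zero_iff F R).2 h
    · exact (hn _ i.succ_pos).2 (h' _ i.succ_pos)

end Groth.Agent.DerLib.LerayAcyclic
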