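/-
Brown representability for compactly generated categories, and the adjoint functor theorem.
-/
import Groth.Agent.DerLib.Brown
import Groth.Agent.CompactLib.Basic
import Mathlib.CategoryTheory.Triangulated.Yoneda
import Mathlib.CategoryTheory.Triangulated.Opposite.Functor
import Mathlib.CategoryTheory.Adjunction.PartialAdjoint

set_option linter.unusedSectionVars false
set_option linter.style.haveILetI false

universe v u u'

open CategoryTheory CategoryTheory.Limits CategoryTheory.Pretriangulated.Opposite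
open Opposite (op unop)

namespace Groth.Agent.DerLib.Brown

variable {D : Type u} [Category.{v} D] [Preadditive D] [HasZeroObject D] [HasShift D ℤ]
  [∀ n : ℤ, (shiftFunctor D n).Additive] [Pretriangulated D] [HasCoproducts.{v} D]

theorem exists_sum_of_compact [HasColimitsOfShape (Discrete ℕ) D] {C : D}
    (hC : CohDer.IsCompactObject C) (X : ℕ → D) (α : C ⟶ ∐ X) :
    ∃ (s : Finset ℕ) (x : ∀ n, C ⟶ X n), α = ∑ n ∈ s, x n ≫ Sigma.ι X n := by
  classical
  let X' : ULift.{v} ℕ → D := fun k => X k.down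
  let u : ∐ X' ⟶ ∐ X := Sigma.desc fun k => Sigma.ι X k.down
  let u' : ∐ X ⟶ ∐ X' := Sigma.desc fun n => Sigma.ι X' ⟨n⟩
  have huu : u' ≫ u = 𝟙 _ := Limits.Sigma.hom_ext _ _ fun n => by simp [u, u']
  obtain ⟨x, hx⟩ := (hC (ULift.{v} ℕ) X').2 (α ≫ u')
  have hx' : α = ∑ k ∈ x.support, x k ≫ Sigma.ι X' k ≫ u := by
    conv_lhs => rw [← Category.comp_id α, ← huu, ← Category.assoc, ← hx,
      ← DirectSum.sum_support_of x]
    rw [map_sum, Preadditive.sum_comp]
    refine Finset.sum_congr rfl fun k _ => ?_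
    unfold CohDer.homSumToHomCoprod
    erw [DirectSum.toAddMonoid_of]
    exact Category.assoc _ _ _
  refine ⟨x.support.map Equiv.ulift.toEmbedding, fun n => x ⟨n⟩, ?_⟩
  rw [hx', Finset.sum_map]
  exact Finset.sum_congr rfl fun k _ => by simp [u, X']; rfl

theorem small_of_compact [HasColimitsOfShape (Discrete ℕ) D] {κ : Type v} (E : κ → D)
    (hE : ∀ i, CohDer.IsCompactObject (E i)) : Small E := by
  intro X i α
  obtain ⟨s, x, hx⟩ := exists_sum_of_compact (hE i) X α
  refine ⟨fun _ => i, x, ∑ n ∈ s, Sigma.ι (fun _ : ℕ => E i) n, ?_⟩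
  rw [hx, Preadditive.sum_comp]
  simp

theorem hasColimitsOfShapeNat : HasColimitsOfShape (Discrete ℕ) D :=
  hasColimitsOfShape_of_equivalence (Discrete.equivalence Equiv.ulift.{v})

theorem isRepresentable_of_compactlyGenerated (hD : CohDer.IsCompactlyGenerated D)
    (H : Dᵒᵖ ⥤ AddCommGrpCat.{v}) [H.IsHomological]
    [∀ κ : Type v, PreservesLimitsOfShape (Discrete κ) H] :
    (H ⋙ forget AddCommGrpCat.{v}).IsRepresentable := by
  haveI := hasColimitsOfShapeNat (D := D)
  obtain ⟨κ, E, hE, hgen⟩ := hD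
  exact isRepresentable (E := E) hgen (small_of_compact E hE)

variable {D' : Type u'} [Category.{v} D'] [Preadditive D'] [HasZeroObject D'] [HasShift D' ℤ]
  [∀ n : ℤ, (shiftFunctor D' n).Additive] [Pretriangulated D']

/-- The adjoint functor theorem for exact functors out of a category satisfying Brown
representability. -/
theorem isLeftAdjoint
    (hD : ∀ (H : Dᵒᵖ ⥤ AddCommGrpCat.{v}) [H.IsHomological]
      [∀ κ : Type v, PreservesLimitsOfShape (Discrete κ) H],
      (H ⋙ forget AddCommGrpCat.{v}).IsRepresentable)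
    (F : D ⥤ D') [F.CommShift ℤ] [F.IsTriangulated]
    [∀ κ : Type v, PreservesColimitsOfShape (Discrete κ) F] : F.IsLeftAdjoint := by
  refine F.isLeftAdjoint_of_rightAdjointObjIsDefined_eq_top ?_
  ext Y
  simp only [Pi.top_apply, Prop.top_eq_true, iff_true]
  rw [Functor.rightAdjointObjIsDefined_iff]
  haveI : ∀ κ : Type v, PreservesLimitsOfShape (Discrete κ) F.op := fun κ => by
    haveI : PreservesColimitsOfShape (Discrete κ)ᵒᵖ F :=
      preservesColimitsOfShape_of_equiv (Discrete.opposite κ).symm F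
    exact preservesLimitsOfShape_op _ _
  exact @Functor.IsRepresentable.mk _ _ _ (hD (F.op ⋙ preadditiveYoneda.obj Y)).has_representation

end Groth.Agent.DerLib.Brown
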