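/-
The derived category of a Grothendieck abelian category is locally small.
-/
import Groth.Agent.DerLib.KInjUse

set_option linter.style.haveILetI false

universe w v u

open CategoryTheory Limits

namespace Groth.Agent.DerLib.SmallDerived

variable (A : Type u) [Category.{v} A] [Abelian A] [IsGrothendieckAbelian.{v} A]

theorem locallySmall [HasDerivedCategory.{w} A] : LocallySmall.{v} (DerivedCategory A) := by
  refine ⟨fun X Y => ?_⟩
  let K := DerivedCategory.Q.objPreimage X
  let eX : DerivedCategory.Q.obj K ≅ X := DerivedCategory.Q.objObjPreimageIso X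
  obtain ⟨I, hI, ⟨eY⟩⟩ := KInjUse.exists_iso_Q_kInjective Y
  exact small_of_surjective (f := fun g : K ⟶ I => eX.inv ≫ DerivedCategory.Q.map g ≫ eY.inv)
    fun g => by
      obtain ⟨g', hg'⟩ := KInjUse.Q_map_surjective K I (eX.hom ≫ g ≫ eY.hom)
      exact ⟨g', by simp [hg']⟩

/-- A derived category with small morphism types. -/
@[instance_reducible]
noncomputable def hasDerivedCategorySmall : HasDerivedCategory.{v} A :=
  letI := HasDerivedCategory.standard A
  haveI := locallySmall.{max u v} A
  { L := DerivedCategory.Q ⋙ (ShrinkHoms.equivalence.{v} (DerivedCategory A)).functor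
    hL := Functor.IsLocalization.of_equivalence_target DerivedCategory.Q _ _
      (ShrinkHoms.equivalence.{v} (DerivedCategory A)) (Iso.refl _) }

end Groth.Agent.DerLib.SmallDerived
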