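/-
The derived category of modules over a ring is compactly generated.
-/
import Groth.Agent.DerLib.BrownAdjoint
import Groth.Agent.DerLib.KInjUse
import Groth.Agent.DerLib.SmallDerived
import Mathlib.Algebra.Homology.DerivedCategory.KProjective
import Mathlib.Algebra.Category.ModuleCat.AB
import Mathlib.Algebra.Category.ModuleCat.Projective
import Mathlib.CategoryTheory.Abelian.GrothendieckCategory.EnoughInjectives

set_option linter.style.haveILetI false
set_option linter.unusedSectionVars false

universe v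

open CategoryTheory Limits HomologicalComplex

namespace Groth.Agent.DerLib.ModCompactGen

variable {R : Type v} [Ring R] [HasDerivedCategory.{v} (ModuleCat.{v} R)]

variable (R) in
/-- The module `R` in degree `n`. -/
noncomputable abbrev gen (n : ℤ) : CochainComplex (ModuleCat.{v} R) ℤ :=
  (single (ModuleCat.{v} R) (ComplexShape.up ℤ) n).obj (ModuleCat.of R R)

instance (n : ℤ) : (gen R n).IsKProjective := by
  haveI : Projective (ModuleCat.of R R) :=
    ModuleCat.projective_of_free (Module.Basis.singleton Unit R)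
  haveI : ∀ k, Projective ((gen R n).X k) := fun k => by
    by_cases h : k = n
    · subst h
      exact Projective.of_iso (singleObjXSelf (ComplexShape.up ℤ) k (ModuleCat.of R R)).symm inferInstance
    · exact (isZero_single_obj_X (ComplexShape.up ℤ) n _ k h).projective
  exact CochainComplex.isKProjective_of_projective _ n

theorem Q_map_surjective (n : ℤ) (K : CochainComplex (ModuleCat.{v} R) ℤ) :
    Function.Surjective (DerivedCategory.Q.map : (gen R n ⟶ K) → _) := by
  intro g
  obtain ⟨g', hg'⟩ := (CochainComplex.IsKProjective.Qh_map_bijective (gen R n)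
    ((HomotopyCategory.quotient _ (ComplexShape.up ℤ)).obj K)).2 g
  obtain ⟨g'', rfl⟩ := (HomotopyCategory.quotient _ (ComplexShape.up ℤ)).map_surjective g'
  exact ⟨g'', hg'⟩

theorem exists_finset_sum {κ : Type v} (K : κ → CochainComplex (ModuleCat.{v} R) ℤ) (n : ℤ)
    (g : gen R n ⟶ ∐ K) : ∃ (S : Finset κ) (g' : ∀ k, gen R n ⟶ K k),
      g = ∑ k ∈ S, g' k ≫ Sigma.ι K k := by
  classical
  let π : ∀ k, ∐ K ⟶ K k := fun k =>
    Sigma.desc fun j => if h : j = k then eqToHom (h ▸ rfl) else 0
  let cut : Finset κ → (∐ K ⟶ ∐ K) := fun S => ∑ k ∈ S, π k ≫ Sigma.ι K k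
  have hιcut : ∀ (S : Finset κ) (j : κ),
      Sigma.ι K j ≫ cut S = if j ∈ S then Sigma.ι K j else 0 := by
    intro S j
    simp only [cut, Preadditive.comp_sum]
    have : ∀ k, Sigma.ι K j ≫ π k ≫ Sigma.ι K k = if j = k then Sigma.ι K j else 0 := by
      intro k
      split_ifs with h
      · subst h; simp [π]
      · simp [π, h]
    simp [this]
  suffices h : ∀ x : (∐ K).X n, ∃ S, ∀ T, S ⊆ T → ((cut T).f n).hom x = x by
    let e := singleObjXSelf (ComplexShape.up ℤ) n (ModuleCat.of R R)
    obtain ⟨S, hS⟩ := h ((g.f n).hom (e.inv.hom (1 : R)))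
    refine ⟨S, fun k => g ≫ π k, ?_⟩
    rw [show ∑ k ∈ S, (g ≫ π k) ≫ Sigma.ι K k = g ≫ cut S by
      simp [cut, Preadditive.comp_sum]]
    refine HomologicalComplex.from_single_hom_ext ?_
    rw [← cancel_epi e.inv]
    refine ModuleCat.hom_ext (LinearMap.ext_ring ?_)
    exact (hS S le_rfl).symm
  let hcol := isColimitOfPreserves (eval (ModuleCat.{v} R) (ComplexShape.up ℤ) n)
    (coproductIsCoproduct K)
  let P : Submodule R ((∐ K).X n : ModuleCat.{v} R) :=
    { carrier := {x | ∃ S, ∀ T, S ⊆ T → ((cut T).f n).hom x = x}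
      zero_mem' := ⟨∅, fun T _ => map_zero _⟩
      add_mem' := by
        rintro x y ⟨S, hS⟩ ⟨S', hS'⟩
        exact ⟨S ∪ S', fun T hT => by
          rw [map_add, hS T (Finset.union_subset_left hT), hS' T (Finset.union_subset_right hT)]⟩
      smul_mem' := by
        rintro r x ⟨S, hS⟩
        exact ⟨S, fun T hT => by rw [map_smul, hS T hT]⟩ }
  suffices hP : P = ⊤ from fun x => show x ∈ P from hP ▸ Submodule.mem_top
  have : (ModuleCat.ofHom P.mkQ : (∐ K).X n ⟶ _) = 0 := hcol.hom_ext fun ⟨j⟩ => by
    refine ModuleCat.hom_ext (LinearMap.ext fun y => ?_)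
    refine (Submodule.Quotient.mk_eq_zero P).2 ⟨{j}, fun T hT => ?_⟩
    have := congrArg (fun t : K j ⟶ ∐ K => (t.f n).hom y) (hιcut T j)
    simp only [if_pos (hT (Finset.mem_singleton_self j))] at this
    exact this
  rw [← P.ker_mkQ, show P.mkQ = 0 from congrArg ModuleCat.Hom.hom this, LinearMap.ker_zero]

theorem isCompactObject (n : ℤ) [HasCoproducts.{v} (DerivedCategory (ModuleCat.{v} R))] :
    CohDer.IsCompactObject (DerivedCategory.Q.obj (gen R n)) := by
  classical
  intro κ X
  let C := DerivedCategory.Q.obj (gen R n)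
  let π : ∀ k, ∐ X ⟶ X k := fun k =>
    Sigma.desc fun j => if h : j = k then eqToHom (h ▸ rfl) else 0
  refine ⟨fun a b hab => ?_, fun f => ?_⟩
  · have key : ∀ (x : DirectSum κ fun k => C ⟶ X k) (k : κ),
        CohDer.homSumToHomCoprod C X x ≫ π k = x k := by
      intro x k
      induction x using DirectSum.induction_on with
      | zero => rw [map_zero, zero_comp]; rfl
      | of j a =>
        unfold CohDer.homSumToHomCoprod
        erw [DirectSum.toAddMonoid_of]
        by_cases h : j = k
        · subst h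
          rw [DirectSum.of_eq_same]
          change (a ≫ Sigma.ι X j) ≫ π j = a
          simp [π]
        · rw [DirectSum.of_eq_of_ne _ _ _ (Ne.symm h)]
          change (a ≫ Sigma.ι X j) ≫ π k = 0
          simp [π, h]
      | add x y hx hy => rw [map_add, Preadditive.add_comp, hx, hy]; rfl
    exact DFinsupp.ext fun k => by rw [← key a k, ← key b k, hab]
  · let K := fun k => DerivedCategory.Q.objPreimage (X k)
    let e : ∀ k, DerivedCategory.Q.obj (K k) ≅ X k := fun k =>
      DerivedCategory.Q.objObjPreimageIso (X k)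
    obtain ⟨I, hI, ⟨eW⟩⟩ := KInjUse.exists_iso_Q_kInjective (∐ X)
    choose g' hg' using fun k =>
      KInjUse.Q_map_surjective (K k) I ((e k).hom ≫ Sigma.ι X k ≫ eW.hom)
    let u : DerivedCategory.Q.obj (∐ K) ⟶ ∐ X := DerivedCategory.Q.map (Sigma.desc g') ≫ eW.inv
    let u' : ∐ X ⟶ DerivedCategory.Q.obj (∐ K) :=
      Sigma.desc fun k => (e k).inv ≫ DerivedCategory.Q.map (Sigma.ι K k)
    have hu : ∀ k, DerivedCategory.Q.map (Sigma.ι K k) ≫ u = (e k).hom ≫ Sigma.ι X k := fun k => by
      rw [← Category.assoc, ← Functor.map_comp, Sigma.ι_desc, hg']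
      simp
    have huu : u' ≫ u = 𝟙 _ := Limits.Sigma.hom_ext _ _ fun k => by simp [u', hu]
    obtain ⟨g, hg⟩ := Q_map_surjective n (∐ K) (f ≫ u')
    obtain ⟨S, γ, hγ⟩ := exists_finset_sum K n g
    refine ⟨∑ k ∈ S, DirectSum.of (fun k => C ⟶ X k) k
      (DerivedCategory.Q.map (γ k) ≫ (e k).hom), ?_⟩
    rw [map_sum, ← Category.comp_id f, ← huu, ← Category.assoc, ← hg, hγ, Functor.map_sum,
      Preadditive.sum_comp]
    refine Finset.sum_congr rfl fun k _ => ?_
    unfold CohDer.homSumToHomCoprod
    erw [DirectSum.toAddMonoid_of]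
    rw [Functor.map_comp, Category.assoc, hu]
    exact Category.assoc _ _ _

theorem generates : CohDer.Generates
    fun n : ULift.{v} ℤ => DerivedCategory.Q.obj (gen R n.down) := by
  intro X hX
  let K := DerivedCategory.Q.objPreimage X
  let eX : DerivedCategory.Q.obj K ≅ X := DerivedCategory.Q.objObjPreimageIso X
  refine IsZero.of_iso (KInjUse.isZero_Q_obj fun n => ?_) eX.symm
  rw [exactAt_iff' _ (n - 1) n (n + 1) (by simp) (by simp), ShortComplex.moduleCat_exact_iff]
  intro z hz
  let g : gen R n ⟶ K := mkHomFromSingle (ModuleCat.ofHom (LinearMap.toSpanSingleton R _ z))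
    (fun k hk => by
      obtain rfl : k = n + 1 := hk.symm
      refine ModuleCat.hom_ext (LinearMap.ext_ring ?_)
      show (K.d n (n + 1)).hom ((1 : R) • z) = 0
      rw [one_smul]
      exact hz)
  have h0 := hX ⟨n⟩ 0 (DerivedCategory.Q.map g ≫ eX.hom ≫
    ((shiftFunctorZero (DerivedCategory (ModuleCat.{v} R)) ℤ).app X).inv)
  have h1 : DerivedCategory.Q.map g = 0 := zero_of_comp_mono eX.hom
    (zero_of_comp_mono _ ((Category.assoc _ _ _).trans h0))
  have h2 : (HomotopyCategory.quotient _ (ComplexShape.up ℤ)).map g = 0 :=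
    (CochainComplex.IsKProjective.Qh_map_bijective (gen R n) _).1
      (h1.trans (Functor.map_zero _ _ _).symm)
  have H : Homotopy g 0 :=
    HomotopyCategory.homotopyOfEq _ _ (h2.trans (Functor.map_zero _ _ _).symm)
  let e := singleObjXSelf (ComplexShape.up ℤ) n (ModuleCat.of R R)
  refine ⟨(H.hom n (n - 1)).hom (e.inv.hom (1 : R)), ?_⟩
  have hc := H.comm n
  rw [dNext_eq _ (show (ComplexShape.up ℤ).Rel n (n + 1) from rfl),
    prevD_eq _ (show (ComplexShape.up ℤ).Rel (n - 1) n by simp), single_obj_d, zero_comp,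
    HomologicalComplex.zero_f, add_zero, zero_add, mkHomFromSingle_f, ← Iso.eq_inv_comp] at hc
  have := congrArg (fun t : ModuleCat.of R R ⟶ K.X n => t.hom (1 : R)) hc
  simp [g] at this
  exact this.symm

variable (R) in
theorem isCompactlyGenerated [HasCoproducts.{v} (DerivedCategory (ModuleCat.{v} R))] :
    CohDer.IsCompactlyGenerated (DerivedCategory (ModuleCat.{v} R)) :=
  ⟨ULift.{v} ℤ, fun n => DerivedCategory.Q.obj (gen R n.down), fun n => isCompactObject n.down,
    generates⟩

end Groth.Agent.DerLib.ModCompactGen
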