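/-
Morphisms of the derived category which vanish on cohomology: the elementary lemmas.
-/
import Mathlib

universe w v u

open CategoryTheory Limits Pretriangulated DerivedCategory Triangulated

namespace Groth.Agent.DerLib.Ghost

variable {C : Type u} [Category.{v} C] [Abelian C] [HasDerivedCategory.{w} C]

theorem isIso_homologyMap_truncGEπ (X : DerivedCategory C) (a i : ℤ) (hi : a ≤ i) :
    IsIso ((homologyFunctor C i).map ((TStructure.t.truncGEπ a).app X)) := by
  have hT := TStructure.t.triangleLTGE_distinguished a X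
  have hle : ((TStructure.t.truncLT a).obj X).IsLE (a - 1) :=
    TStructure.t.isLE_truncLT_obj X a (a - 1) (by lia)
  have : Mono ((homologyFunctor C i).map ((TStructure.t.truncGEπ a).app X)) :=
    (HomologySequence.mono_homologyMap_mor₂_iff _ hT i).2
      ((isZero_of_isLE ((TStructure.t.truncLT a).obj X) (a - 1) i (by lia)).eq_of_src _ _)
  have : Epi ((homologyFunctor C i).map ((TStructure.t.truncGEπ a).app X)) :=
    (HomologySequence.epi_homologyMap_mor₂_iff _ hT i (i + 1)).2
      ((isZero_of_isLE ((TStructure.t.truncLT a).obj X) (a - 1) (i + 1) (by lia)).eq_of_tgt _ _)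
  exact isIso_of_mono_of_epi _

theorem isIso_homologyMap_truncLTι (X : DerivedCategory C) (b i : ℤ) (hi : i < b) :
    IsIso ((homologyFunctor C i).map ((TStructure.t.truncLTι b).app X)) := by
  have hT := TStructure.t.triangleLTGE_distinguished b X
  have hge : ((TStructure.t.truncGE b).obj X).IsGE b :=
    TStructure.t.isGE_truncGE_obj X b b (by lia)
  have : Epi ((homologyFunctor C i).map ((TStructure.t.truncLTι b).app X)) :=
    (HomologySequence.epi_homologyMap_mor₁_iff _ hT i).2
      ((isZero_of_isGE ((TStructure.t.truncGE b).obj X) b i (by lia)).eq_of_tgt _ _)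
  have : Mono ((homologyFunctor C i).map ((TStructure.t.truncLTι b).app X)) :=
    (HomologySequence.mono_homologyMap_mor₁_iff _ hT (i - 1) i).2
      ((isZero_of_isGE ((TStructure.t.truncGE b).obj X) b (i - 1) (by lia)).eq_of_src _ _)
  exact isIso_of_mono_of_epi _

/-- A morphism from an object `≤ m` to an object `≥ m` is determined by its action on `Hᵐ`. -/
theorem eq_zero_of_homologyMap_eq_zero {A Z : DerivedCategory C} (m : ℤ) [A.IsLE m] [Z.IsGE m]
    (g : A ⟶ Z) (h : (homologyFunctor C m).map g = 0) : g = 0 := by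
  obtain ⟨g₁, rfl⟩ : ∃ g₁, (TStructure.t.truncGEπ m).app A ≫ g₁ = g :=
    ⟨TStructure.t.descTruncGE g m, TStructure.t.π_descTruncGE g m⟩
  have : ((TStructure.t.truncGE m).obj A).IsLE m := inferInstanceAs (TStructure.t.IsLE _ m)
  have : ((TStructure.t.truncGE m).obj A).IsGE m :=
    TStructure.t.isGE_truncGE_obj A m m (by lia)
  obtain ⟨g₂, rfl⟩ : ∃ g₂, g₂ ≫ (TStructure.t.truncLTι (m + 1)).app Z = g₁ :=
    ⟨TStructure.t.liftTruncLT g₁ m (m + 1) rfl, TStructure.t.liftTruncLT_ι g₁ m (m + 1) rfl⟩
  have : ((TStructure.t.truncLT (m + 1)).obj Z).IsLE m :=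
    TStructure.t.isLE_truncLT_obj Z (m + 1) m (by lia)
  have : ((TStructure.t.truncLT (m + 1)).obj Z).IsGE m := inferInstanceAs (TStructure.t.IsGE _ m)
  have := isIso_homologyMap_truncGEπ A m m le_rfl
  have := isIso_homologyMap_truncLTι Z (m + 1) m (by lia)
  have h₂ : (homologyFunctor C m).map g₂ = 0 := by
    simpa only [Functor.map_comp, Preadditive.IsIso.comp_left_eq_zero,
      Preadditive.IsIso.comp_right_eq_zero] using h
  obtain ⟨P, ⟨e₁⟩⟩ := exists_iso_singleFunctor_obj_of_isGE_of_isLE
    ((TStructure.t.truncGE m).obj A) m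
  obtain ⟨R, ⟨e₂⟩⟩ := exists_iso_singleFunctor_obj_of_isGE_of_isLE
    ((TStructure.t.truncLT (m + 1)).obj Z) m
  obtain ⟨φ, hφ⟩ := (singleFunctor C m).map_surjective (e₁.inv ≫ g₂ ≫ e₂.hom)
  have hφ₀ : φ = 0 := by
    have h₃ : (homologyFunctor C m).map ((singleFunctor C m).map φ) = 0 := by
      rw [hφ, Functor.map_comp, Functor.map_comp, h₂, zero_comp, comp_zero]
    have := NatIso.naturality_1 (singleFunctorCompHomologyFunctorIso C m) φ
    simp only [Functor.comp_map, h₃, zero_comp, comp_zero, Functor.id_map] at this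
    exact this.symm
  have hg₂ : g₂ = 0 := by
    rw [hφ₀, Functor.map_zero] at hφ
    rw [← cancel_epi e₁.inv, ← cancel_mono e₂.hom, Category.assoc, ← hφ]
    simp
  rw [hg₂, zero_comp, comp_zero]

/-- If `A` is `≤ m` and `g : A ⟶ Y` kills `Hᵐ`, then `g` factors through `τ_{<m} Y`. -/
theorem exists_lift_truncLT {A Y : DerivedCategory C} (m : ℤ) [A.IsLE m] (g : A ⟶ Y)
    (h : (homologyFunctor C m).map g = 0) :
    ∃ g', g' ≫ (TStructure.t.truncLTι m).app Y = g := by
  have : ((TStructure.t.truncGE m).obj Y).IsGE m :=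
    TStructure.t.isGE_truncGE_obj Y m m (by lia)
  have h0 : g ≫ (TStructure.t.truncGEπ m).app Y = 0 :=
    eq_zero_of_homologyMap_eq_zero m _ (by rw [Functor.map_comp, h, zero_comp])
  obtain ⟨g', hg'⟩ := Triangle.coyoneda_exact₂ _
    (TStructure.t.triangleLTGE_distinguished m Y) g h0
  exact ⟨g', hg'.symm⟩

/-- If `Z` is `≥ m` and `g : Y ⟶ Z` kills `Hᵐ`, then `g` factors through `τ_{≥m+1} Y`. -/
theorem exists_desc_truncGE {Y Z : DerivedCategory C} (m : ℤ) [Z.IsGE m] (g : Y ⟶ Z)
    (h : (homologyFunctor C m).map g = 0) :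
    ∃ g', (TStructure.t.truncGEπ (m + 1)).app Y ≫ g' = g := by
  have : ((TStructure.t.truncLT (m + 1)).obj Y).IsLE m :=
    TStructure.t.isLE_truncLT_obj Y (m + 1) m (by lia)
  have h0 : (TStructure.t.truncLTι (m + 1)).app Y ≫ g = 0 :=
    eq_zero_of_homologyMap_eq_zero m _ (by rw [Functor.map_comp, h, comp_zero])
  obtain ⟨g', hg'⟩ := Triangle.yoneda_exact₂ _
    (TStructure.t.triangleLTGE_distinguished (m + 1) Y) g h0
  exact ⟨g', hg'.symm⟩

/-- The cone of a map, with vanishing homology in degree `i`, from the long exact sequence. -/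
theorem isZero_homology_obj₁ (T : Triangle (DerivedCategory C)) (hT : T ∈ distTriang _)
    (i j : ℤ) (hij : i + 1 = j)
    (h₂ : Mono ((homologyFunctor C j).map T.mor₂))
    (h₃ : Epi ((homologyFunctor C i).map T.mor₂)) :
    IsZero ((homologyFunctor C j).obj T.obj₁) := by
  have hδ : HomologySequence.δ T i j hij = 0 :=
    (HomologySequence.epi_homologyMap_mor₂_iff T hT i j hij).1 h₃
  have h₁ : (homologyFunctor C j).map T.mor₁ = 0 :=
    (HomologySequence.mono_homologyMap_mor₂_iff T hT j).1 h₂
  have : Mono ((homologyFunctor C j).map T.mor₁) :=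
    (HomologySequence.mono_homologyMap_mor₁_iff T hT i j hij).2 hδ
  rw [IsZero.iff_id_eq_zero, ← cancel_mono ((homologyFunctor C j).map T.mor₁)]
  simp [h₁]

/-- The cone of a map, with vanishing homology in degree `i`, from the long exact sequence. -/
theorem isZero_homology_obj₃ (T : Triangle (DerivedCategory C)) (hT : T ∈ distTriang _)
    (i j : ℤ) (hij : i + 1 = j)
    (h₁ : Epi ((homologyFunctor C i).map T.mor₁))
    (h₃ : Mono ((homologyFunctor C j).map T.mor₁)) :
    IsZero ((homologyFunctor C i).obj T.obj₃) := by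
  have hδ : HomologySequence.δ T i j hij = 0 :=
    (HomologySequence.mono_homologyMap_mor₁_iff T hT i j hij).1 h₃
  have h₂ : (homologyFunctor C i).map T.mor₂ = 0 :=
    (HomologySequence.epi_homologyMap_mor₁_iff T hT i).1 h₁
  have : Epi ((homologyFunctor C i).map T.mor₂) :=
    (HomologySequence.epi_homologyMap_mor₂_iff T hT i j hij).2 hδ
  rw [IsZero.iff_id_eq_zero, ← cancel_epi ((homologyFunctor C i).map T.mor₂)]
  simp [h₂]

theorem isIso_homologyMap_Q_of_quasiIsoAt {K L : CochainComplex C ℤ} (φ : K ⟶ L) (i : ℤ)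
    [QuasiIsoAt φ i] : IsIso ((homologyFunctor C i).map (Q.map φ)) := by
  exact (NatIso.isIso_map_iff (homologyFunctorFactors C i) φ).2
    (inferInstanceAs (IsIso (HomologicalComplex.homologyMap φ i)))

/-- A morphism from an object `≤ m` lifts through a map which is an isomorphism on `Hⁱ` for
`i ≤ m` and whose source has no cohomology in degree `m + 1`. -/
theorem exists_lift {A T Y : DerivedCategory C} (ι : T ⟶ Y) (m : ℤ) [A.IsLE m]
    (hι : ∀ i ≤ m, IsIso ((homologyFunctor C i).map ι))
    (hT : IsZero ((homologyFunctor C (m + 1)).obj T)) (b : A ⟶ Y) : ∃ b', b' ≫ ι = b := by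
  obtain ⟨W, g, h, mem⟩ := distinguished_cocone_triangle ι
  have hW : W.IsGE (m + 1) := by
    rw [isGE_iff]
    intro i hi
    refine isZero_homology_obj₃ _ mem i (i + 1) rfl ?_ ?_
    · have := hι i (by lia)
      exact inferInstanceAs (Epi ((homologyFunctor C i).map ι))
    · obtain hlt | rfl : i < m ∨ i = m := by lia
      · have := hι (i + 1) (by lia)
        exact inferInstanceAs (Mono ((homologyFunctor C (i + 1)).map ι))
      · exact ⟨fun {Z} a c _ => hT.eq_of_tgt a c⟩
  obtain ⟨b', hb'⟩ := Triangle.coyoneda_exact₂ _ mem b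
    (TStructure.t.zero_of_isLE_of_isGE _ m (m + 1) (by lia) inferInstance hW)
  exact ⟨b', hb'.symm⟩

/-- A morphism to an object `≥ m` extends along a map which is an isomorphism on `Hⁱ` for
`m ≤ i` and whose target has no cohomology in degree `m - 1`. -/
theorem exists_desc {Z T Y : DerivedCategory C} (π : Y ⟶ T) (m : ℤ) [Z.IsGE m]
    (hπ : ∀ i, m ≤ i → IsIso ((homologyFunctor C i).map π))
    (hT : IsZero ((homologyFunctor C (m - 1)).obj T)) (b : Y ⟶ Z) : ∃ b', π ≫ b' = b := by
  obtain ⟨W, g, h, mem⟩ := distinguished_cocone_triangle₁ π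
  have hW : W.IsLE (m - 1) := by
    rw [isLE_iff]
    intro i hi
    refine isZero_homology_obj₁ _ mem (i - 1) i (by lia) ?_ ?_
    · have := hπ i (by lia)
      exact inferInstanceAs (Mono ((homologyFunctor C i).map π))
    · obtain hlt | heq : m ≤ i - 1 ∨ i - 1 = m - 1 := by lia
      · have := hπ (i - 1) hlt
        exact inferInstanceAs (Epi ((homologyFunctor C (i - 1)).map π))
      · have hT' : IsZero ((homologyFunctor C (i - 1)).obj T) := heq ▸ hT
        exact ⟨fun {Z} a c _ => hT'.eq_of_src a c⟩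
  obtain ⟨b', hb'⟩ := Triangle.yoneda_exact₂ _ mem b
    (TStructure.t.zero_of_isLE_of_isGE _ (m - 1) m (by lia) hW inferInstance)
  exact ⟨b', hb'.symm⟩

end Groth.Agent.DerLib.Ghost
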