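/-
Amplitude of derived functors.
-/
import Groth.Agent.DerLib.Devissage
import Groth.Agent.DerLib.KInjDerived
import Mathlib.Algebra.Homology.DerivedCategory.DerivabilityStructureInjectives

set_option linter.unusedSectionVars false
set_option linter.style.haveILetI false

universe w w' v v' u u'

open CategoryTheory Limits DerivedCategory DerivedCategory.TStructure

namespace Groth.Agent.DerLib.Amplitude

open Devissage

variable {A : Type u} [Category.{v} A] [Abelian A] [HasDerivedCategory.{w} A]
  {B : Type u'} [Category.{v'} B] [Abelian B] [HasDerivedCategory.{w'} B]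
  (F : A ⥤ B) [F.Additive]

theorem leftBound_mapDerivedCategory [PreservesFiniteLimits F] [PreservesFiniteColimits F] :
    LeftBound F.mapDerivedCategory 0 := by
  intro X n i hX hi
  obtain ⟨K, hK, ⟨e⟩⟩ := X.exists_iso_Q_obj_of_isGE n
  have hz : IsZero (((F.mapHomologicalComplex (ComplexShape.up ℤ)).obj K).X i) :=
    F.map_isZero (K.isZero_of_isStrictlyGE n i (by omega))
  exact ((HomologicalComplex.exactAt_iff _ i).2
    (ShortComplex.exact_of_isZero_X₂ (((F.mapHomologicalComplex (ComplexShape.up ℤ)).obj _).sc i) hz)).isZero_homology.of_iso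
    ((homologyFunctor B i).mapIso (F.mapDerivedCategory.mapIso e ≪≫
      F.mapDerivedCategoryFactors.app K) ≪≫ (homologyFunctorFactors B i).app _)

theorem leftBound_rightDerived [EnoughInjectives A] (RF : DerivedCategory A ⥤ DerivedCategory B)
    (α : F.mapHomotopyCategory (ComplexShape.up ℤ) ⋙ Qh ⟶ Qh ⋙ RF)
    [RF.IsRightDerivedFunctor α (HomotopyCategory.quasiIso A (ComplexShape.up ℤ))]
    (hA : KInjDerived.EnoughKInj A) : LeftBound RF 0 := by
  intro X n i hX hi
  obtain ⟨K, hK, ⟨e⟩⟩ := X.exists_iso_Q_obj_of_isGE n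
  obtain ⟨L, f, hf, hLi, hLn⟩ :=
    CochainComplex.Plus.modelCategoryQuillen.exists_quasiIso_injective K n
  haveI : L.IsKInjective := CochainComplex.isKInjective_of_injective L n
  haveI := KInjDerived.isIso_app RF α hA L
  have hz : IsZero (((F.mapHomologicalComplex (ComplexShape.up ℤ)).obj L).X i) :=
    F.map_isZero (L.isZero_of_isStrictlyGE n i (by omega))
  exact ((HomologicalComplex.exactAt_iff _ i).2
    (ShortComplex.exact_of_isZero_X₂ (((F.mapHomologicalComplex (ComplexShape.up ℤ)).obj _).sc i) hz)).isZero_homology.of_iso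
    ((homologyFunctor B i).mapIso
      (RF.mapIso (e ≪≫ asIso (Q.map f) ≪≫ ((quotientCompQhIso A).app L).symm) ≪≫
        (asIso (α.app ((HomotopyCategory.quotient A (ComplexShape.up ℤ)).obj L))).symm ≪≫
        Qh.mapIso ((F.mapHomotopyCategoryFactors (ComplexShape.up ℤ)).app L) ≪≫
        (quotientCompQhIso B).app _) ≪≫ (homologyFunctorFactors B i).app _)

end Groth.Agent.DerLib.Amplitude
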