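/-
Grothendieck abelian categories have enough K-injective complexes.
-/
import Groth.Agent.DerLib.KInjRes
import Groth.Agent.DerLib.KInjDerived

universe v u

open CategoryTheory

namespace Groth.Agent.DerLib.KInjDerived

theorem enoughKInj (A : Type u) [Category.{v} A] [Abelian A] [IsGrothendieckAbelian.{v} A] :
    EnoughKInj A := fun K => by
  obtain ⟨I, f, hI, hf, -⟩ := KInjRes.exists_resolution K
  exact ⟨I, f, hI, (HomologicalComplex.mem_quasiIso_iff _).1 hf.2⟩

end Groth.Agent.DerLib.KInjDerived
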