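import Mathlib.CategoryTheory.Triangulated.Yoneda
import Mathlib.CategoryTheory.ObjectProperty.Orthogonal
import Mathlib.CategoryTheory.Linear.LinearFunctor

/-!
# Killed objects as tests in a linear triangulated category
-/

set_option autoImplicit false
set_option linter.style.haveILetI false
set_option linter.unusedSectionVars false

universe w v u

open CategoryTheory CategoryTheory.Limits
open CategoryTheory.Pretriangulated (Triangle)

namespace Groth.Agent.DerLib.NilpTest

variable {R : Type w} [CommRing R] {D : Type u} [Category.{v} D] [Preadditive D] [CategoryTheory.Linear R D]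
  [HasZeroObject D] [HasShift D ℤ] [∀ n : ℤ, (shiftFunctor D n).Additive]
  [∀ n : ℤ, (shiftFunctor D n).Linear R] [Pretriangulated D]

/-- A power of `a` is zero on `X`. -/
def Nilp (a : R) (X : D) : Prop := ∃ k : ℕ, a ^ k • 𝟙 X = 0

theorem smul_shift (a : R) (X : D) (n : ℤ) : (shiftFunctor D n).map (a • 𝟙 X) = a • 𝟙 (X⟦n⟧) := by
  rw [Functor.map_smul, CategoryTheory.Functor.map_id]

theorem nilp_shift {a : R} {X : D} (h : Nilp a X) (n : ℤ) : Nilp a (X⟦n⟧) := by
  obtain ⟨k, hk⟩ := h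
  exact ⟨k, by rw [← smul_shift, hk, Functor.map_zero]⟩

omit [HasZeroObject D] [HasShift D ℤ] [∀ n : ℤ, (shiftFunctor D n).Additive]
  [∀ n : ℤ, (shiftFunctor D n).Linear R] [Pretriangulated D] in
theorem nilp_of_iso {a : R} {X Y : D} (e : X ≅ Y) (h : Nilp a X) : Nilp a Y := by
  obtain ⟨k, hk⟩ := h
  refine ⟨k, ?_⟩
  rw [← cancel_epi e.hom, comp_zero, Linear.comp_smul, Category.comp_id, ← Category.id_comp e.hom,
    ← Linear.smul_comp, hk, zero_comp]

theorem nilp_cone {a : R} {X Z : D} {p : X ⟶ Z}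
    {q : Z ⟶ X⟦(1 : ℤ)⟧} (hT : Triangle.mk (a • 𝟙 X) p q ∈ Pretriangulated.distinguishedTriangles) :
    Nilp a Z ∧ ∀ c : R, Nilp c X → Nilp c Z := by
  have hsq : ∀ c : R, (c • 𝟙 X) ≫ p = 0 → q ≫ (c • 𝟙 (X⟦(1 : ℤ)⟧)) = 0 → c ^ 2 • 𝟙 Z = 0 := by
    intro c h1 h3
    have hp : p ≫ (c • 𝟙 Z) = 0 := by
      rw [Linear.comp_smul, Category.comp_id]
      rwa [Linear.smul_comp, Category.id_comp] at h1
    obtain ⟨t, ht⟩ := Triangle.yoneda_exact₃ _ hT (c • 𝟙 Z) hp
    have ht' : c • 𝟙 Z = q ≫ t := ht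
    rw [pow_two, mul_smul]
    conv_lhs => arg 2; rw [ht']
    calc c • (q ≫ t) = (q ≫ (c • 𝟙 (X⟦(1 : ℤ)⟧))) ≫ t := by
          simp only [Linear.comp_smul, Linear.smul_comp, Category.comp_id]
      _ = 0 := by rw [h3, zero_comp]
  refine ⟨⟨2, hsq a ?_ ?_⟩, fun c ⟨k, hk⟩ => ⟨k * 2, ?_⟩⟩
  · exact Pretriangulated.comp_distTriang_mor_zero₁₂ _ hT
  · rw [← smul_shift]
    exact Pretriangulated.comp_distTriang_mor_zero₃₁ _ hT
  · rw [pow_mul]
    refine hsq _ (by rw [hk, zero_comp]) ?_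
    rw [← smul_shift, hk, Functor.map_zero, comp_zero]

/-- Killed test objects do not distinguish `X` and `F X`. -/
theorem bijective_of_nilp (F : D ⥤ D) [F.CommShift ℤ] [F.IsTriangulated] [F.Additive] [F.Linear R]
    (η : 𝟭 D ⟶ F) (T : D) :
    ∀ (l acc : List R) (_ : ∀ X, (∀ a ∈ acc ++ l, Nilp a X) → IsIso (η.app X)) (_ : ∀ a ∈ l, Nilp a T)
      (X : D), (∀ a ∈ acc, Nilp a X) → Function.Bijective fun x : T ⟶ X => x ≫ η.app X
  | [], acc, hbase, _, X, hX => by
    haveI := hbase X (by simpa using hX)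
    exact ⟨fun x y h => (cancel_mono (η.app X)).1 h, fun y => ⟨y ≫ inv (η.app X), by
      change (y ≫ inv (η.app X)) ≫ η.app X = y
      rw [Category.assoc, IsIso.inv_hom_id, Category.comp_id]⟩⟩
  | a :: l, acc, hbase, hT, X, hX => by
    obtain ⟨k, hk⟩ := hT a List.mem_cons_self
    let c := a ^ (k + 1)
    have hc : c • 𝟙 T = 0 := by
      change a ^ (k + 1) • 𝟙 T = 0
      rw [pow_succ', mul_smul, hk, smul_zero]
    obtain ⟨Z, p, q, hZ⟩ := Pretriangulated.distinguished_cocone_triangle (c • 𝟙 X)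
    have hZn : ∀ b ∈ acc ++ [a], Nilp b Z := fun b hb => by
      rcases List.mem_append.1 hb with hb | hb
      · exact (nilp_cone hZ).2 b (hX b hb)
      · obtain rfl : b = a := by simpa using hb
        obtain ⟨m, hm⟩ := (nilp_cone hZ).1
        exact ⟨(k + 1) * m, by rw [pow_mul]; exact hm⟩
    have ih := fun Y hY => bijective_of_nilp F η T l (acc ++ [a])
      (fun X' h => hbase X' (by simpa using h)) (fun b hb => hT b (List.mem_cons_of_mem a hb)) Y hY
    have hkill : ∀ (Y : D) (y : T ⟶ Y), y ≫ (c • 𝟙 Y) = 0 := fun Y y => by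
      rw [Linear.comp_smul, Category.comp_id, ← Category.id_comp y, ← Linear.smul_comp, hc, zero_comp]
    refine ⟨fun x x' hxx => sub_eq_zero.1 ?_, fun y => ?_⟩
    · have h0 : (x - x') ≫ η.app X = 0 := by rw [Preadditive.sub_comp, sub_eq_zero]; exact hxx
      have h1 : (x - x') ≫ p = 0 := (ih Z hZn).1 (by
        change ((x - x') ≫ p) ≫ η.app Z = (0 : T ⟶ Z) ≫ η.app Z
        rw [Category.assoc, show p ≫ η.app Z = η.app X ≫ F.map p from η.naturality p, reassoc_of% h0,
          zero_comp, zero_comp])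
      obtain ⟨w, hw⟩ := Triangle.coyoneda_exact₂ _ hZ (x - x') h1
      exact hw.trans (hkill X w)
    · let S := (Triangle.mk (c • 𝟙 X) p q).invRotate
      have hS : S ∈ Pretriangulated.distinguishedTriangles := Pretriangulated.inv_rot_of_distTriang _ hZ
      obtain ⟨w, hw⟩ := Triangle.coyoneda_exact₂ _ (F.map_distinguished _ hS) y (by
        refine Eq.trans (congrArg (y ≫ ·) ?_) (hkill _ y)
        change F.map (c • 𝟙 X) = c • 𝟙 (F.obj X)
        rw [Functor.map_smul, CategoryTheory.Functor.map_id])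
      obtain ⟨w', hw'⟩ := (ih S.obj₁ fun b hb => nilp_shift (hZn b hb) _).2 w
      refine ⟨w' ≫ S.mor₁, ?_⟩
      change (w' ≫ S.mor₁) ≫ η.app X = y
      rw [Category.assoc, show S.mor₁ ≫ η.app X = η.app S.obj₁ ≫ F.map S.mor₁ from η.naturality S.mor₁]
      refine (Category.assoc _ _ _).symm.trans ?_
      exact (congrArg (· ≫ F.map S.mor₁) hw').trans hw.symm

omit [∀ n : ℤ, (shiftFunctor D n).Linear R] [CategoryTheory.Linear R D] in
theorem subsingleton_obj₃ {T : D} {S : Triangle D} (hS : S ∈ Pretriangulated.distinguishedTriangles)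
    (h1 : Function.Surjective fun x : T ⟶ S.obj₁ => x ≫ S.mor₁)
    (h2 : Function.Injective fun x : T⟦(-1 : ℤ)⟧ ⟶ S.obj₁ => x ≫ S.mor₁) : Subsingleton (T ⟶ S.obj₃) := by
  refine ⟨fun y y' => sub_eq_zero.1 ?_⟩
  let adj := (shiftEquiv' D (-1 : ℤ) 1 (by omega)).toAdjunction
  have h3 : (y - y') ≫ S.mor₃ = 0 := by
    apply (adj.homEquiv _ _).symm.injective
    refine h2 ?_
    change (adj.homEquiv _ _).symm ((y - y') ≫ S.mor₃) ≫ S.mor₁ = (adj.homEquiv _ _).symm 0 ≫ S.mor₁
    rw [← Adjunction.homEquiv_naturality_right_symm, ← Adjunction.homEquiv_naturality_right_symm,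
      zero_comp, Category.assoc]
    congr 1
    exact (congrArg ((y - y') ≫ ·) (Pretriangulated.comp_distTriang_mor_zero₃₁ _ hS)).trans comp_zero
  obtain ⟨z, hz⟩ := Triangle.coyoneda_exact₃ _ hS (y - y') h3
  obtain ⟨x, hx⟩ := h1 z
  rw [hz, ← hx]
  exact (Category.assoc _ _ _).trans
    ((congrArg (x ≫ ·) (Pretriangulated.comp_distTriang_mor_zero₁₂ _ hS)).trans comp_zero)

variable (P : ObjectProperty D) [P.IsTriangulated] [P.IsClosedUnderIsomorphisms]

omit [∀ n : ℤ, (shiftFunctor D n).Linear R] [CategoryTheory.Linear R D] [P.IsClosedUnderIsomorphisms] in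
theorem orth_shift {X : D} (h : P.leftOrthogonal X) (n : ℤ) : P.leftOrthogonal (X⟦n⟧) := fun Y g hY => by
  let e := (shiftEquiv D n).toAdjunction.homEquiv X Y
  apply e.injective
  exact (h (e g) (P.le_shift (-n) _ hY)).trans (h (e 0) (P.le_shift (-n) _ hY)).symm

omit [∀ n : ℤ, (shiftFunctor D n).Linear R] [CategoryTheory.Linear R D] [P.IsClosedUnderIsomorphisms] in
theorem orth_obj₃ {S : Triangle D} (hS : S ∈ Pretriangulated.distinguishedTriangles)
    (h₁ : P.leftOrthogonal S.obj₁) (h₂ : P.leftOrthogonal S.obj₂) : P.leftOrthogonal S.obj₃ := fun Y g hY => by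
  obtain ⟨c, hc⟩ := S.yoneda_exact₃ hS g (h₂ _ hY)
  rw [hc, orth_shift P h₁ 1 c hY, comp_zero]

omit [∀ n : ℤ, (shiftFunctor D n).Linear R] [CategoryTheory.Linear R D] [P.IsClosedUnderIsomorphisms] in
theorem orth_obj₁ {S : Triangle D} (hS : S ∈ Pretriangulated.distinguishedTriangles)
    (h₂ : P.leftOrthogonal S.obj₂) (h₃ : P.leftOrthogonal S.obj₃) : P.leftOrthogonal S.obj₁ := fun Y g hY => by
  obtain ⟨c, hc⟩ := Triangle.yoneda_exact₂ _ (Pretriangulated.inv_rot_of_distTriang _ hS) g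
    (orth_shift P h₃ (-1) _ hY :)
  rw [hc, show c = 0 from h₂ c hY]; exact comp_zero

/-- No maps from killed objects to objects left orthogonal to `P`. -/
theorem subsingleton_of_orth :
    ∀ (l acc : List R) (_ : ∀ X, (∀ a ∈ acc ++ l, Nilp a X) → P X) (T : D) (_ : ∀ a ∈ l, Nilp a T)
      (X : D), P.leftOrthogonal X → (∀ a ∈ acc, Nilp a X) → Subsingleton (T ⟶ X)
  | [], acc, hc, T, _, X, hX, hn => by
    have h := hX (𝟙 X) (hc X (by simpa using hn))
    exact ⟨fun x y => by rw [← Category.comp_id x, ← Category.comp_id y, h, comp_zero, comp_zero]⟩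
  | a :: l, acc, hc, T, hT, X, hX, hn => by
    obtain ⟨k, hk⟩ := hT a List.mem_cons_self
    obtain ⟨Z, p, q, hZ⟩ := Pretriangulated.distinguished_cocone_triangle (a ^ (k + 1) • 𝟙 X)
    have hZo : P.leftOrthogonal Z := orth_obj₃ P hZ hX hX
    have hZn : ∀ b ∈ acc ++ [a], Nilp b Z := fun b hb => by
      rcases List.mem_append.1 hb with hb | hb
      · exact (nilp_cone hZ).2 b (hn b hb)
      · obtain rfl : b = a := by simpa using hb
        obtain ⟨m, hm⟩ := (nilp_cone hZ).1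
        exact ⟨(k + 1) * m, by rw [pow_mul]; exact hm⟩
    haveI := subsingleton_of_orth l (acc ++ [a]) (fun Y h => hc Y (by simpa using h)) T
      (fun b hb => hT b (List.mem_cons_of_mem a hb)) Z hZo hZn
    refine ⟨fun y y' => sub_eq_zero.1 ?_⟩
    obtain ⟨w, hw⟩ := Triangle.coyoneda_exact₂ _ hZ (y - y') (this.elim _ _)
    have hkill : ∀ w : T ⟶ X, w ≫ (a ^ (k + 1) • 𝟙 X) = 0 := fun w => by
      rw [Linear.comp_smul, Category.comp_id, ← Category.id_comp w, ← Linear.smul_comp,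
        pow_succ', mul_smul, hk, smul_zero, zero_comp]
    exact hw.trans (hkill w)

/-- An object of `P` without maps from killed objects vanishes. -/
theorem isZero_of_test :
    ∀ (l acc : List R) (_ : ∀ a ∈ l, ∀ X, P X → IsIso (a • 𝟙 X) → IsZero X)
      (X : D), P X → (∀ T, (∀ a ∈ acc ++ l, Nilp a T) → Subsingleton (T ⟶ X)) →
      (∀ a ∈ acc, Nilp a X) → IsZero X
  | [], acc, _, X, _, h, hn => by
    haveI := h X (by simpa using hn)
    exact (IsZero.iff_id_eq_zero X).2 (Subsingleton.elim _ _)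
  | a :: l, acc, hu, X, hX, h, hn => by
    obtain ⟨Z, p, q, hZ⟩ := Pretriangulated.distinguished_cocone_triangle (a • 𝟙 X)
    have hz : IsZero Z := by
      refine isZero_of_test l (acc ++ [a]) (fun b hb => hu b (List.mem_cons_of_mem a hb)) Z
        (P.ext_of_isTriangulatedClosed₃ _ hZ hX hX) (fun T hT => ?_) ?_
      · have hT' : ∀ b ∈ acc ++ a :: l, Nilp b T := fun b hb => hT b (by simpa using hb)
        exact subsingleton_obj₃ (T := T) hZ (fun y => ⟨0, (h T hT').elim _ _⟩)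
          (fun y y' _ => (h _ fun b hb => nilp_shift (hT' b hb) _).elim _ _)
      · intro b hb
        rcases List.mem_append.1 hb with hb | hb
        · exact (nilp_cone hZ).2 b (hn b hb)
        · obtain rfl : b = a := by simpa using hb
          exact (nilp_cone hZ).1
    exact hu a List.mem_cons_self X hX ((Triangle.isZero₃_iff_isIso₁ _ hZ).1 hz)

/-- Objects without maps from killed objects are left orthogonal to `P`. -/
theorem leftOrthogonal_of_test (l : List R) (hc : ∀ X, (∀ a ∈ l, Nilp a X) → P X)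
    (hu : ∀ a ∈ l, ∀ X, P X → IsIso (a • 𝟙 X) → IsZero X) {S : Triangle D}
    (hS : S ∈ Pretriangulated.distinguishedTriangles) (h₂ : P S.obj₂) (h₃ : P.leftOrthogonal S.obj₃)
    (h : ∀ T, (∀ a ∈ l, Nilp a T) → Subsingleton (T ⟶ S.obj₁)) : P.leftOrthogonal S.obj₁ := by
  have hz : IsZero S.obj₂ := by
    refine isZero_of_test P l [] hu _ h₂ (fun T hT => ⟨fun y y' => sub_eq_zero.1 ?_⟩) (by simp)
    haveI := subsingleton_of_orth P l [] (by simpa using hc) T hT S.obj₃ h₃ (by simp)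
    obtain ⟨z, hz⟩ := Triangle.coyoneda_exact₂ _ hS (y - y') (this.elim _ _)
    rw [hz, (h T hT).elim z 0, zero_comp]
  exact orth_obj₁ P hS (fun Y g _ => hz.eq_of_src g 0) h₃

end Groth.Agent.DerLib.NilpTest
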