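/-
Orthogonal decompositions in triangulated categories.
-/
import Mathlib

universe v u

open CategoryTheory Limits Pretriangulated Triangulated ZeroObject

namespace Groth.Agent.DerLib.OrthDecomp

variable {D : Type u} [Category.{v} D] [Preadditive D] [HasZeroObject D] [HasShift D ℤ]
  [∀ n : ℤ, (shiftFunctor D n).Additive] [Pretriangulated D]

/-- Objects which are extensions of an object of `Q` by an object of `P`. -/
def Decomp (P Q : ObjectProperty D) : ObjectProperty D := fun X =>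
  ∃ (A B : D) (f : A ⟶ X) (g : X ⟶ B) (h : B ⟶ A⟦(1 : ℤ)⟧),
    Triangle.mk f g h ∈ distinguishedTriangles ∧ P A ∧ Q B

theorem decomp_of_isoClosure {P Q : ObjectProperty D} {A X B : D} {f : A ⟶ X} {g : X ⟶ B}
    {h : B ⟶ A⟦(1 : ℤ)⟧} (hT : Triangle.mk f g h ∈ distinguishedTriangles)
    (hA : P.isoClosure A) (hB : Q.isoClosure B) : Decomp P Q X := by
  obtain ⟨A', hA', ⟨e⟩⟩ := hA
  obtain ⟨B', hB', ⟨e'⟩⟩ := hB
  exact ⟨A', B', e.inv ≫ f, g ≫ e'.hom, e'.inv ≫ h ≫ e.hom⟦1⟧',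
    isomorphic_distinguished _ hT _ (Triangle.isoMk _ _ e.symm (Iso.refl _) e'.symm
      (Category.comp_id _) (((Category.assoc _ _ _).trans ((congrArg (g ≫ ·) e'.hom_inv_id).trans (Category.comp_id g))).trans (Category.id_comp g).symm) (by
        change (e'.inv ≫ h ≫ e.hom⟦(1 : ℤ)⟧') ≫ e.inv⟦(1 : ℤ)⟧' = e'.inv ≫ h
        rw [Category.assoc, Category.assoc, ← Functor.map_comp, e.hom_inv_id, CategoryTheory.Functor.map_id,
          Category.comp_id])), hA', hB'⟩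

variable [IsTriangulated D]

theorem isTriangulated_decomp (P Q : ObjectProperty D) [P.IsTriangulated] [Q.IsTriangulated]
    (hPQ : ∀ ⦃a b : D⦄ (φ : a ⟶ b), P a → Q b → φ = 0) : (Decomp P Q).IsTriangulated where
  exists_zero := by
    obtain ⟨Z, hZ, hPZ⟩ := P.exists_prop_of_containsZero
    obtain ⟨Z', hZ', hQZ⟩ := Q.exists_prop_of_containsZero
    refine ⟨0, isZero_zero D, ?_⟩
    exact decomp_of_isoClosure (contractible_distinguished (0 : D))
      ⟨Z, hPZ, ⟨(isZero_zero D).iso hZ⟩⟩ ⟨Z', hQZ, ⟨(isZero_zero D).iso hZ'⟩⟩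
  isStableUnderShiftBy n :=
    { le_shift := by
        rintro X ⟨A, B, f, g, h, hT, hA, hB⟩
        exact ⟨A⟦n⟧, B⟦n⟧, _, _, _, Triangle.shift_distinguished _ hT n,
          P.le_shift n _ hA, Q.le_shift n _ hB⟩ }
  ext₂' T hT := by
    rintro ⟨AX, BX, fX, gX, hX, hTX, hAX, hBX⟩ ⟨AZ, BZ, fZ, gZ, hZ, hTZ, hAZ, hBZ⟩
    apply ObjectProperty.le_isoClosure
    -- the cone of `AX ⟶ X ⟶ Y`
    obtain ⟨C, v, w, hC⟩ := distinguished_cocone_triangle (fX ≫ T.mor₁)
    let o₁ := someOctahedron rfl hTX hT hC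
    obtain ⟨a, ha⟩ := Triangle.coyoneda_exact₃ _ o₁.mem fZ
      (hPQ _ hAZ (Q.le_shift 1 _ hBX))
    -- the cone of `AZ ⟶ C`
    obtain ⟨BY, b, c, hBY⟩ := distinguished_cocone_triangle (a : AZ ⟶ C)
    let o₂ := someOctahedron (ha.symm : (a : AZ ⟶ C) ≫ o₁.m₃ = fZ) hBY
      (rot_of_distTriang _ o₁.mem) hTZ
    have hQ : Q.isoClosure BY :=
      Q.ext_of_isTriangulatedClosed₁' _ o₂.mem hBZ (Q.le_shift 1 _ hBX)
    -- the fibre of `Y ⟶ C ⟶ BY`
    obtain ⟨AY, f, k, hAY⟩ := distinguished_cocone_triangle₁ (v ≫ b)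
    let o₃ := someOctahedron' rfl hC hBY hAY
    exact decomp_of_isoClosure hAY (P.ext_of_isTriangulatedClosed₂' _ o₃.mem hAX hAZ) hQ

omit [IsTriangulated D] in
theorem isRightAdjoint_iff (P : ObjectProperty D) [P.IsTriangulated] :
    P.ι.IsRightAdjoint ↔ ∀ X : D, ∃ (A B : D) (f : A ⟶ X) (g : X ⟶ B) (h : B ⟶ A⟦(1 : ℤ)⟧),
      Triangle.mk f g h ∈ distinguishedTriangles ∧ P B ∧ P.leftOrthogonal A := by
  constructor
  · intro _ X
    let adj := Adjunction.ofIsRightAdjoint P.ι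
    let g : X ⟶ (P.ι.leftAdjoint.obj X).obj := adj.unit.app X
    obtain ⟨A, f, h, hT⟩ := distinguished_cocone_triangle₁ g
    refine ⟨A, _, f, g, h, hT, (P.ι.leftAdjoint.obj X).property, fun Y φ hY => ?_⟩
    have hbij : ∀ (Y : D), P Y → Function.Bijective
        (fun t : (P.ι.leftAdjoint.obj X).obj ⟶ Y => g ≫ t) := by
      intro Y hY
      let Y' : P.FullSubcategory := ⟨Y, hY⟩
      have he : Function.Bijective (fun t : P.ι.leftAdjoint.obj X ⟶ Y' => g ≫ t.hom) := by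
        have : (fun t : P.ι.leftAdjoint.obj X ⟶ Y' => g ≫ t.hom) = ⇑(adj.homEquiv X Y') :=
          funext fun t => (adj.homEquiv_unit X Y' t).symm
        rw [this]
        exact (adj.homEquiv X Y').bijective
      refine ⟨fun t₁ t₂ ht => ?_, fun r => ?_⟩
      · exact congrArg (fun m => m.hom) (he.1 (a₁ := ObjectProperty.homMk t₁)
          (a₂ := ObjectProperty.homMk t₂) ht)
      · obtain ⟨t, ht⟩ := he.2 r
        exact ⟨t.hom, ht⟩
    have h0 : h ≫ φ⟦(1 : ℤ)⟧' = 0 :=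
      (hbij _ (P.le_shift 1 _ hY)).1 (by
        change g ≫ h ≫ φ⟦(1 : ℤ)⟧' = g ≫ 0
        rw [comp_zero, ← Category.assoc]
        exact (congrArg (· ≫ φ⟦(1 : ℤ)⟧') (comp_distTriang_mor_zero₂₃ _ hT)).trans zero_comp)
    obtain ⟨s, hs⟩ := Triangle.yoneda_exact₂ _ (rot_of_distTriang _ (rot_of_distTriang _ hT))
      (φ⟦(1 : ℤ)⟧') h0
    obtain ⟨s', rfl⟩ := (shiftFunctor D (1 : ℤ)).map_surjective s
    obtain ⟨t, rfl⟩ := (hbij Y hY).2 s'
    have hfg : f ≫ g = 0 := comp_distTriang_mor_zero₁₂ _ hT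
    have hs' : φ⟦(1 : ℤ)⟧' = (-f⟦(1 : ℤ)⟧') ≫ (g ≫ t)⟦(1 : ℤ)⟧' := hs
    rw [Preadditive.neg_comp, ← CategoryTheory.Functor.map_comp, ← Category.assoc, hfg, zero_comp,
      CategoryTheory.Functor.map_zero, neg_zero, Functor.map_eq_zero_iff] at hs'
    exact hs'
  · intro hX
    choose A B f g h hT hB hA using hX
    have hbij : ∀ (X : D) (Y : P.FullSubcategory), Function.Bijective
        (fun t : (⟨B X, hB X⟩ : P.FullSubcategory) ⟶ Y => g X ≫ t.hom) := by
      intro X Y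
      refine ⟨fun t₁ t₂ ht => ?_, fun r => ?_⟩
      · apply InducedCategory.hom_ext
        rw [← sub_eq_zero]
        obtain ⟨u, hu⟩ := Triangle.yoneda_exact₃ _ (hT X) (t₁.hom - t₂.hom)
          ((Preadditive.comp_sub _ _ _).trans (sub_eq_zero.2 ht))
        rw [hu, show u = 0 from
          (P.leftOrthogonal.le_shift (1 : ℤ) _ (hA X)) u Y.property]
        exact comp_zero
      · obtain ⟨t, ht⟩ := Triangle.yoneda_exact₂ _ (hT X) r ((hA X) _ Y.property)
        exact ⟨ObjectProperty.homMk t, ht.symm⟩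
    exact ⟨_, ⟨Adjunction.adjunctionOfEquivLeft
      (F_obj := fun X => (⟨B X, hB X⟩ : P.FullSubcategory))
      (fun X Y => Equiv.ofBijective _ (hbij X Y))
      (fun X Y Y' a b => (Category.assoc _ _ _).symm)⟩⟩

end Groth.Agent.DerLib.OrthDecomp
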