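/-
Essentially constant inverse systems in triangulated categories.
-/
import Groth.Prelude.Def_DerCA

universe v u

open CategoryTheory Limits Pretriangulated
open Opposite (op unop)

namespace Groth.Agent.DerLib.ProConst

variable {D : Type u} [Category.{v} D]

theorem tr_tr (X : ARSys.PS D) {a b c : ℕ} (h₁ : a ≤ b) (h₂ : b ≤ c) :
    ARSys.tr X h₂ ≫ ARSys.tr X h₁ = ARSys.tr X (h₁.trans h₂) := by
  rw [← X.map_comp]; rfl

@[simp]
theorem tr_refl (X : ARSys.PS D) {a : ℕ} (h : a ≤ a) : ARSys.tr X h = 𝟙 _ :=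
  X.map_id _

theorem tr_app {X Y : ARSys.PS D} (f : X ⟶ Y) {n m : ℕ} (h : n ≤ m) :
    ARSys.tr X h ≫ f.app (op n) = f.app (op m) ≫ ARSys.tr Y h :=
  f.naturality _

/-- A component of a cone, with its domain spelled `A`. -/
abbrev comp' {X : ARSys.PS D} {A : D} (c : (Functor.const ℕᵒᵖ).obj A ⟶ X) (n : ℕ) :
    A ⟶ X.obj (op n) := c.app (op n)

theorem cone_tr {X : ARSys.PS D} {A : D} (c : (Functor.const ℕᵒᵖ).obj A ⟶ X) {n m : ℕ}
    (h : n ≤ m) : comp' c m ≫ ARSys.tr X h = comp' c n :=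
  (c.naturality (homOfLE h).op).symm.trans (Category.id_comp _)

theorem tr_shift [HasShift D ℤ] (X : ARSys.PS D) {n m : ℕ} (h : n ≤ m) (r : ℤ) :
    ARSys.tr (X ⋙ shiftFunctor D r) h = (ARSys.tr X h)⟦r⟧' := rfl

variable [Preadditive D] [HasZeroObject D] [HasShift D ℤ]
  [∀ n : ℤ, (shiftFunctor D n).Additive] [Pretriangulated D]

theorem exists_splitting {A X : D} (c : A ⟶ X) (r : X ⟶ A) (h : c ≫ r = 𝟙 A) :
    ∃ (Z : D) (e : X ≅ A ⊞ Z), c ≫ e.hom = biprod.inl ∧ e.hom ≫ biprod.fst = r := by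
  obtain ⟨Z, g, w, hT⟩ := distinguished_cocone_triangle c
  have : IsSplitMono c := ⟨⟨⟨r, h⟩⟩⟩
  have hw : w = 0 := Triangle.mor₃_eq_zero_of_mono₁ _ hT (inferInstanceAs (Mono c))
  obtain ⟨σ, hσ⟩ : ∃ σ : Z ⟶ X, 𝟙 Z = σ ≫ g :=
    Triangle.coyoneda_exact₃ _ hT (𝟙 Z) ((Category.id_comp _).trans hw)
  have hcg : c ≫ g = 0 := comp_distTriang_mor_zero₁₂ _ hT
  have hid : r ≫ c + g ≫ (σ - σ ≫ r ≫ c) = 𝟙 X := by
    obtain ⟨x, hx⟩ : ∃ x : X ⟶ A, r ≫ c + g ≫ (σ - σ ≫ r ≫ c) - 𝟙 X = x ≫ c :=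
      Triangle.coyoneda_exact₂ _ hT _ (by
        change (r ≫ c + g ≫ (σ - σ ≫ r ≫ c) - 𝟙 X) ≫ g = 0
        simp only [Preadditive.sub_comp, Preadditive.add_comp, Category.assoc, hcg, ← hσ,
          comp_zero, sub_zero, Category.comp_id, Category.id_comp, zero_add, sub_self])
    have := congrArg (· ≫ r) hx
    simp only [Preadditive.sub_comp, Preadditive.comp_sub, Preadditive.add_comp, Category.assoc, h,
      Category.comp_id, Category.id_comp, sub_self, add_zero, comp_zero] at this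
    rw [← sub_eq_zero, hx, ← this, zero_comp]
  let e : X ≅ A ⊞ Z := Iso.mk (biprod.lift r g) (biprod.desc c (σ - σ ≫ r ≫ c))
    ((biprod.lift_desc (X := A) (Y := Z) ..).trans hid)
    (by apply biprod.hom_ext' <;> apply biprod.hom_ext <;> simp [h, hcg, ← hσ])
  refine ⟨Z, e, ?_, biprod.lift_fst _ _⟩
  change c ≫ biprod.lift r g = biprod.inl
  apply biprod.hom_ext <;> simp [h, hcg]

theorem exists_decomposition (X : ARSys.PS D) (A : D) (c : (Functor.const ℕᵒᵖ).obj A ⟶ X)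
    (hX : DerCA.IsEssConstant X A c) :
    ∃ (i : ℕ) (Z : ℕ → D) (e : ∀ j : ℕ, X.obj (op (i + j)) ≅ A ⊞ Z j)
      (z : ∀ j k : ℕ, j ≤ k → (Z k ⟶ Z j)),
      (∀ j : ℕ, c.app (op (i + j)) ≫ (e j).hom = biprod.inl) ∧
      (∀ (j k : ℕ) (hjk : j ≤ k), (e k).inv ≫ ARSys.tr X (Nat.add_le_add_left hjk i) =
        biprod.map (𝟙 A) (z j k hjk) ≫ (e j).inv) ∧
      (∀ j : ℕ, ∃ (k : ℕ) (hjk : j ≤ k), z j k hjk = 0) := by
  obtain ⟨i, s, hs', hfac'⟩ := hX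
  have hs : comp' c i ≫ s = 𝟙 A := hs'
  have hfac : ∀ j, ∃ (k : ℕ) (hi : i ≤ k) (hj : j ≤ k),
      ARSys.tr X hj = ARSys.tr X hi ≫ s ≫ comp' c j := hfac'
  let r : ∀ j, X.obj (op (i + j)) ⟶ A := fun j => ARSys.tr X (Nat.le_add_right i j) ≫ s
  have hr : ∀ j, comp' c (i + j) ≫ r j = 𝟙 A := fun j =>
    (Category.assoc _ _ _).symm.trans ((congrArg (· ≫ s) (cone_tr c (Nat.le_add_right i j))).trans hs)
  choose Z e he₁ he₂ using fun j => exists_splitting (comp' c (i + j)) (r j) (hr j)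
  have hinl : ∀ j, biprod.inl ≫ (e j).inv = comp' c (i + j) := fun j => by
    rw [← he₁, Category.assoc, Iso.hom_inv_id, Category.comp_id]
  have hinr : ∀ j, (biprod.inr : Z j ⟶ A ⊞ Z j) ≫ (e j).inv ≫ r j = 0 := fun j => by
    rw [← he₂, Iso.inv_hom_id_assoc, biprod.inr_fst]
  let z : ∀ j k : ℕ, j ≤ k → (Z k ⟶ Z j) := fun j k hjk =>
    biprod.inr ≫ (e k).inv ≫ ARSys.tr X (Nat.add_le_add_left hjk i) ≫ (e j).hom ≫ biprod.snd
  refine ⟨i, Z, e, z, he₁, fun j k hjk => ?_, fun j => ?_⟩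
  · have hrk : ARSys.tr X (Nat.add_le_add_left hjk i) ≫ r j = r k := by
      change _ ≫ _ ≫ s = _ ≫ s
      rw [← Category.assoc, tr_tr]
    rw [← cancel_mono (e j).hom, Category.assoc, Category.assoc, Iso.inv_hom_id, Category.comp_id]
    apply biprod.hom_ext'
    · rw [biprod.inl_map, Category.id_comp, ← Category.assoc, hinl, ← Category.assoc, cone_tr, he₁]
    · rw [biprod.inr_map]
      apply biprod.hom_ext
      · simp only [Category.assoc, biprod.inr_fst, comp_zero, he₂, hrk, hinr]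
      · simp [z]
  · obtain ⟨k, hi, hj, hk⟩ := hfac (i + j)
    refine ⟨max j (k - i), le_max_left _ _, ?_⟩
    have hle : k ≤ i + max j (k - i) := by omega
    have heq : ARSys.tr X (Nat.add_le_add_left (le_max_left j (k - i)) i) =
        r (max j (k - i)) ≫ comp' c (i + j) := by
      rw [← tr_tr X hj hle, hk, ← Category.assoc, tr_tr, ← Category.assoc]
    change biprod.inr ≫ (e _).inv ≫ _ ≫ (e j).hom ≫ biprod.snd = 0
    rw [heq, Category.assoc, reassoc_of% hinr, zero_comp]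

theorem exists_isEssConstant_of_triangle
    (X Y Z : ARSys.PS D) (f : X ⟶ Y) (g : Y ⟶ Z) (h : Z ⟶ X ⋙ shiftFunctor D (1 : ℤ))
    (hT : ∀ n : ℕ, Triangle.mk (f.app (op n)) (g.app (op n)) (h.app (op n)) ∈ distinguishedTriangles)
    (A : D) (cA : (Functor.const ℕᵒᵖ).obj A ⟶ X) (hA : DerCA.IsEssConstant X A cA)
    (C : D) (cC : (Functor.const ℕᵒᵖ).obj C ⟶ Z) (hC : DerCA.IsEssConstant Z C cC) :
    ∃ (B : D) (cB : (Functor.const ℕᵒᵖ).obj B ⟶ Y), DerCA.IsEssConstant Y B cB := by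
  obtain ⟨iA, sA, hsA', hfA'⟩ := hA
  obtain ⟨iC, sC, hsC', hfC'⟩ := hC
  have hsA : comp' cA iA ≫ sA = 𝟙 A := hsA'
  have hsC : comp' cC iC ≫ sC = 𝟙 C := hsC'
  have hfA : ∀ j, ∃ (k : ℕ) (hi : iA ≤ k) (hj : j ≤ k),
      ARSys.tr X hj = ARSys.tr X hi ≫ sA ≫ comp' cA j := hfA'
  have hfC : ∀ j, ∃ (k : ℕ) (hi : iC ≤ k) (hj : j ≤ k),
      ARSys.tr Z hj = ARSys.tr Z hi ≫ sC ≫ comp' cC j := hfC'
  have hA' : ∀ {k}, (hi : iA ≤ k) → comp' cA k ≫ ARSys.tr X hi ≫ sA = 𝟙 A := fun hi =>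
    (Category.assoc _ _ _).symm.trans ((congrArg (· ≫ sA) (cone_tr cA hi)).trans hsA)
  have hC' : ∀ {k}, (hi : iC ≤ k) → comp' cC k ≫ ARSys.tr Z hi ≫ sC = 𝟙 C := fun hi =>
    (Category.assoc _ _ _).symm.trans ((congrArg (· ≫ sC) (cone_tr cC hi)).trans hsC)
  -- the connecting map
  let δ : C ⟶ A⟦(1 : ℤ)⟧ := comp' cC iA ≫ h.app (op iA) ≫ sA⟦(1 : ℤ)⟧'
  obtain ⟨k₀, hk₀C, hk₀A, hk₀⟩ := hfC iA
  have hδ : h.app (op k₀) ≫ (ARSys.tr X hk₀A ≫ sA)⟦(1 : ℤ)⟧' = (ARSys.tr Z hk₀C ≫ sC) ≫ δ := by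
    calc h.app (op k₀) ≫ (ARSys.tr X hk₀A ≫ sA)⟦(1 : ℤ)⟧'
        = (h.app (op k₀) ≫ ARSys.tr (X ⋙ shiftFunctor D (1 : ℤ)) hk₀A) ≫ sA⟦(1 : ℤ)⟧' := by
          rw [tr_shift, CategoryTheory.Functor.map_comp]; exact (Category.assoc _ _ _).symm
      _ = (ARSys.tr Z hk₀A ≫ h.app (op iA)) ≫ sA⟦(1 : ℤ)⟧' := by rw [tr_app]
      _ = _ := by rw [hk₀]; simp only [δ, Category.assoc]
  obtain ⟨B, a, b, hB⟩ := distinguished_cocone_triangle₂ δ
  obtain ⟨σ, hσ₁, hσ₂⟩ : ∃ σ : Y.obj (op k₀) ⟶ B,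
      f.app (op k₀) ≫ σ = (ARSys.tr X hk₀A ≫ sA) ≫ a ∧
      g.app (op k₀) ≫ ARSys.tr Z hk₀C ≫ sC = σ ≫ b :=
    complete_distinguished_triangle_morphism₂
      (Triangle.mk (f.app (op k₀)) (g.app (op k₀)) (h.app (op k₀))) (Triangle.mk a b δ) (hT k₀) hB
      (ARSys.tr X hk₀A ≫ sA) (ARSys.tr Z hk₀C ≫ sC) hδ
  -- `a ≫ -` detects
  have hinjA : ∀ {W : D} {k} (hk : k₀ ≤ k) (α : A ⟶ W),
      (ARSys.tr X (hk₀A.trans hk) ≫ sA) ≫ α = 0 → α = 0 := fun hk α hα => by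
    rw [← Category.id_comp α, ← hA' (hk₀A.trans hk), Category.assoc, hα, comp_zero]
  have hf' : ∀ {k} (hk : k₀ ≤ k), f.app (op k) ≫ ARSys.tr Y hk ≫ σ =
      (ARSys.tr X (hk₀A.trans hk) ≫ sA) ≫ a := fun hk => by
    rw [← Category.assoc, ← tr_app, Category.assoc, hσ₁, ← Category.assoc, ← Category.assoc, tr_tr]
  have hg' : ∀ {k} (hk : k₀ ≤ k), g.app (op k) ≫ ARSys.tr Z (hk₀C.trans hk) ≫ sC =
      (ARSys.tr Y hk ≫ σ) ≫ b := fun hk => by
    rw [Category.assoc, ← hσ₂, ← tr_tr Z hk₀C hk, ← Category.assoc (ARSys.tr Y hk), tr_app]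
    simp only [Category.assoc]
  have hh' : ∀ {k} (hk : k₀ ≤ k), (ARSys.tr Z (hk₀C.trans hk) ≫ sC) ≫ δ =
      h.app (op k) ≫ (ARSys.tr X (hk₀A.trans hk) ≫ sA)⟦(1 : ℤ)⟧' := fun hk => by
    rw [← tr_tr Z hk₀C hk, Category.assoc, Category.assoc, ← Category.assoc (ARSys.tr Z hk₀C),
      ← hδ, ← Category.assoc, tr_app, tr_shift, Category.assoc]
    refine congrArg (h.app (op _) ≫ ·) ?_
    refine ((shiftFunctor D (1 : ℤ)).map_comp _ _).symm.trans (congrArg _ ?_)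
    rw [← Category.assoc, tr_tr]
  -- injectivity
  have inj : ∀ {W : D} {k} (hk : k₀ ≤ k) (β : B ⟶ W), (ARSys.tr Y hk ≫ σ) ≫ β = 0 → β = 0 := by
    intro W k hk β hβ
    have h₁ : a ≫ β = 0 := hinjA hk _ (by
      rw [← Category.assoc, ← hf' hk, Category.assoc, hβ, comp_zero])
    obtain ⟨γ, hγ⟩ : ∃ γ : C ⟶ W, β = b ≫ γ := Triangle.yoneda_exact₂ _ hB β h₁
    obtain ⟨v, hv⟩ : ∃ v : (X.obj (op k))⟦(1 : ℤ)⟧ ⟶ W,
        (ARSys.tr Z (hk₀C.trans hk) ≫ sC) ≫ γ = h.app (op k) ≫ v :=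
      Triangle.yoneda_exact₃ _ (hT k) _ (by
        change g.app (op k) ≫ (ARSys.tr Z (hk₀C.trans hk) ≫ sC) ≫ γ = 0
        rw [← Category.assoc, hg' hk, Category.assoc, ← hγ, hβ])
    obtain ⟨l, hlA, hlk, hl⟩ := hfA k
    obtain ⟨m, hlm, hkm⟩ : ∃ m, l ≤ m ∧ k ≤ m := ⟨max l k, le_max_left _ _, le_max_right _ _⟩
    have e₁ : ARSys.tr X hkm = (ARSys.tr X (hlA.trans hlm) ≫ sA) ≫ comp' cA k := by
      rw [← tr_tr X hlk hlm, hl, ← Category.assoc, tr_tr, Category.assoc]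
    have e₂ : (ARSys.tr Z (hk₀C.trans (hk.trans hkm)) ≫ sC) ≫ γ =
        (ARSys.tr Z (hk₀C.trans (hk.trans hkm)) ≫ sC) ≫ δ ≫ (comp' cA k)⟦(1 : ℤ)⟧' ≫ v := by
      calc (ARSys.tr Z (hk₀C.trans (hk.trans hkm)) ≫ sC) ≫ γ
          = ARSys.tr Z hkm ≫ (ARSys.tr Z (hk₀C.trans hk) ≫ sC) ≫ γ := by
            rw [← Category.assoc, ← Category.assoc (ARSys.tr Z hkm), tr_tr]
        _ = (h.app (op m) ≫ ARSys.tr (X ⋙ shiftFunctor D (1 : ℤ)) hkm) ≫ v := by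
            rw [hv, ← Category.assoc, tr_app]
        _ = (h.app (op m) ≫ ((ARSys.tr X (hlA.trans hlm) ≫ sA) ≫ comp' cA k)⟦(1 : ℤ)⟧') ≫ v := by
            rw [tr_shift, e₁]
        _ = ((ARSys.tr Z (hk₀C.trans (hk.trans hkm)) ≫ sC) ≫ δ) ≫ (comp' cA k)⟦(1 : ℤ)⟧' ≫ v := by
            rw [hh' (hk.trans hkm), CategoryTheory.Functor.map_comp]
            exact ((congrArg (· ≫ v) (Category.assoc _ _ _).symm)).trans (Category.assoc _ _ _)
        _ = _ := Category.assoc _ _ _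
    have e₃ : γ = δ ≫ (comp' cA k)⟦(1 : ℤ)⟧' ≫ v := by
      have := congrArg (comp' cC m ≫ ·) e₂
      simpa only [← Category.assoc, hC' (hk₀C.trans (hk.trans hkm)), Category.id_comp] using
        ((Category.assoc _ _ _).trans this).trans (Category.assoc _ _ _).symm
    have hbδ : b ≫ δ = 0 := comp_distTriang_mor_zero₂₃ _ hB
    rw [hγ, e₃, reassoc_of% hbδ, zero_comp]
  -- surjectivity
  have surj : ∀ {W : D} {k} (hk : k₀ ≤ k) (y : Y.obj (op k) ⟶ W),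
      ∃ (β : B ⟶ W) (m : ℕ) (hm : k ≤ m),
        ARSys.tr Y hm ≫ y = (ARSys.tr Y (hk.trans hm) ≫ σ) ≫ β := by
    intro W k hk y
    obtain ⟨l, hlA, hlk, hl⟩ := hfA k
    obtain ⟨m, hlm, hkm⟩ : ∃ m, l ≤ m ∧ k ≤ m := ⟨max l k, le_max_left _ _, le_max_right _ _⟩
    let α : A ⟶ W := comp' cA k ≫ f.app (op k) ≫ y
    have e₁ : f.app (op m) ≫ ARSys.tr Y hkm ≫ y =
        (ARSys.tr X (hk₀A.trans (hk.trans hkm)) ≫ sA) ≫ α := by
      rw [← Category.assoc, ← tr_app, ← tr_tr X hlk hlm, hl, ← Category.assoc (ARSys.tr X hlm),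
        tr_tr]
      simp only [α, Category.assoc]
    have e₂ : δ ≫ α⟦(1 : ℤ)⟧' = 0 := by
      have h₀ : h.app (op m) ≫ (f.app (op m))⟦(1 : ℤ)⟧' = 0 :=
        comp_distTriang_mor_zero₃₁ _ (hT m)
      have h₁ : ((ARSys.tr Z (hk₀C.trans (hk.trans hkm)) ≫ sC) ≫ δ) ≫ α⟦(1 : ℤ)⟧' = 0 := by
        rw [hh' (hk.trans hkm), Category.assoc, ← CategoryTheory.Functor.map_comp, ← e₁,
          CategoryTheory.Functor.map_comp]
        exact ((Category.assoc _ _ _).symm.trans (congrArg (· ≫ _) h₀)).trans zero_comp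
      have := congrArg (comp' cC m ≫ ·) h₁
      simpa only [← Category.assoc, hC' (hk₀C.trans (hk.trans hkm)), Category.id_comp, comp_zero]
        using this
    obtain ⟨β, hβ⟩ : ∃ β : B ⟶ W, α = a ≫ β := by
      obtain ⟨β', hβ'⟩ : ∃ β' : B⟦(1 : ℤ)⟧ ⟶ W⟦(1 : ℤ)⟧, α⟦(1 : ℤ)⟧' = (-a⟦(1 : ℤ)⟧') ≫ β' :=
        Triangle.yoneda_exact₂ _ (rot_of_distTriang _ (rot_of_distTriang _ hB)) _ e₂
      obtain ⟨β, rfl⟩ := (shiftFunctor D (1 : ℤ)).map_surjective β'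
      refine ⟨-β, (shiftFunctor D (1 : ℤ)).map_injective ?_⟩
      rw [hβ', Preadditive.comp_neg, CategoryTheory.Functor.map_neg, CategoryTheory.Functor.map_comp,
        Preadditive.neg_comp]
    obtain ⟨z, hz⟩ : ∃ z : Z.obj (op m) ⟶ W,
        ARSys.tr Y hkm ≫ y - (ARSys.tr Y (hk.trans hkm) ≫ σ) ≫ β = g.app (op m) ≫ z :=
      Triangle.yoneda_exact₂ _ (hT m) _ (by
        change f.app (op m) ≫ (_ - _) = 0
        rw [Preadditive.comp_sub, e₁, ← Category.assoc _ _ β, hf' (hk.trans hkm), hβ]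
        simp only [Category.assoc, sub_self])
    obtain ⟨p, hpC, hpm, hp⟩ := hfC m
    refine ⟨β + b ≫ comp' cC m ≫ z, max p m, hkm.trans (le_max_right _ _), ?_⟩
    have e₃ : ARSys.tr Y (le_max_right p m) ≫ g.app (op m) ≫ z =
        (ARSys.tr Y ((hk.trans hkm).trans (le_max_right p m)) ≫ σ) ≫ b ≫ comp' cC m ≫ z := by
      rw [← Category.assoc, tr_app, Category.assoc, ← tr_tr Z hpm (le_max_left p m), hp,
        ← Category.assoc (ARSys.tr Z (le_max_left p m)), tr_tr,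
        ← Category.assoc (ARSys.tr Z (hpC.trans (le_max_left p m))) sC, Category.assoc (ARSys.tr Z _ ≫ sC),
        ← Category.assoc (g.app _), hg' ((hk.trans hkm).trans (le_max_right p m))]
      simp only [Category.assoc]
    rw [Preadditive.comp_add, ← e₃, ← hz, Preadditive.comp_sub, ← Category.assoc (ARSys.tr Y _)
      (ARSys.tr Y hkm), tr_tr]
    simp only [← Category.assoc, tr_tr]
    abel
  -- the cone
  have hcone : ∀ n : ℕ, ∃ c : B ⟶ Y.obj (op n), ∃ (m : ℕ) (hm : k₀ ≤ m) (hn : n ≤ m),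
      ARSys.tr Y hn = (ARSys.tr Y hm ≫ σ) ≫ c := fun n => by
    obtain ⟨β, m, hm, hmβ⟩ := surj (le_max_left k₀ n) (ARSys.tr Y (le_max_right k₀ n))
    exact ⟨β, m, (le_max_left k₀ n).trans hm, (le_max_right k₀ n).trans hm,
      by rw [← hmβ, tr_tr]⟩
  choose c m hm hn hc using hcone
  have hc' : ∀ (n : ℕ) {l} (hl : m n ≤ l),
      ARSys.tr Y ((hn n).trans hl) = (ARSys.tr Y ((hm n).trans hl) ≫ σ) ≫ c n := fun n l hl => by
    rw [← tr_tr Y (hn n) hl, hc n, ← Category.assoc, ← Category.assoc, tr_tr]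
  have hnat : ∀ (p q : ℕ) (hpq : p ≤ q), c q ≫ ARSys.tr Y hpq = c p := by
    intro p q hpq
    rw [← sub_eq_zero]
    apply inj ((hm q).trans (le_max_left (m q) (m p)))
    rw [Preadditive.comp_sub, sub_eq_zero, ← Category.assoc, ← hc' q (le_max_left _ _), tr_tr,
      ← hc' p (le_max_right _ _)]
  refine ⟨B, { app := fun n => c n.unop
               naturality := fun p q u => (Category.id_comp _).trans
                 (hnat q.unop p.unop (leOfHom u.unop)).symm }, k₀, σ, ?_, fun j => ?_⟩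
  · change c k₀ ≫ σ = 𝟙 B
    rw [← sub_eq_zero]
    apply inj (hm k₀)
    rw [Preadditive.comp_sub, Category.comp_id, sub_eq_zero, ← Category.assoc, ← hc k₀]
  · exact ⟨m j, hm j, hn j, (hc j).trans (Category.assoc _ _ _)⟩

end Groth.Agent.DerLib.ProConst
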