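/-
Inverse systems in the derived category: detecting essential constancy and pro-isomorphisms on
cohomology.
-/
import Groth.Agent.DerLib.Ghost
import Groth.Agent.DerLib.ProConst

universe w v u

open CategoryTheory Limits Pretriangulated DerivedCategory
open Opposite (op unop)
open Groth.Agent.DerLib.ProConst

namespace Groth.Agent.DerLib.ProHomology

section FiveLemma

variable {D : Type u} [Category.{v} D] [Preadditive D] [HasZeroObject D] [HasShift D ℤ]
  [∀ n : ℤ, (shiftFunctor D n).Additive] [Pretriangulated D]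

theorem isProIso_middle {X₁ X₂ X₃ Y₁ Y₂ Y₃ : ARSys.PS D}
    (f : X₁ ⟶ X₂) (g : X₂ ⟶ X₃) (h : X₃ ⟶ X₁ ⋙ shiftFunctor D (1 : ℤ))
    (hX : ∀ n : ℕ, Triangle.mk (f.app (op n)) (g.app (op n)) (h.app (op n)) ∈ distinguishedTriangles)
    (f' : Y₁ ⟶ Y₂) (g' : Y₂ ⟶ Y₃) (h' : Y₃ ⟶ Y₁ ⋙ shiftFunctor D (1 : ℤ))
    (hY : ∀ n : ℕ, Triangle.mk (f'.app (op n)) (g'.app (op n)) (h'.app (op n)) ∈ distinguishedTriangles)
    (a₁ : X₁ ⟶ Y₁) (a₂ : X₂ ⟶ Y₂) (a₃ : X₃ ⟶ Y₃)
    (c₁ : ∀ n, f.app (op n) ≫ a₂.app (op n) = a₁.app (op n) ≫ f'.app (op n))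
    (c₂ : ∀ n, g.app (op n) ≫ a₃.app (op n) = a₂.app (op n) ≫ g'.app (op n))
    (c₃ : ∀ n, h.app (op n) ≫ (a₁.app (op n))⟦(1 : ℤ)⟧' = a₃.app (op n) ≫ h'.app (op n))
    (h₁ : DerCA.IsProIso a₁) (h₃ : DerCA.IsProIso a₃) : DerCA.IsProIso a₂ := by
  -- morphisms killed by `a₂` are eventually killed by the transition maps
  have mono : ∀ n : ℕ, ∃ (k : ℕ) (hk : n ≤ k), ∀ {W : D} (e : W ⟶ X₂.obj (op k)),
      e ≫ a₂.app (op k) = 0 → e ≫ ARSys.tr X₂ hk = 0 := by
    intro n
    obtain ⟨p, hp, b₁, hb₁, -⟩ := h₁ n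
    obtain ⟨q, hq, b₃, hb₃, hb₃'⟩ := h₃ p
    obtain ⟨k, hk, c₃', hc₃, -⟩ := h₃ q
    refine ⟨k, (hp.trans hq).trans hk, fun {W} e he => ?_⟩
    have e₁ : (e ≫ ARSys.tr X₂ hk) ≫ g.app (op q) = 0 := by
      rw [Category.assoc, tr_app, ← hc₃, ← Category.assoc, ← Category.assoc, Category.assoc e, c₂,
        ← Category.assoc, he, zero_comp, zero_comp]
    obtain ⟨x, hx⟩ : ∃ x : W ⟶ X₁.obj (op q), e ≫ ARSys.tr X₂ hk = x ≫ f.app (op q) :=
      Triangle.coyoneda_exact₂ _ (hX q) _ e₁
    obtain ⟨z, hz⟩ : ∃ z : W⟦(1 : ℤ)⟧ ⟶ Y₃.obj (op q),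
        (x ≫ a₁.app (op q))⟦(1 : ℤ)⟧' = z ≫ h'.app (op q) := by
      refine Triangle.coyoneda_exact₁ _ (hY q) _ ?_
      change (x ≫ a₁.app (op q))⟦(1 : ℤ)⟧' ≫ (f'.app (op q))⟦(1 : ℤ)⟧' = 0
      rw [← CategoryTheory.Functor.map_comp, Category.assoc, ← c₁, ← Category.assoc, ← hx,
        Category.assoc, ← Category.assoc e, Category.assoc e, tr_app, ← Category.assoc, he,
        zero_comp, CategoryTheory.Functor.map_zero]
    have hy : (x⟦(1 : ℤ)⟧' ≫ (ARSys.tr X₁ hq)⟦(1 : ℤ)⟧' -
        (z ≫ b₃ ≫ h.app (op p) : W⟦(1 : ℤ)⟧ ⟶ (X₁.obj (op p))⟦(1 : ℤ)⟧)) ≫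
        (a₁.app (op p))⟦(1 : ℤ)⟧' = 0 := by
      rw [Preadditive.sub_comp, Category.assoc, ← CategoryTheory.Functor.map_comp, tr_app,
        CategoryTheory.Functor.map_comp, ← Category.assoc, ← (shiftFunctor D (1 : ℤ)).map_comp x, hz,
        Category.assoc z (b₃ ≫ h.app (op p)), Category.assoc b₃, c₃, ← Category.assoc b₃, hb₃',
        tr_app, tr_shift, Category.assoc, sub_self]
    have hy' := congrArg (· ≫ b₁⟦(1 : ℤ)⟧') hy
    simp only [Category.assoc, zero_comp, ← CategoryTheory.Functor.map_comp, hb₁] at hy'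
    rw [(shiftFunctor D (1 : ℤ)).map_comp x (ARSys.tr X₁ hq)] at hy'
    rw [← Functor.map_eq_zero_iff (shiftFunctor D (1 : ℤ)), ← tr_tr X₂ (hp.trans hq) hk,
      ← Category.assoc, hx, Category.assoc, ← tr_app, ← Category.assoc,
      CategoryTheory.Functor.map_comp, CategoryTheory.Functor.map_comp, ← tr_tr X₁ hp hq,
      CategoryTheory.Functor.map_comp (shiftFunctor D (1 : ℤ)) (ARSys.tr X₁ hq) (ARSys.tr X₁ hp),
      ← Category.assoc (x⟦(1 : ℤ)⟧'), ← sub_add_cancel (x⟦(1 : ℤ)⟧' ≫ (ARSys.tr X₁ hq)⟦(1 : ℤ)⟧')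
        (z ≫ b₃ ≫ h.app (op p)), Preadditive.add_comp, hy', zero_add, Category.assoc z,
      Category.assoc b₃, ← tr_shift X₁ hp (1 : ℤ), ← tr_app, Category.assoc z, Category.assoc b₃,
      Category.assoc (ARSys.tr X₃ hp)]
    have h31 : h.app (op n) ≫ (f.app (op n))⟦(1 : ℤ)⟧' = 0 := comp_distTriang_mor_zero₃₁ _ (hX n)
    exact (congrArg (fun t => z ≫ b₃ ≫ ARSys.tr X₃ hp ≫ t) h31).trans
      ((congrArg (fun t => z ≫ b₃ ≫ t) comp_zero).trans
        ((congrArg (z ≫ ·) comp_zero).trans comp_zero))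
  intro n
  obtain ⟨k, hk, hkill⟩ := mono n
  obtain ⟨i, hi, b₁, hb₁, hb₁'⟩ := h₁ k
  obtain ⟨p, hp, b₁', hb₁p, -⟩ := h₁ i
  obtain ⟨m, hm, b₃, -, hb₃'⟩ := h₃ p
  obtain ⟨u, hu⟩ : ∃ u : Y₂.obj (op m) ⟶ X₂.obj (op i),
      g'.app (op m) ≫ b₃ ≫ ARSys.tr X₃ hp = u ≫ g.app (op i) := by
    refine Triangle.coyoneda_exact₃ _ (hX i) _ ?_
    change (g'.app (op m) ≫ b₃ ≫ ARSys.tr X₃ hp) ≫ h.app (op i) = 0
    have e₀ : (g'.app (op m) ≫ b₃ ≫ h.app (op p)) ≫ (a₁.app (op p))⟦(1 : ℤ)⟧' = 0 := by
      have h0 : g'.app (op m) ≫ h'.app (op m) = 0 := comp_distTriang_mor_zero₂₃ _ (hY m)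
      rw [Category.assoc, Category.assoc, c₃, ← Category.assoc b₃, hb₃', tr_app, tr_shift,
        ← Category.assoc, h0, zero_comp]
    have e₁ := congrArg (· ≫ b₁'⟦(1 : ℤ)⟧') e₀
    simp only [Category.assoc, zero_comp, ← CategoryTheory.Functor.map_comp, hb₁p] at e₁
    rw [Category.assoc, Category.assoc, tr_app, tr_shift]
    exact e₁
  obtain ⟨v, hv⟩ : ∃ v : Y₂.obj (op m) ⟶ Y₁.obj (op i),
      ARSys.tr Y₂ (hp.trans hm) - u ≫ a₂.app (op i) = v ≫ f'.app (op i) := by
    refine Triangle.coyoneda_exact₂ _ (hY i) _ ?_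
    change (ARSys.tr Y₂ (hp.trans hm) - u ≫ a₂.app (op i)) ≫ g'.app (op i) = 0
    rw [Preadditive.sub_comp, Category.assoc, ← c₂, ← Category.assoc u, ← hu, tr_app,
      Category.assoc, Category.assoc, tr_app, ← Category.assoc b₃, hb₃', tr_tr, sub_self]
  let b : Y₂.obj (op m) ⟶ X₂.obj (op k) := u ≫ ARSys.tr X₂ hi + v ≫ b₁ ≫ f.app (op k)
  have hb : b ≫ a₂.app (op k) = ARSys.tr Y₂ ((hi.trans hp).trans hm) := by
    simp only [b, Preadditive.add_comp, Category.assoc, c₁, tr_app]
    rw [← Category.assoc b₁, hb₁', tr_app, ← Category.assoc v, ← hv, Preadditive.sub_comp,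
      tr_tr, Category.assoc]
    abel
  refine ⟨m, ((hk.trans hi).trans hp).trans hm, b ≫ ARSys.tr X₂ hk, ?_, ?_⟩
  · rw [← tr_tr X₂ hk ((hi.trans hp).trans hm), ← sub_eq_zero, ← Category.assoc,
      ← Preadditive.sub_comp]
    apply hkill
    rw [Preadditive.sub_comp, Category.assoc, hb, tr_app, sub_self]
  · rw [Category.assoc, tr_app, ← Category.assoc, hb, tr_tr]

end FiveLemma

section Derived

variable {A : Type u} [Category.{v} A] [Abelian A] [HasDerivedCategory.{w} A]

theorem eq_of_homologyMap_eq {U V : DerivedCategory A} (m : ℤ) [U.IsLE m] [V.IsGE m] (f g : U ⟶ V)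
    (h : (homologyFunctor A m).map f = (homologyFunctor A m).map g) : f = g := by
  have : (homologyFunctor A m).Additive := Functor.additive_of_preserves_binary_products _
  exact sub_eq_zero.1 (Ghost.eq_zero_of_homologyMap_eq_zero m _
    (by rw [Functor.map_sub, h, sub_self]))

theorem exists_homologyMap_eq {U V : DerivedCategory A} (m : ℤ) [U.IsLE m] [U.IsGE m] [V.IsLE m]
    [V.IsGE m] (φ : (homologyFunctor A m).obj U ⟶ (homologyFunctor A m).obj V) :
    ∃ f : U ⟶ V, (homologyFunctor A m).map f = φ := by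
  obtain ⟨P, ⟨e⟩⟩ := exists_iso_singleFunctor_obj_of_isGE_of_isLE U m
  obtain ⟨R, ⟨e'⟩⟩ := exists_iso_singleFunctor_obj_of_isGE_of_isLE V m
  let F := singleFunctorCompHomologyFunctorIso A m
  let ψ : P ⟶ R := F.inv.app P ≫ (homologyFunctor A m).map e.inv ≫ φ ≫
    (homologyFunctor A m).map e'.hom ≫ F.hom.app R
  refine ⟨e.hom ≫ (singleFunctor A m).map ψ ≫ e'.inv, ?_⟩
  have h : (homologyFunctor A m).map ((singleFunctor A m).map ψ) =
      F.hom.app P ≫ ψ ≫ F.inv.app R := by
    rw [← cancel_mono (F.hom.app R)]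
    simp only [Category.assoc, Iso.inv_hom_id_app]
    exact (F.hom.naturality ψ).trans (congrArg (F.hom.app P ≫ ·) (Category.comp_id ψ).symm)
  rw [Functor.map_comp, Functor.map_comp, h]
  simp [ψ, ← Functor.map_comp, ← Functor.map_comp_assoc]

/-- The amplitude condition. -/
abbrev InRange (X : ARSys.PS (DerivedCategory A)) (a b : ℤ) : Prop :=
  ∀ (n : ℕ) (i : ℤ), i < a ∨ b < i → IsZero ((homologyFunctor A i).obj (X.obj (op n)))

theorem isLE_of_inRange {X : ARSys.PS (DerivedCategory A)} {a b : ℤ} (h : InRange X a b) (n : ℕ) :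
    (X.obj (op n)).IsLE b := (isLE_iff _ _).2 fun i hi => h n i (Or.inr hi)

theorem isGE_of_inRange {X : ARSys.PS (DerivedCategory A)} {a b : ℤ} (h : InRange X a b) (n : ℕ) :
    (X.obj (op n)).IsGE a := (isGE_iff _ _).2 fun i hi => h n i (Or.inl hi)

local notation "tt" => DerivedCategory.TStructure.t

theorem inRange_LT {X : ARSys.PS (DerivedCategory A)} {a b : ℤ} (h : InRange X a b) :
    InRange (X ⋙ Triangulated.TStructure.truncLT tt b) a (b - 1) := by
  intro n i hi
  rcases hi with hi | hi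
  · have := isGE_of_inRange h n
    have : ((Triangulated.TStructure.truncLT tt b).obj (X.obj (op n))).IsGE a :=
      inferInstanceAs (Triangulated.TStructure.IsGE tt _ a)
    exact isZero_of_isGE ((Triangulated.TStructure.truncLT tt b).obj (X.obj (op n))) a i hi
  · have : ((Triangulated.TStructure.truncLT tt b).obj (X.obj (op n))).IsLE (b - 1) :=
      Triangulated.TStructure.isLE_truncLT_obj tt _ b (b - 1) (by lia)
    exact isZero_of_isLE ((Triangulated.TStructure.truncLT tt b).obj (X.obj (op n))) (b - 1) i hi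

theorem inRange_GE {X : ARSys.PS (DerivedCategory A)} {a b : ℤ} (h : InRange X a b) :
    InRange (X ⋙ Triangulated.TStructure.truncGE tt b) b b := by
  intro n i hi
  rcases hi with hi | hi
  · have : ((Triangulated.TStructure.truncGE tt b).obj (X.obj (op n))).IsGE b :=
      Triangulated.TStructure.isGE_truncGE_obj tt _ b b (by lia)
    exact isZero_of_isGE ((Triangulated.TStructure.truncGE tt b).obj (X.obj (op n))) b i hi
  · have := isLE_of_inRange h n
    have : ((Triangulated.TStructure.truncGE tt b).obj (X.obj (op n))).IsLE b :=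
      inferInstanceAs (Triangulated.TStructure.IsLE tt _ b)
    exact isZero_of_isLE ((Triangulated.TStructure.truncGE tt b).obj (X.obj (op n))) b i hi

theorem isProIso_of_iso_of_isProIso {C : Type*} [Category C] {X Y X' Y' : ARSys.PS C}
    (a : X ⟶ Y) (a' : X' ⟶ Y') (e : X ≅ X') (e' : Y ≅ Y')
    (h : a ≫ e'.hom = e.hom ≫ a') (ha : DerCA.IsProIso a) : DerCA.IsProIso a' := by
  intro n
  obtain ⟨m, hm, b, hb, hb'⟩ := ha n
  refine ⟨m, hm, e'.inv.app (op m) ≫ b ≫ e.hom.app (op n), ?_, ?_⟩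
  · have h' : a'.app (op m) ≫ e'.inv.app (op m) = e.inv.app (op m) ≫ a.app (op m) := by
      have h2 : a' ≫ e'.inv = e.inv ≫ a := by
        rw [Iso.eq_inv_comp, ← Category.assoc, ← h, Category.assoc, Iso.hom_inv_id, Category.comp_id]
      exact congr_app h2 (op m)
    rw [← Category.assoc, h', Category.assoc, reassoc_of% hb, ← Category.assoc, ← tr_app,
      Category.assoc, ← NatTrans.comp_app, Iso.inv_hom_id, NatTrans.id_app, Category.comp_id]
  · have h' : e.hom.app (op n) ≫ a'.app (op n) = a.app (op n) ≫ e'.hom.app (op n) := by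
      rw [← NatTrans.comp_app, ← NatTrans.comp_app, h]
    rw [Category.assoc, Category.assoc, h', reassoc_of% hb', tr_app, ← Category.assoc,
      ← NatTrans.comp_app, Iso.inv_hom_id, NatTrans.id_app, Category.id_comp]

theorem isProIso_of_isZero {X Y : ARSys.PS A} (a : X ⟶ Y) (hX : ∀ n, IsZero (X.obj (op n)))
    (hY : ∀ n, IsZero (Y.obj (op n))) : DerCA.IsProIso a := fun n =>
  ⟨n, le_rfl, 0, (hX n).eq_of_src _ _, (hY n).eq_of_src _ _⟩

theorem isProIso_homology_LT {X Y : ARSys.PS (DerivedCategory A)} (f : X ⟶ Y) (b i : ℤ) (hi : i < b)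
    (h : DerCA.IsProIso (Functor.whiskerRight f (homologyFunctor A i))) :
    DerCA.IsProIso (Functor.whiskerRight (Functor.whiskerRight f
      (Triangulated.TStructure.truncLT tt b)) (homologyFunctor A i)) := by
  have := fun Z => Ghost.isIso_homologyMap_truncLTι (C := A) Z b i hi
  let η : ∀ Z : ARSys.PS (DerivedCategory A),
      (Z ⋙ Triangulated.TStructure.truncLT tt b) ⋙ homologyFunctor A i ≅
        Z ⋙ homologyFunctor A i := fun Z =>
    NatIso.ofComponents (fun n => asIso ((homologyFunctor A i).map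
      ((Triangulated.TStructure.truncLTι tt b).app (Z.obj n))))
      (fun {p q} φ => by
        dsimp
        rw [← Functor.map_comp, ← Functor.map_comp]
        exact congrArg _ ((Triangulated.TStructure.truncLTι tt b).naturality (Z.map φ)))
  refine isProIso_of_iso_of_isProIso _ _ (η X).symm (η Y).symm ?_ h
  rw [Iso.symm_hom, Iso.symm_hom, Iso.eq_inv_comp, ← Category.assoc, Iso.comp_inv_eq]
  ext n
  dsimp [η]
  rw [← Functor.map_comp, ← Functor.map_comp]
  exact congrArg _ ((Triangulated.TStructure.truncLTι tt b).naturality (f.app n)).symm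

theorem isProIso_homology_GE {X Y : ARSys.PS (DerivedCategory A)} (f : X ⟶ Y) (b i : ℤ) (hi : b ≤ i)
    (h : DerCA.IsProIso (Functor.whiskerRight f (homologyFunctor A i))) :
    DerCA.IsProIso (Functor.whiskerRight (Functor.whiskerRight f
      (Triangulated.TStructure.truncGE tt b)) (homologyFunctor A i)) := by
  have := fun Z => Ghost.isIso_homologyMap_truncGEπ (C := A) Z b i hi
  let η : ∀ Z : ARSys.PS (DerivedCategory A),
      Z ⋙ homologyFunctor A i ≅
        (Z ⋙ Triangulated.TStructure.truncGE tt b) ⋙ homologyFunctor A i := fun Z =>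
    NatIso.ofComponents (fun n => asIso ((homologyFunctor A i).map
      ((Triangulated.TStructure.truncGEπ tt b).app (Z.obj n))))
      (fun {p q} φ => by
        dsimp
        rw [← Functor.map_comp, ← Functor.map_comp]
        exact congrArg _ ((Triangulated.TStructure.truncGEπ tt b).naturality (Z.map φ)))
  refine isProIso_of_iso_of_isProIso _ _ (η X) (η Y) ?_ h
  ext n
  dsimp [η]
  rw [← Functor.map_comp, ← Functor.map_comp]
  exact congrArg _ ((Triangulated.TStructure.truncGEπ tt b).naturality (f.app n))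

theorem isProIso_pure {X Y : ARSys.PS (DerivedCategory A)} (f : X ⟶ Y) (m : ℤ)
    (hX : InRange X m m) (hY : InRange Y m m)
    (h : DerCA.IsProIso (Functor.whiskerRight f (homologyFunctor A m))) : DerCA.IsProIso f := by
  intro n
  obtain ⟨k, hk, b, hb, hb'⟩ := h n
  have := isLE_of_inRange hX; have := isGE_of_inRange hX
  have := isLE_of_inRange hY; have := isGE_of_inRange hY
  obtain ⟨β, hβ⟩ := exists_homologyMap_eq (U := Y.obj (op k)) (V := X.obj (op n)) m b
  refine ⟨k, hk, β, eq_of_homologyMap_eq m _ _ ?_, eq_of_homologyMap_eq m _ _ ?_⟩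
  · rw [Functor.map_comp, hβ]; exact hb
  · rw [Functor.map_comp, hβ]; exact hb'

theorem isProIso_of_homology : ∀ (d : ℕ) (a : ℤ) (X Y : ARSys.PS (DerivedCategory A)) (f : X ⟶ Y),
    InRange X a (a + d) → InRange Y a (a + d) →
    (∀ i : ℤ, DerCA.IsProIso (Functor.whiskerRight f (homologyFunctor A i))) → DerCA.IsProIso f
  | 0, a, X, Y, f, hX, hY, h => isProIso_pure f a (by simpa using hX) (by simpa using hY) (h a)
  | d + 1, a, X, Y, f, hX, hY, h => by
    let L := Triangulated.TStructure.truncLT (tt : Triangulated.TStructure (DerivedCategory A))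
      (a + (d + 1 : ℕ))
    let G := Triangulated.TStructure.truncGE (tt : Triangulated.TStructure (DerivedCategory A))
      (a + (d + 1 : ℕ))
    let ι := Triangulated.TStructure.truncLTι (tt : Triangulated.TStructure (DerivedCategory A))
      (a + (d + 1 : ℕ))
    let π := Triangulated.TStructure.truncGEπ (tt : Triangulated.TStructure (DerivedCategory A))
      (a + (d + 1 : ℕ))
    let δ := Triangulated.TStructure.truncGEδLT (tt : Triangulated.TStructure (DerivedCategory A))
      (a + (d + 1 : ℕ))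
    refine isProIso_middle (Functor.whiskerLeft X ι) (Functor.whiskerLeft X π)
      (Functor.whiskerLeft X δ)
      (fun n => Triangulated.TStructure.triangleLTGE_distinguished tt _ (X.obj (op n)))
      (Functor.whiskerLeft Y ι) (Functor.whiskerLeft Y π) (Functor.whiskerLeft Y δ)
      (fun n => Triangulated.TStructure.triangleLTGE_distinguished tt _ (Y.obj (op n)))
      (Functor.whiskerRight f L) f (Functor.whiskerRight f G)
      (fun n => (ι.naturality (f.app (op n))).symm) (fun n => (π.naturality (f.app (op n))).symm)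
      (fun n => (δ.naturality (f.app (op n))).symm) ?_ ?_
    · refine isProIso_of_homology d a _ _ _ ?_ ?_ fun i => ?_
      · simpa [add_sub_assoc] using inRange_LT hX
      · simpa [add_sub_assoc] using inRange_LT hY
      · by_cases hi : i < a + (d + 1 : ℕ)
        · exact isProIso_homology_LT f _ i hi (h i)
        · exact isProIso_of_isZero _ (fun n => inRange_LT hX n i (Or.inr (by omega)))
            (fun n => inRange_LT hY n i (Or.inr (by omega)))
    · refine isProIso_pure _ _ (inRange_GE hX) (inRange_GE hY) ?_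
      exact isProIso_homology_GE f _ _ le_rfl (h _)

theorem isEssConstant_iso {C : Type*} [Category C] {X Y : ARSys.PS C} (e : X ≅ Y) {B : C}
    (c : (Functor.const ℕᵒᵖ).obj B ⟶ X) (h : DerCA.IsEssConstant X B c) :
    DerCA.IsEssConstant Y B (c ≫ e.hom) := by
  obtain ⟨i, s, hs, hf⟩ := h
  refine ⟨i, e.inv.app (op i) ≫ s, ?_, fun j => ?_⟩
  · change (c.app (op i) ≫ e.hom.app (op i)) ≫ e.inv.app (op i) ≫ s = _
    rw [Category.assoc, Iso.hom_inv_id_app_assoc, hs]
  · obtain ⟨k, hi, hj, hk⟩ := hf j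
    refine ⟨k, hi, hj, ?_⟩
    change _ = _ ≫ _ ≫ c.app (op j) ≫ e.hom.app (op j)
    rw [← cancel_epi (e.hom.app (op k)), ← tr_app, hk, Category.assoc, ← Category.assoc (e.hom.app _),
      ← tr_app, Category.assoc (ARSys.tr X hi), Category.assoc (e.inv.app _),
      Iso.hom_inv_id_app_assoc, Category.assoc]

theorem exists_isEssConstant_pure (X : ARSys.PS (DerivedCategory A)) (m : ℤ) (hX : InRange X m m)
    (h : ∃ (B : A) (c : (Functor.const ℕᵒᵖ).obj B ⟶ X ⋙ homologyFunctor A m),
      DerCA.IsEssConstant (X ⋙ homologyFunctor A m) B c) :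
    ∃ (L : DerivedCategory A) (c : (Functor.const ℕᵒᵖ).obj L ⟶ X), DerCA.IsEssConstant X L c := by
  obtain ⟨B, c, i, s, hs, hf⟩ := h
  have := isLE_of_inRange hX; have := isGE_of_inRange hX
  let F := singleFunctorCompHomologyFunctorIso A m
  have hex : ∀ n, ∃ γ : (singleFunctor A m).obj B ⟶ X.obj (op n),
      (homologyFunctor A m).map γ = F.hom.app B ≫ c.app (op n) :=
    fun n => exists_homologyMap_eq m _
  choose γ hγ using hex
  obtain ⟨σ, hσ⟩ : ∃ σ : X.obj (op i) ⟶ (singleFunctor A m).obj B,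
      (homologyFunctor A m).map σ = s ≫ F.inv.app B := exists_homologyMap_eq m _
  refine ⟨_, { app := fun n => γ n.unop, naturality := fun p q u => ?_ }, i, σ, ?_, fun j => ?_⟩
  · refine (Category.id_comp _).trans (eq_of_homologyMap_eq m _ _ ?_)
    have hn := c.naturality u
    dsimp at hn
    rw [Category.id_comp] at hn
    refine (hγ q.unop).trans ?_
    refine Eq.trans ?_ ((homologyFunctor A m).map_comp (γ p.unop) (X.map u)).symm
    exact ((congrArg (F.hom.app B ≫ ·) hn).trans (Category.assoc _ _ _).symm).trans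
      (congrArg (· ≫ (homologyFunctor A m).map (X.map u)) (hγ p.unop).symm)
  · refine eq_of_homologyMap_eq (U := (singleFunctor A m).obj B) (V := (singleFunctor A m).obj B)
      m _ _ ?_
    change (homologyFunctor A m).map (γ i ≫ σ) = _
    rw [Functor.map_comp, hσ, hγ, Category.assoc, ← Category.assoc (c.app _), hs]
    refine Eq.trans ?_ ((homologyFunctor A m).map_id _).symm
    exact (congrArg (_ ≫ ·) (Category.id_comp _)).trans (F.hom_inv_id_app B)
  · obtain ⟨k, hi, hj, hk⟩ := hf j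
    refine ⟨k, hi, hj, eq_of_homologyMap_eq m _ _ ?_⟩
    change (homologyFunctor A m).map (ARSys.tr X hj) =
      (homologyFunctor A m).map (ARSys.tr X hi ≫ σ ≫ γ j)
    rw [Functor.map_comp, Functor.map_comp, hσ, hγ]
    refine hk.trans ?_
    simp only [Category.assoc]
    exact congrArg _ (congrArg (s ≫ ·) (F.inv_hom_id_app_assoc B _).symm)

theorem exists_isEssConstant : ∀ (d : ℕ) (a : ℤ) (X : ARSys.PS (DerivedCategory A)),
    InRange X a (a + d) →
    (∀ i : ℤ, ∃ (B : A) (c : (Functor.const ℕᵒᵖ).obj B ⟶ X ⋙ homologyFunctor A i),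
      DerCA.IsEssConstant (X ⋙ homologyFunctor A i) B c) →
    ∃ (L : DerivedCategory A) (c : (Functor.const ℕᵒᵖ).obj L ⟶ X), DerCA.IsEssConstant X L c
  | 0, a, X, hX, h => exists_isEssConstant_pure X a (by simpa using hX) (h a)
  | d + 1, a, X, hX, h => by
    let L := Triangulated.TStructure.truncLT (tt : Triangulated.TStructure (DerivedCategory A))
      (a + (d + 1 : ℕ))
    let G := Triangulated.TStructure.truncGE (tt : Triangulated.TStructure (DerivedCategory A))
      (a + (d + 1 : ℕ))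
    let ι := Triangulated.TStructure.truncLTι (tt : Triangulated.TStructure (DerivedCategory A))
      (a + (d + 1 : ℕ))
    let π := Triangulated.TStructure.truncGEπ (tt : Triangulated.TStructure (DerivedCategory A))
      (a + (d + 1 : ℕ))
    let δ := Triangulated.TStructure.truncGEδLT (tt : Triangulated.TStructure (DerivedCategory A))
      (a + (d + 1 : ℕ))
    have h₁ : ∃ (L' : DerivedCategory A) (c : (Functor.const ℕᵒᵖ).obj L' ⟶ X ⋙ L),
        DerCA.IsEssConstant (X ⋙ L) L' c := by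
      refine exists_isEssConstant d a (X ⋙ L) ?_ fun i => ?_
      · simpa [L, add_sub_assoc] using inRange_LT hX
      · by_cases hi : i < a + (d + 1 : ℕ)
        · obtain ⟨B, c, hc⟩ := h i
          have := fun Z => Ghost.isIso_homologyMap_truncLTι (C := A) Z (a + (d + 1 : ℕ)) i hi
          let e : X ⋙ homologyFunctor A i ≅ (X ⋙ L) ⋙ homologyFunctor A i :=
            (NatIso.ofComponents (F := (X ⋙ L) ⋙ homologyFunctor A i)
              (G := X ⋙ homologyFunctor A i)
              (fun n => asIso ((homologyFunctor A i).map (ι.app (X.obj n))))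
              (fun {p q} φ => by
                dsimp
                rw [← Functor.map_comp, ← Functor.map_comp]
                exact congrArg _ (ι.naturality (X.map φ)))).symm
          exact ⟨B, _, isEssConstant_iso e c hc⟩
        · have hz : ∀ n, IsZero (((X ⋙ L) ⋙ homologyFunctor A i).obj (op n)) :=
            fun n => inRange_LT hX n i (Or.inr (by omega))
          refine ⟨_, { app := fun n => 0, naturality := fun p q u => by simp }, 0, 𝟙 _, ?_,
            fun j => ⟨j, j.zero_le, le_rfl, (hz j).eq_of_src _ _⟩⟩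
          exact (hz 0).eq_of_src _ _
    have h₃ : ∃ (L' : DerivedCategory A) (c : (Functor.const ℕᵒᵖ).obj L' ⟶ X ⋙ G),
        DerCA.IsEssConstant (X ⋙ G) L' c := by
      refine exists_isEssConstant_pure (X ⋙ G) (a + (d + 1 : ℕ)) (inRange_GE hX) ?_
      obtain ⟨B, c, hc⟩ := h (a + (d + 1 : ℕ))
      have := fun Z => Ghost.isIso_homologyMap_truncGEπ (C := A) Z (a + (d + 1 : ℕ)) _ le_rfl
      let e : X ⋙ homologyFunctor A (a + (d + 1 : ℕ)) ≅
          (X ⋙ G) ⋙ homologyFunctor A (a + (d + 1 : ℕ)) :=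
        NatIso.ofComponents (F := X ⋙ homologyFunctor A (a + (d + 1 : ℕ)))
          (G := (X ⋙ G) ⋙ homologyFunctor A (a + (d + 1 : ℕ)))
          (fun n => asIso ((homologyFunctor A _).map (π.app (X.obj n))))
          (fun {p q} φ => by
            dsimp
            rw [← Functor.map_comp, ← Functor.map_comp]
            exact congrArg _ (π.naturality (X.map φ)))
      exact ⟨B, _, isEssConstant_iso e c hc⟩
    obtain ⟨A', cA, hA⟩ := h₁
    obtain ⟨C', cC, hC⟩ := h₃
    exact exists_isEssConstant_of_triangle (X ⋙ L) X (X ⋙ G) (Functor.whiskerLeft X ι)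
      (Functor.whiskerLeft X π) (Functor.whiskerLeft X δ)
      (fun n => Triangulated.TStructure.triangleLTGE_distinguished tt _ (X.obj (op n)))
      A' cA hA C' cC hC

end Derived

end Groth.Agent.DerLib.ProHomology
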