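/-
Brown representability for derived categories of Grothendieck abelian categories.
-/
import Groth.Agent.DerLib.ModCompactGen
import Groth.Agent.DerLib.KInjEnough
import Mathlib.CategoryTheory.Abelian.GrothendieckCategory.ModuleEmbedding.GabrielPopescu

set_option linter.style.haveILetI false
set_option linter.unusedSectionVars false

universe v u

open CategoryTheory Limits
open CategoryTheory.Pretriangulated.Opposite
open Opposite (op unop)

namespace Groth.Agent.DerLib.BrownGroth

theorem hasCoproducts (A : Type u) [Category.{v} A] [Abelian A] [IsGrothendieckAbelian.{v} A]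
    [HasDerivedCategory.{v} A] : HasCoproducts.{v} (DerivedCategory A) := fun T =>
  ⟨fun F =>
    haveI := KInjUse.hasCoproduct (F.obj ∘ Discrete.mk)
    hasColimit_of_iso (Discrete.natIsoFunctor (F := F))⟩

/-- Representability descends along a reflective localization. -/
theorem isRepresentable_of_reflective {D E : Type*} [Category.{v} D] [Category.{v} E] {L : D ⥤ E}
    {G : E ⥤ D} (adj : L ⊣ G) [IsIso adj.counit] (P : Eᵒᵖ ⥤ Type v)
    (h : (L.op ⋙ P).IsRepresentable) : P.IsRepresentable := by
  haveI := adj.fullyFaithfulROfIsIsoCounit.full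
  haveI := adj.fullyFaithfulROfIsIsoCounit.faithful
  let X := (L.op ⋙ P).reprX
  let r : (L.op ⋙ P).RepresentableBy X := (L.op ⋙ P).representableBy
  haveI hLη : ∀ Y, IsIso (L.map (adj.unit.app Y)) := fun Y => by
    haveI : IsIso (L.map (adj.unit.app Y) ≫ adj.counit.app (L.obj Y)) := by
      rw [adj.left_triangle_components Y]
      exact IsIso.id _
    exact IsIso.of_isIso_comp_right _ (adj.counit.app (L.obj Y))
  have hloc : ∀ Y, Function.Bijective fun t : G.obj (L.obj Y) ⟶ X => adj.unit.app Y ≫ t := fun Y => by
    have : (fun t : G.obj (L.obj Y) ⟶ X => adj.unit.app Y ≫ t) =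
        r.homEquiv.symm ∘ (P.mapIso (asIso (L.map (adj.unit.app Y))).op).toEquiv ∘ r.homEquiv := by
      funext t
      apply r.homEquiv.injective
      simp only [Function.comp_apply, Equiv.apply_symm_apply, r.homEquiv_comp]
      rfl
    rw [this]
    exact (r.homEquiv.symm.bijective.comp (Equiv.bijective _)).comp r.homEquiv.bijective
  obtain ⟨s, hs⟩ := (hloc X).2 (𝟙 X)
  have hs' : s ≫ adj.unit.app X = 𝟙 _ := by
    have : adj.unit.app X ≫ s = 𝟙 X := hs
    apply ((adj.homEquiv _ _).symm).injective
    rw [adj.homEquiv_counit, adj.homEquiv_counit]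
    have h1 : L.map (adj.unit.app X) ≫ L.map s = 𝟙 (L.obj X) :=
      (L.map_comp _ _).symm.trans ((congrArg L.map this).trans (L.map_id X))
    have h2 : L.map s ≫ L.map (adj.unit.app X) = 𝟙 _ :=
      (cancel_epi (L.map (adj.unit.app X))).1 ((Category.assoc _ _ _).symm.trans
        ((congrArg (· ≫ L.map (adj.unit.app X)) h1).trans
          ((Category.id_comp _).trans (Category.comp_id _).symm)))
    rw [L.map_comp, h2, L.map_id]
  haveI : IsIso (adj.unit.app X) := ⟨s, hs, hs'⟩
  let e : X ≅ G.obj (L.obj X) := asIso (adj.unit.app X)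
  exact ⟨L.obj X, ⟨
    { homEquiv := fun {Z} => (((Functor.FullyFaithful.ofFullyFaithful G).homEquiv.trans
        (Iso.homToEquiv e.symm)).trans r.homEquiv).trans
          (P.mapIso (asIso (adj.counit.app Z)).op.symm).toEquiv
      homEquiv_comp := fun {Z Z'} f g => by
        have hn := adj.counit.naturality f
        show P.map (inv (adj.counit.app Z)).op (r.homEquiv (G.map (f ≫ g) ≫ e.inv)) =
          P.map f.op (P.map (inv (adj.counit.app Z')).op (r.homEquiv (G.map g ≫ e.inv)))
        rw [G.map_comp, Category.assoc, r.homEquiv_comp]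
        show P.map _ (P.map _ _) = _
        rw [← types_comp_apply (P.map _) (P.map _), ← types_comp_apply (P.map _) (P.map f.op),
          ← P.map_comp, ← P.map_comp]
        refine congrArg (fun m => P.map m (r.homEquiv (G.map g ≫ e.inv))) ?_
        show (L.map (G.map f)).op ≫ (inv (adj.counit.app Z)).op = (f ≫ inv (adj.counit.app Z')).op
        rw [← op_comp]
        congr 1
        rw [IsIso.inv_comp_eq, ← Category.assoc, IsIso.eq_comp_inv]
        exact hn }⟩⟩

variable {A : Type u} [Category.{v} A] [Abelian A] [IsGrothendieckAbelian.{v} A]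
  [HasDerivedCategory.{v} A]

/-- Brown representability for `D(A)`. -/
theorem isRepresentable (H : (DerivedCategory A)ᵒᵖ ⥤ AddCommGrpCat.{v}) [H.IsHomological]
    [∀ ι : Type v, PreservesLimitsOfShape (Discrete ι) H] :
    (H ⋙ forget AddCommGrpCat.{v}).IsRepresentable := by
  obtain ⟨U, hU⟩ := HasSeparator.hasSeparator (C := A)
  haveI := IsGrothendieckAbelian.GabrielPopescu.full U hU
  haveI : (preadditiveCoyonedaObj U).Faithful :=
    (isSeparator_iff_faithful_preadditiveCoyonedaObj U).1 hU
  haveI := IsGrothendieckAbelian.GabrielPopescu.preservesFiniteLimits U hU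
  haveI : PreservesFiniteColimits (IsGrothendieckAbelian.tensorObj U) := inferInstance
  haveI : (IsGrothendieckAbelian.tensorObj U).Additive :=
    CategoryTheory.Functor.additive_of_preserves_binary_products _
  let adj := IsGrothendieckAbelian.tensorObjPreadditiveCoyonedaObjAdjunction U
  letI := SmallDerived.hasDerivedCategorySmall (ModuleCat.{v} (End U)ᵐᵒᵖ)
  haveI := hasCoproducts (ModuleCat.{v} (End U)ᵐᵒᵖ)
  have hA := KInjDerived.enoughKInj A
  haveI := KInjDerived.hasRightDerivedFunctor
    ((preadditiveCoyonedaObj U).mapHomotopyCategory (ComplexShape.up ℤ) ⋙ DerivedCategory.Qh) hA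
  let β := ((preadditiveCoyonedaObj U).mapHomotopyCategory (ComplexShape.up ℤ) ⋙
    DerivedCategory.Qh).totalRightDerivedUnit DerivedCategory.Qh
      (HomotopyCategory.quasiIso A (ComplexShape.up ℤ))
  let d := KInjDerived.derivedAdj adj _ β hA
  haveI : IsIso d.counit := KInjDerived.isIso_counit adj _ β hA
  refine isRepresentable_of_reflective d _ ?_
  haveI : ∀ ι : Type v, PreservesLimitsOfShape (Discrete ι)
      ((IsGrothendieckAbelian.tensorObj U).mapDerivedCategory.op ⋙ H) := fun ι =>
    haveI : PreservesLimitsOfShape (Discrete ι) (IsGrothendieckAbelian.tensorObj U).mapDerivedCategory.op :=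
      haveI := d.isLeftAdjoint
      inferInstance
    inferInstance
  exact Brown.isRepresentable_of_compactlyGenerated (ModCompactGen.isCompactlyGenerated (End U)ᵐᵒᵖ)
    ((IsGrothendieckAbelian.tensorObj U).mapDerivedCategory.op ⋙ H)

end Groth.Agent.DerLib.BrownGroth
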