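/-
Effaceability of higher Ext classes: every class in degree ≥ 1 is killed by a monomorphism
out of the coefficient object.
-/
import Mathlib

universe w v u

open CategoryTheory Limits Abelian

namespace Groth.Agent.DerLib.ExtEffaceable

variable {A : Type u} [Category.{v} A] [Abelian A]

/-- A morphism between two stalk complexes placed in degrees `0` and `m ≠ 0` is killed by a
monomorphism out of the second object. -/
theorem exists_mono_comp_eq_zero' [HasDerivedCategory.{w} A] (B C : A) (m : ℤ) (hm : m ≠ 0)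
    (φ : (DerivedCategory.singleFunctor A 0).obj B ⟶ (DerivedCategory.singleFunctor A m).obj C) :
    ∃ (C' : A) (ι : C ⟶ C'), Mono ι ∧ φ ≫ (DerivedCategory.singleFunctor A m).map ι = 0 := by
  let e₀ := (DerivedCategory.singleFunctorIsoCompQ A 0).app B
  let e := DerivedCategory.singleFunctorIsoCompQ A m
  obtain ⟨Y', hY', g, s, hs, hφ⟩ :=
    DerivedCategory.left_fac_of_isStrictlyGE
      (X := (CochainComplex.singleFunctor A 0).obj B)
      (Y := (CochainComplex.singleFunctor A m).obj C) (e₀.inv ≫ φ ≫ e.hom.app C) m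
  rw [DerivedCategory.isIso_Q_map_iff_quasiIso] at hs
  let ι : C ⟶ Y'.X m := (HomologicalComplex.singleObjXSelf (.up ℤ) m C).inv ≫ s.f m
  have hι : Mono ι := by
    have hY : IsZero (Y'.X (m - 1)) := Y'.isZero_of_isStrictlyGE m _ (by lia)
    have hC : IsZero (((CochainComplex.singleFunctor A m).obj C).X (m - 1)) :=
      HomologicalComplex.isZero_single_obj_X (.up ℤ) m C (m - 1) (by lia)
    have := Y'.isIso_homologyπ (m - 1) m (by simp) (hY.eq_of_src _ _)
    have := ((CochainComplex.singleFunctor A m).obj C).isIso_homologyπ (m - 1) m (by simp)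
      (hC.eq_of_src _ _)
    have h1 : IsIso (HomologicalComplex.cyclesMap s m) := by
      have h2 : HomologicalComplex.cyclesMap s m ≫ Y'.homologyπ m =
          HomologicalComplex.homologyπ _ m ≫ HomologicalComplex.homologyMap s m :=
        (HomologicalComplex.homologyπ_naturality s m).symm
      have : IsIso (HomologicalComplex.cyclesMap s m ≫ Y'.homologyπ m) := h2 ▸ inferInstance
      exact IsIso.of_isIso_comp_right _ (Y'.homologyπ m)
    have h3 : IsIso (((CochainComplex.singleFunctor A m).obj C).iCycles m) :=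
      ((CochainComplex.singleFunctor A m).obj C).isIso_iCycles m (m + 1) (by simp)
        ((HomologicalComplex.isZero_single_obj_X (.up ℤ) m C (m + 1) (by lia)).eq_of_tgt _ _)
    have h4 : Mono (((CochainComplex.singleFunctor A m).obj C).iCycles m ≫ s.f m) := by
      rw [← HomologicalComplex.cyclesMap_i]
      infer_instance
    have h5 : Mono (s.f m) := by
      have := mono_comp (inv (((CochainComplex.singleFunctor A m).obj C).iCycles m))
        (((CochainComplex.singleFunctor A m).obj C).iCycles m ≫ s.f m)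
      simpa using this
    exact @mono_comp _ _ _ _ _ _ inferInstance _ h5
  refine ⟨Y'.X m, ι, hι, ?_⟩
  let π : Y' ⟶ (CochainComplex.singleFunctor A m).obj (Y'.X m) :=
    HomologicalComplex.mkHomToSingle (𝟙 _) (fun i hi => by
      have : IsZero (Y'.X i) := Y'.isZero_of_isStrictlyGE m i (by simp at hi; lia)
      exact this.eq_of_src _ _)
  have hsπ : s ≫ π = (CochainComplex.singleFunctor A m).map ι := by
    apply HomologicalComplex.from_single_hom_ext
    rw [HomologicalComplex.comp_f]
    exact (congrArg (s.f m ≫ ·) ((HomologicalComplex.mkHomToSingle_f _ _).trans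
      (Category.id_comp _))).trans ((by simp [ι]; rfl) : s.f m ≫ (HomologicalComplex.singleObjXSelf
        (ComplexShape.up ℤ) m (Y'.X m)).inv = (HomologicalComplex.singleObjXSelf
        (ComplexShape.up ℤ) m C).hom ≫ ι ≫ (HomologicalComplex.singleObjXSelf
        (ComplexShape.up ℤ) m (Y'.X m)).inv) |>.trans
      (HomologicalComplex.single_map_f_self (ComplexShape.up ℤ) m ι).symm
  have hgπ : g ≫ π = 0 := by
    apply HomologicalComplex.from_single_hom_ext
    exact (HomologicalComplex.isZero_single_obj_X (.up ℤ) m _ 0 (Ne.symm hm)).eq_of_tgt _ _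
  rw [← DerivedCategory.isIso_Q_map_iff_quasiIso] at hs
  have h0 : (e₀.inv ≫ φ ≫ e.hom.app C) ≫
      DerivedCategory.Q.map ((CochainComplex.singleFunctor A m).map ι) = 0 := by
    rw [hφ, ← hsπ, Functor.map_comp, Category.assoc, IsIso.inv_hom_id_assoc,
      ← Functor.map_comp, hgπ, Functor.map_zero]
  have h1 : e.hom.app C ≫ DerivedCategory.Q.map ((CochainComplex.singleFunctor A m).map ι) =
      (DerivedCategory.singleFunctor A m).map ι ≫ e.hom.app (Y'.X m) :=
    (e.hom.naturality ι).symm
  simp only [Category.assoc] at h0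
  rw [h1, ← cancel_epi e₀.hom, Iso.hom_inv_id_assoc, comp_zero, ← Category.assoc] at h0
  exact (cancel_mono (e.hom.app (Y'.X m))).1 (h0.trans zero_comp.symm)

/-- Every Ext class of positive degree is killed by a monomorphism out of the coefficients. -/
theorem exists_mono_comp_eq_zero [HasExt.{w} A] {B C : A} {n : ℕ} (x : Ext B C (n + 1)) :
    ∃ (C' : A) (ι : C ⟶ C'), Mono ι ∧ x.comp (Ext.mk₀ ι) (add_zero (n + 1)) = 0 := by
  let := HasDerivedCategory.standard A
  let e := (DerivedCategory.singleFunctors A).shiftIso ((n + 1 : ℕ) : ℤ) (-((n + 1 : ℕ) : ℤ)) 0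
    (by simp)
  obtain ⟨C', ι, hι, h⟩ :=
    exists_mono_comp_eq_zero' B C (-((n + 1 : ℕ) : ℤ)) (by lia) (x.hom ≫ e.hom.app C)
  refine ⟨C', ι, hι, ?_⟩
  apply Ext.ext
  rw [Ext.comp_hom, Ext.mk₀_hom, ShiftedHom.comp_mk₀, Ext.zero_hom]
  have h1 : e.hom.app C ≫ (DerivedCategory.singleFunctor A _).map ι =
      ((DerivedCategory.singleFunctor A 0).map ι)⟦((n + 1 : ℕ) : ℤ)⟧' ≫ e.hom.app C' :=
    (e.hom.naturality ι).symm
  rw [Category.assoc, h1, ← Category.assoc] at h
  exact (cancel_mono (e.hom.app C')).1 (h.trans zero_comp.symm)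

/-- Dimension shifting: if `Ext^p` vanishes identically, so does `Ext^i` for `i ≥ p`. -/
theorem eq_zero_of_le [HasExt.{w} A] (p : ℕ) (h : ∀ (B C : A) (x : Ext B C p), x = 0)
    (i : ℕ) (hi : p ≤ i) (B C : A) (x : Ext B C i) : x = 0 := by
  induction hi generalizing B C with
  | refl => exact h B C x
  | @step m _ ih =>
    obtain ⟨C', ι, hι, hx⟩ := exists_mono_comp_eq_zero x
    obtain ⟨y, rfl⟩ := Ext.covariant_sequence_exact₁ B
      (S := ShortComplex.mk ι (cokernel.π ι) (cokernel.condition ι))
      { exact := ShortComplex.exact_cokernel ι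
        mono_f := hι
        epi_g := inferInstance } x hx rfl
    rw [ih B _ y, Ext.zero_comp]

/-- A morphism between two stalk complexes placed in degrees `0` and `m ≠ 0` is killed by an
epimorphism onto the first object. -/
theorem exists_epi_comp_eq_zero' [HasDerivedCategory.{w} A] (B C : A) (m : ℤ) (hm : m ≠ 0)
    (φ : (DerivedCategory.singleFunctor A 0).obj B ⟶ (DerivedCategory.singleFunctor A m).obj C) :
    ∃ (B' : A) (p : B' ⟶ B), Epi p ∧ (DerivedCategory.singleFunctor A 0).map p ≫ φ = 0 := by
  let e := DerivedCategory.singleFunctorIsoCompQ A 0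
  let eₘ := (DerivedCategory.singleFunctorIsoCompQ A m).app C
  obtain ⟨X', hX', s, hs, g, hφ⟩ :=
    DerivedCategory.right_fac_of_isStrictlyLE
      (X := (CochainComplex.singleFunctor A 0).obj B)
      (Y := (CochainComplex.singleFunctor A m).obj C) (e.inv.app B ≫ φ ≫ eₘ.hom) 0
  rw [DerivedCategory.isIso_Q_map_iff_quasiIso] at hs
  let p : X'.X 0 ⟶ B := s.f 0 ≫ (HomologicalComplex.singleObjXSelf (.up ℤ) 0 B).hom
  have hp : Epi p := by
    have hX : IsZero (X'.X 1) := X'.isZero_of_isStrictlyLE 0 _ (by lia)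
    have hB : IsZero (((CochainComplex.singleFunctor A 0).obj B).X 1) :=
      HomologicalComplex.isZero_single_obj_X (.up ℤ) 0 B 1 (by lia)
    have := X'.isIso_homologyι 0 1 (by simp) (hX.eq_of_tgt _ _)
    have := ((CochainComplex.singleFunctor A 0).obj B).isIso_homologyι 0 1 (by simp)
      (hB.eq_of_tgt _ _)
    have h1 : IsIso (HomologicalComplex.opcyclesMap s 0) := by
      have h2 : X'.homologyι 0 ≫ HomologicalComplex.opcyclesMap s 0 =
          HomologicalComplex.homologyMap s 0 ≫ HomologicalComplex.homologyι _ 0 :=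
        (HomologicalComplex.homologyι_naturality s 0).symm
      have : IsIso (X'.homologyι 0 ≫ HomologicalComplex.opcyclesMap s 0) := h2 ▸ inferInstance
      exact IsIso.of_isIso_comp_left (X'.homologyι 0) _
    have h3 : IsIso (((CochainComplex.singleFunctor A 0).obj B).pOpcycles 0) :=
      ((CochainComplex.singleFunctor A 0).obj B).isIso_pOpcycles (-1) 0 (by simp)
        ((HomologicalComplex.isZero_single_obj_X (.up ℤ) 0 B (-1) (by lia)).eq_of_src _ _)
    have h4 : Epi (s.f 0 ≫ ((CochainComplex.singleFunctor A 0).obj B).pOpcycles 0) := by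
      rw [← HomologicalComplex.p_opcyclesMap]
      infer_instance
    have h5 : Epi (s.f 0) := by
      have := epi_comp (s.f 0 ≫ ((CochainComplex.singleFunctor A 0).obj B).pOpcycles 0)
        (inv (((CochainComplex.singleFunctor A 0).obj B).pOpcycles 0))
      simpa using this
    exact @epi_comp _ _ _ _ _ _ h5 _ inferInstance
  refine ⟨X'.X 0, p, hp, ?_⟩
  let π : (CochainComplex.singleFunctor A 0).obj (X'.X 0) ⟶ X' :=
    HomologicalComplex.mkHomFromSingle (𝟙 _) (fun i hi => by
      have : IsZero (X'.X i) := X'.isZero_of_isStrictlyLE 0 i (by simp at hi; lia)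
      exact this.eq_of_tgt _ _)
  have hπs : π ≫ s = (CochainComplex.singleFunctor A 0).map p := by
    apply HomologicalComplex.from_single_hom_ext
    rw [HomologicalComplex.comp_f]
    exact (congrArg (· ≫ s.f 0) ((HomologicalComplex.mkHomFromSingle_f _ _).trans
      (Category.comp_id _))).trans ((by simp only [p, Category.assoc]; erw [Iso.hom_inv_id, Category.comp_id]; rfl) : (HomologicalComplex.singleObjXSelf
        (ComplexShape.up ℤ) 0 (X'.X 0)).hom ≫ s.f 0 = (HomologicalComplex.singleObjXSelf
        (ComplexShape.up ℤ) 0 (X'.X 0)).hom ≫ p ≫ (HomologicalComplex.singleObjXSelf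
        (ComplexShape.up ℤ) 0 B).inv) |>.trans
      (HomologicalComplex.single_map_f_self (ComplexShape.up ℤ) 0 p).symm
  have hπg : π ≫ g = 0 := by
    apply HomologicalComplex.from_single_hom_ext
    exact (HomologicalComplex.isZero_single_obj_X (.up ℤ) m _ 0 (Ne.symm hm)).eq_of_tgt _ _
  rw [← DerivedCategory.isIso_Q_map_iff_quasiIso] at hs
  have h0 : DerivedCategory.Q.map ((CochainComplex.singleFunctor A 0).map p) ≫
      e.inv.app B ≫ φ ≫ eₘ.hom = 0 := by
    rw [hφ, ← hπs, Functor.map_comp, Category.assoc, IsIso.hom_inv_id_assoc,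
      ← Functor.map_comp, hπg, Functor.map_zero]
  have h1 : DerivedCategory.Q.map ((CochainComplex.singleFunctor A 0).map p) ≫ e.inv.app B =
      e.inv.app (X'.X 0) ≫ (DerivedCategory.singleFunctor A 0).map p := e.inv.naturality p
  rw [← Category.assoc, h1, Category.assoc, ← cancel_epi (e.hom.app (X'.X 0)),
    Iso.hom_inv_id_app_assoc, comp_zero, ← Category.assoc] at h0
  exact (cancel_mono eₘ.hom).1 (h0.trans zero_comp.symm)

/-- Every Ext class of positive degree is killed by an epimorphism onto the source. -/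
theorem exists_epi_comp_eq_zero [HasExt.{w} A] {B C : A} {n : ℕ} (x : Ext B C (n + 1)) :
    ∃ (B' : A) (p : B' ⟶ B), Epi p ∧ (Ext.mk₀ p).comp x (zero_add (n + 1)) = 0 := by
  let := HasDerivedCategory.standard A
  let e := (DerivedCategory.singleFunctors A).shiftIso ((n + 1 : ℕ) : ℤ) (-((n + 1 : ℕ) : ℤ)) 0
    (by simp)
  obtain ⟨B', p, hp, h⟩ :=
    exists_epi_comp_eq_zero' B C (-((n + 1 : ℕ) : ℤ)) (by lia) (x.hom ≫ e.hom.app C)
  refine ⟨B', p, hp, ?_⟩
  apply Ext.ext
  rw [Ext.comp_hom, Ext.mk₀_hom, ShiftedHom.mk₀_comp, Ext.zero_hom]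
  rw [← Category.assoc] at h
  exact (cancel_mono (e.hom.app C)).1 (h.trans zero_comp.symm)

end Groth.Agent.DerLib.ExtEffaceable
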