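/-
Right derived functors with respect to complexes and to the homotopy category.
-/
import Groth.Agent.DerLib.KInjDerived

set_option linter.unusedSectionVars false
set_option linter.style.haveILetI false

universe w w' v v' u u'

open CategoryTheory Limits

namespace Groth.Agent.DerLib.KInjDerivedQ

variable {A : Type u} [Category.{v} A] [Abelian A] [HasDerivedCategory.{w} A]
  {B : Type u'} [Category.{v'} B] [Abelian B] [HasDerivedCategory.{w'} B]
  (F : A ⥤ B) [F.Additive] (RF : DerivedCategory A ⥤ DerivedCategory B)

/-- The canonical identification on complexes. -/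
noncomputable def factors : HomotopyCategory.quotient A (ComplexShape.up ℤ) ⋙
    F.mapHomotopyCategory (ComplexShape.up ℤ) ⋙ DerivedCategory.Qh ≅
      F.mapHomologicalComplex (ComplexShape.up ℤ) ⋙ DerivedCategory.Q :=
  (Functor.associator _ _ _).symm ≪≫
    Functor.isoWhiskerRight (F.mapHomotopyCategoryFactors (ComplexShape.up ℤ)) DerivedCategory.Qh ≪≫
      Functor.associator _ _ _ ≪≫
        Functor.isoWhiskerLeft _ (DerivedCategory.quotientCompQhIso B)

variable (α : F.mapHomologicalComplex (ComplexShape.up ℤ) ⋙ DerivedCategory.Q ⟶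
  DerivedCategory.Q ⋙ RF)

/-- The unit on the homotopy category induced by a unit on complexes. -/
noncomputable def unith : F.mapHomotopyCategory (ComplexShape.up ℤ) ⋙ DerivedCategory.Qh ⟶
    DerivedCategory.Qh ⋙ RF :=
  CategoryTheory.Quotient.natTransLift _ ((factors F).hom ≫ α ≫
    Functor.whiskerRight (DerivedCategory.quotientCompQhIso A).inv RF ≫
      (Functor.associator _ _ _).hom)

theorem unith_app (K : CochainComplex A ℤ) :
    (unith F RF α).app ((HomotopyCategory.quotient A (ComplexShape.up ℤ)).obj K) =
      (factors F).hom.app K ≫ α.app K ≫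
        RF.map ((DerivedCategory.quotientCompQhIso A).inv.app K) ≫ 𝟙 _ := rfl

theorem isRightDerivedFunctor
    [RF.IsRightDerivedFunctor α (HomologicalComplex.quasiIso A (ComplexShape.up ℤ))] :
    RF.IsRightDerivedFunctor (unith F RF α)
      (HomotopyCategory.quasiIso A (ComplexShape.up ℤ)) := by
  let β : ∀ E : Functor.LeftExtension DerivedCategory.Qh
      (F.mapHomotopyCategory (ComplexShape.up ℤ) ⋙ DerivedCategory.Qh),
      F.mapHomologicalComplex (ComplexShape.up ℤ) ⋙ DerivedCategory.Q ⟶
        DerivedCategory.Q ⋙ E.right := fun E =>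
    (factors F).inv ≫ Functor.whiskerLeft _ E.hom ≫ (Functor.associator _ _ _).inv ≫
      Functor.whiskerRight (DerivedCategory.quotientCompQhIso A).hom E.right
  refine ⟨⟨⟨IsInitial.ofUniqueHom (fun E => StructuredArrow.homMk
    (RF.rightDerivedDesc α (HomologicalComplex.quasiIso A (ComplexShape.up ℤ)) E.right (β E)) ?_)
    (fun E m => ?_)⟩⟩⟩
  · refine NatTrans.ext (funext fun X => ?_)
    obtain ⟨K, rfl⟩ := HomotopyCategory.quotient_obj_surjective X
    have h₁ := RF.rightDerived_fac_app α (HomologicalComplex.quasiIso A (ComplexShape.up ℤ))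
      E.right (β E) K
    have h₂ := (RF.rightDerivedDesc α (HomologicalComplex.quasiIso A (ComplexShape.up ℤ))
      E.right (β E)).naturality ((DerivedCategory.quotientCompQhIso A).inv.app K)
    change (unith F RF α).app _ ≫ _ = _
    rw [unith_app, Category.comp_id, Category.assoc, Category.assoc]
    erw [h₂]
    rw [reassoc_of% h₁]
    simp [β, ← Functor.map_comp]
  · apply StructuredArrow.hom_ext
    refine RF.rightDerived_ext α (HomologicalComplex.quasiIso A (ComplexShape.up ℤ)) _ _ _ ?_
    refine NatTrans.ext (funext fun K => ?_)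
    have hw := congr_app (StructuredArrow.w m)
      ((HomotopyCategory.quotient A (ComplexShape.up ℤ)).obj K)
    have h₂ := m.right.naturality ((DerivedCategory.quotientCompQhIso A).inv.app K)
    simp only [StructuredArrow.homMk_right, NatTrans.comp_app, Functor.whiskerLeft_app,
      RF.rightDerived_fac_app]
    change α.app K ≫ m.right.app (DerivedCategory.Q.obj K) = _
    simp only [β, NatTrans.comp_app, Functor.whiskerLeft_app, Functor.associator_inv_app,
      Functor.whiskerRight_app, Category.id_comp]
    rw [← hw]
    change _ = (factors F).inv.app K ≫ ((unith F RF α).app _ ≫ m.right.app _) ≫ _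
    rw [unith_app, Category.comp_id, Category.assoc, Category.assoc]
    rw [Iso.inv_hom_id_app_assoc, Category.assoc]
    refine congrArg (α.app K ≫ ·) ?_
    erw [Category.id_comp]
    refine Eq.trans ?_ (Category.assoc _ _ _)
    refine Eq.trans ?_ (congrArg (· ≫ E.right.map
      ((DerivedCategory.quotientCompQhIso A).hom.app K)) h₂).symm
    rw [Category.assoc, ← E.right.map_comp, Iso.inv_hom_id_app, E.right.map_id]
    exact (Category.comp_id _).symm

end Groth.Agent.DerLib.KInjDerivedQ
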