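/-
Localization of the derived category of a Grothendieck abelian category at a small family of objects.
-/
import Groth.Agent.DerLib.KInjUse
import Mathlib.Algebra.Homology.HomotopyCategory.MappingCocone

set_option linter.unusedSectionVars false
set_option linter.style.haveILetI false

universe w v u

open CategoryTheory Limits HomologicalComplex MorphismProperty

namespace Groth.Agent.DerLib.OrthLocal

open AcyclicMono KInjLift KInjRes KInjUse CochainComplex.HomComplex
open CochainComplex (mappingCone mappingCocone)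

variable {A : Type u} [Category.{v} A] [Abelian A]

theorem null_iff {K L : CochainComplex A ℤ} (f : K ⟶ L) :
    (HomotopyCategory.quotient A (ComplexShape.up ℤ)).map f = 0 ↔
      ∃ z : Cochain K L (-1), δ (-1) 0 z = Cochain.ofHom f := by
  constructor
  · intro h
    exact ⟨Cochain.ofHomotopy (HomotopyCategory.homotopyOfEq f 0
      (h.trans (Functor.map_zero _ _ _).symm)), by simp [δ_ofHomotopy]⟩
  · rintro ⟨z, hz⟩
    refine (HomotopyCategory.eq_of_homotopy f 0 ((Cochain.equivHomotopy f 0).symm ⟨z, ?_⟩)).trans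
      (Functor.map_zero _ _ _)
    simp [hz]

theorem δ_snd (K : CochainComplex A ℤ) :
    δ (-1) 0 (mappingCocone.snd (𝟙 K)) + Cochain.ofHom (mappingCocone.fst (𝟙 K)) = 0 := by
  let α := Cochain.ofHom (mappingCocone.fst (𝟙 K))
  let β := mappingCocone.snd (𝟙 K)
  have he : mappingCocone.liftCochain (𝟙 K) α β (by omega) = Cochain.ofHom (𝟙 _) := by
    ext p
    rw [Cochain.ofHom_v, HomologicalComplex.id_f, ← Category.comp_id
      ((mappingCocone.liftCochain (𝟙 K) α β (by omega)).v p p (add_zero p)),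
      ← mappingCocone.id_X (𝟙 K) p (p + -1) rfl]
    simp [α, β]
  have h := congrArg (fun c => (δ 0 1 c).comp (mappingCocone.snd (𝟙 K)) (show (1 : ℤ) + -1 = 0 by omega)) he
  simp only [δ_ofHom, mappingCocone.δ_liftCochain _ _ _ _ 1 (zero_add 1), α, Cochain.zero_comp,
    zero_sub] at h
  ext p
  have h' := Cochain.congr_v h p p (add_zero p)
  simp [β] at h'
  have hi : ((mappingCocone.inr (𝟙 K)).1.comp (mappingCocone.snd (𝟙 K))
      (show (1 : ℤ) + -1 = 0 by omega)).v p p (add_zero p) = 𝟙 _ := by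
    rw [Cochain.comp_v _ _ _ p (p + 1) p rfl (by omega), mappingCocone.inr_v_snd_v]
  simp [hi] at h'
  simp only [Cochain.add_v, Cochain.ofHom_v, Cochain.zero_v]
  rw [← neg_eq_zero, neg_add_rev]
  exact h'

theorem path_hom_ext {K M : CochainComplex A ℤ} {u u' : M ⟶ mappingCocone (𝟙 K)}
    (h₁ : u ≫ mappingCocone.fst (𝟙 K) = u' ≫ mappingCocone.fst (𝟙 K))
    (h₂ : (Cochain.ofHom u).comp (mappingCocone.snd (𝟙 K)) (zero_add _) =
      (Cochain.ofHom u').comp (mappingCocone.snd (𝟙 K)) (zero_add _)) : u = u' := by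
  ext p
  have e₁ := congrArg (fun (m : M ⟶ K) => m.f p) h₁
  have e₂ := Cochain.congr_v h₂ p (p + -1) rfl
  simp only [comp_f, Cochain.zero_cochain_comp_v, Cochain.ofHom_v] at e₁ e₂
  rw [← Category.comp_id (u.f p), ← Category.comp_id (u'.f p),
    ← mappingCocone.id_X (𝟙 K) p (p + -1) rfl]
  simp only [Preadditive.comp_add, reassoc_of% e₁, reassoc_of% e₂]

/-- The path fibration of a complex with injective terms lifts against a monomorphism all maps out of
whose cokernel are null-homotopic. -/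
theorem hasLiftingProperty_fst {Y A₀ A₁ : CochainComplex A ℤ} (hY : ∀ n, Injective (Y.X n))
    (i : A₀ ⟶ A₁) [Mono i]
    (hi : ∀ c : cokernel i ⟶ Y, (HomotopyCategory.quotient A (ComplexShape.up ℤ)).map c = 0) :
    HasLiftingProperty i (mappingCocone.fst (𝟙 Y)) := by
  constructor
  intro u g sq
  let β := (Cochain.ofHom u).comp (mappingCocone.snd (𝟙 Y)) (zero_add (-1))
  have hβ : δ (-1) 0 β + Cochain.ofHom (i ≫ g) = 0 := by
    have := congrArg (fun c => (Cochain.ofHom u).comp c (zero_add 0)) (δ_snd Y)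
    simp only [Cochain.comp_add, Cochain.comp_zero, ← Cochain.ofHom_comp, sq.w] at this
    rwa [δ_ofHom_comp]
  haveI := hY
  let β' : Cochain A₁ Y (-1) := Cochain.mk fun p q hpq => Injective.factorThru (β.v p q hpq) (i.f p)
  have hβ' : (Cochain.ofHom i).comp β' (zero_add (-1)) = β := by
    ext p q hpq
    rw [Cochain.zero_cochain_comp_v, Cochain.ofHom_v, Cochain.mk_v, Injective.comp_factorThru]
  let g₁ : A₁ ⟶ Y := g + Cocycle.homOf
    (Cocycle.mk (δ (-1) 0 β') 1 (zero_add 1) (δ_δ _ _ _ _))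
  have hg₁ : Cochain.ofHom g₁ = Cochain.ofHom g + δ (-1) 0 β' := by
    simp [g₁]
  have hg₁' : i ≫ g₁ = 0 := by
    have : Cochain.ofHom (i ≫ g₁) = 0 := by
      rw [Cochain.ofHom_comp, hg₁, Cochain.comp_add, ← Cochain.ofHom_comp, ← δ_ofHom_comp, hβ']
      exact (add_comm _ _).trans hβ
    ext p
    simpa using Cochain.congr_v this p p (add_zero p)
  obtain ⟨z, hz⟩ := (null_iff _).1 (hi (cokernel.desc i g₁ hg₁'))
  let γ := β' - (Cochain.ofHom (cokernel.π i)).comp z (zero_add (-1))
  have hγ : δ (-1) 0 γ + Cochain.ofHom (g ≫ 𝟙 Y) = 0 := by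
    rw [Category.comp_id, δ_sub, δ_ofHom_comp, hz, ← Cochain.ofHom_comp, cokernel.π_desc, hg₁]
    abel
  refine ⟨⟨⟨mappingCocone.lift (𝟙 Y) g γ hγ, ?_, mappingCocone.lift_fst _ _ _ _⟩⟩⟩
  refine path_hom_ext ?_ ?_
  · rw [Category.assoc, mappingCocone.lift_fst, sq.w]
  · ext p q hpq
    simp only [Cochain.zero_cochain_comp_v, Cochain.ofHom_v, comp_f, Category.assoc,
      mappingCocone.lift_f_snd_v]
    simp only [γ, Cochain.sub_v, Preadditive.comp_sub, Cochain.zero_cochain_comp_v, Cochain.ofHom_v]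
    rw [← Category.assoc (i.f p), ← comp_f, cokernel.condition, zero_f, zero_comp, sub_zero]
    have := Cochain.congr_v hβ' p q hpq
    simpa [β] using this

theorem null_iff_extends {K L : CochainComplex A ℤ} (f : K ⟶ L) :
    (HomotopyCategory.quotient A (ComplexShape.up ℤ)).map f = 0 ↔
      ∃ ψ : mappingCone (𝟙 K) ⟶ L, CochainComplex.mappingCone.inr (𝟙 K) ≫ ψ = f :=
  ⟨exists_factor f, fun ⟨ψ, h⟩ => h ▸ quotient_eq_zero_of_factor ψ⟩

instance mono_inr_id (K : CochainComplex A ℤ) : Mono (CochainComplex.mappingCone.inr (𝟙 K)) :=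
  HomologicalComplex.mono_of_mono_f _ fun n =>
    SplitMono.mono ⟨(CochainComplex.mappingCone.snd (𝟙 K)).v n n (add_zero n), by simp⟩

variable [IsGrothendieckAbelian.{v} A] {ι : Type v} (S : ι → CochainComplex A ℤ)

/-- Generating maps for the localization at the objects `S i`. -/
def WS : MorphismProperty (CochainComplex A ℤ) :=
  W A ⊔ MorphismProperty.ofHoms fun i => CochainComplex.mappingCone.inr (𝟙 (S i))

instance : MorphismProperty.IsSmall.{v} (WS S) := by
  haveI : Small.{v} (MorphismProperty.toSet (MorphismProperty.ofHoms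
      fun i => CochainComplex.mappingCone.inr (𝟙 (S i)))) :=
    (inferInstance : MorphismProperty.IsSmall.{v} (MorphismProperty.ofHoms _)).small_toSet
  exact ⟨small_subset.{v} (s := MorphismProperty.toSet (W A) ∪ MorphismProperty.toSet
    (MorphismProperty.ofHoms fun i => CochainComplex.mappingCone.inr (𝟙 (S i)))) fun _ h => h⟩

theorem WS_le : WS S ≤ monomorphisms (CochainComplex A ℤ) := by
  rintro X Y f (hf | hf)
  · exact (W_le _ hf).1
  · obtain ⟨i⟩ := hf
    exact inferInstanceAs (Mono _)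

theorem hasSmallObjectArgument : HasSmallObjectArgument.{v} (WS S) := by
  obtain ⟨κ, hκ', hκ⟩ := HasCardinalLT.exists_regular_cardinal.{v}
    ((Σ x : WIdx A, Subobject (x.2.1 : CochainComplex A ℤ)) ⊕ (Σ i, Subobject (S i)))
  haveI : Fact κ.IsRegular := ⟨hκ'⟩
  haveI : Nonempty κ.ord.ToType := by simpa using hκ'.ne_zero
  letI := WellFoundedLT.toOrderBot κ.ord.ToType
  refine ⟨κ, inferInstance, inferInstance,
    { preservesColimit := fun {A' B X Y} i hi f hf => ?_ }⟩
  let hf' : (monomorphisms (CochainComplex A ℤ)).TransfiniteCompositionOfShape κ.ord.ToType f :=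
    { toTransfiniteCompositionOfShape := hf.toTransfiniteCompositionOfShape
      map_mem j hj := by
        have := (hf.attachCells j hj).pushouts_coproducts
        simp only [ofHoms_homFamily] at this
        refine (?_ : _ ≤ monomorphisms (CochainComplex A ℤ)) _ this
        simp only [pushouts_le_iff, coproducts_le_iff]
        exact WS_le S }
  have hmem : ∀ (j j' : κ.ord.ToType) (φ : j ⟶ j'), Mono (hf'.F.map φ) :=
    fun j j' φ => hf'.mem_map φ
  rcases hi with hi | hi
  · obtain ⟨x⟩ := hi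
    exact IsGrothendieckAbelian.preservesColimit_coyoneda_obj_of_mono (Y := hf'.F) (κ := κ)
      (hκ.of_injective (fun Q => Sum.inl (⟨x, Q⟩ : Σ x : WIdx A, Subobject (x.2.1 : CochainComplex A ℤ)))
        (fun _ _ h => eq_of_heq (Sigma.mk.inj (Sum.inl_injective h)).2))
  · obtain ⟨x⟩ := hi
    exact IsGrothendieckAbelian.preservesColimit_coyoneda_obj_of_mono (Y := hf'.F) (κ := κ)
      (hκ.of_injective (fun Q => Sum.inr (⟨x, Q⟩ : Σ i, Subobject (S i)))
        (fun _ _ h => eq_of_heq (Sigma.mk.inj (Sum.inr_injective h)).2))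

/-- Every map from one of the `S i` to `Y` is null-homotopic. -/
def IsLocalCx (Y : CochainComplex A ℤ) : Prop :=
  ∀ i (f : S i ⟶ Y), (HomotopyCategory.quotient A (ComplexShape.up ℤ)).map f = 0

theorem hasLiftingProperty_of_local {Y Z : CochainComplex A ℤ} (hZ : IsZero Z) (p : Y ⟶ Z)
    (hY : HasExt Y) (hS : IsLocalCx S Y) : (WS S).rlp p := by
  rintro X X' w (hw | hw)
  · refine ⟨fun {u g} sq => ?_⟩
    obtain ⟨ψ, hψ⟩ := hY w (W_le _ hw) u
    exact ⟨⟨⟨ψ, hψ, hZ.eq_of_tgt _ _⟩⟩⟩
  · obtain ⟨i⟩ := hw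
    refine ⟨fun {u g} sq => ?_⟩
    obtain ⟨ψ, hψ⟩ := (null_iff_extends u).1 (hS i u)
    exact ⟨⟨⟨ψ, hψ, hZ.eq_of_tgt _ _⟩⟩⟩

section Derived

variable [HasDerivedCategory.{w} A]

theorem Q_map_eq_zero_iff {K L : CochainComplex A ℤ} [L.IsKInjective] (f : K ⟶ L) :
    DerivedCategory.Q.map f = 0 ↔ (HomotopyCategory.quotient A (ComplexShape.up ℤ)).map f = 0 :=
  ⟨quotient_eq_zero_of_Q, Q_map_zero_of_quotient⟩

theorem rlp_fst_of_local {Y : CochainComplex A ℤ} [Y.IsKInjective] (hY : ∀ n, Injective (Y.X n))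
    (hsh : ∀ i, Subsingleton (DerivedCategory.Q.obj ((S i)⟦(1 : ℤ)⟧) ⟶
      DerivedCategory.Q.obj Y)) :
    (WS S).rlp (mappingCocone.fst (𝟙 Y)) := by
  rintro X X' w (hw | hw)
  · haveI : Mono w := (W_le _ hw).1
    refine hasLiftingProperty_fst hY w fun c => ?_
    obtain ⟨hm, hA⟩ := (T_iff w).1 (W_le _ hw)
    exact (HomotopyCategory.eq_of_homotopy c 0 (CochainComplex.IsKInjective.homotopyZero c hA)).trans
      (Functor.map_zero _ _ _)
  · obtain ⟨i⟩ := hw
    refine hasLiftingProperty_fst hY _ fun c => ?_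
    let S' := (CochainComplex.mappingCone.triangle (𝟙 (S i))).mor₃
    have hex : Nonempty (cokernel (CochainComplex.mappingCone.inr (𝟙 (S i))) ≅ (S i)⟦(1 : ℤ)⟧) :=
      ⟨IsColimit.coconePointUniqueUpToIso (cokernelIsCokernel _)
        (((shortExact_iff_degreewise_shortExact
          (CochainComplex.mappingCone.triangleRotateShortComplex (𝟙 (S i)))).2 fun n =>
            (CochainComplex.mappingCone.triangleRotateShortComplexSplitting (𝟙 (S i)) n).shortExact).gIsCokernel)⟩
    obtain ⟨e⟩ := hex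
    rw [← Q_map_eq_zero_iff, show c = e.hom ≫ (e.inv ≫ c) by simp, Functor.map_comp,
      (hsh i).elim (DerivedCategory.Q.map (e.inv ≫ c)) 0, comp_zero]

/-- The condition on an object of `D(A)`. -/
def IsLocal (Y : DerivedCategory A) : Prop :=
  ∀ i, Subsingleton (DerivedCategory.Q.obj (S i) ⟶ Y)

variable {S}

theorem isRightAdjoint (P : ObjectProperty (DerivedCategory A)) (hP : ∀ Y, P Y ↔ IsLocal S Y)
    (hsh : ∀ i Y, P Y → Subsingleton (DerivedCategory.Q.obj ((S i)⟦(1 : ℤ)⟧) ⟶ Y)) :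
    P.ι.IsRightAdjoint := by
  haveI := hasSmallObjectArgument S
  have key : ∀ M : CochainComplex A ℤ, ∃ (B : P.FullSubcategory)
      (η : DerivedCategory.Q.obj M ⟶ B.obj), ∀ Y, P Y →
        Function.Bijective fun t : B.obj ⟶ Y => η ≫ t := by
    intro M
    obtain ⟨Z, hZ⟩ : ∃ Z : CochainComplex A ℤ, IsZero Z := HasZeroObject.zero
    let fac := (functorialFactorizationData (WS S).rlp.llp (WS S).rlp).factorizationData (0 : M ⟶ Z)
    have hext : HasExt fac.Z := hasExt_of_W fun x φ => by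
      have sq : CommSq φ x.2.1.arrow fac.p (0 : cx x.1 ⟶ Z) := ⟨hZ.eq_of_tgt _ _⟩
      haveI := fac.hp x.2.1.arrow (Or.inl ⟨x⟩)
      exact ⟨sq.lift, sq.fac_left⟩
    haveI := isKInjective_of_hasExt hext
    have hB : P (DerivedCategory.Q.obj fac.Z) := (hP _).2 fun i => by
      refine ⟨fun a b => ?_⟩
      suffices h : ∀ a, a = (0 : DerivedCategory.Q.obj (S i) ⟶ DerivedCategory.Q.obj fac.Z) from
        (h a).trans (h b).symm
      intro a
      obtain ⟨a', rfl⟩ := Q_map_surjective _ _ a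
      rw [Q_map_eq_zero_iff, null_iff_extends]
      have sq : CommSq a' (CochainComplex.mappingCone.inr (𝟙 (S i))) fac.p (0 : mappingCone _ ⟶ Z) :=
        ⟨hZ.eq_of_tgt _ _⟩
      haveI := fac.hp (CochainComplex.mappingCone.inr (𝟙 (S i))) (Or.inr ⟨i⟩)
      exact ⟨sq.lift, sq.fac_left⟩
    refine ⟨⟨_, hB⟩, DerivedCategory.Q.map fac.i, fun Y hY => ?_⟩
    let K := DerivedCategory.Q.objPreimage Y
    obtain ⟨I, f, hI, hf, hinj⟩ := exists_resolution K
    haveI : QuasiIso f := (HomologicalComplex.mem_quasiIso_iff _).1 hf.2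
    let e : Y ≅ DerivedCategory.Q.obj I :=
      (DerivedCategory.Q.objObjPreimageIso Y).symm ≪≫ asIso (DerivedCategory.Q.map f)
    have hloc : IsLocalCx S I := fun i g => by
      rw [← Q_map_eq_zero_iff, ← cancel_mono e.inv, zero_comp]
      exact ((hP Y).1 hY i).elim _ _
    have hsh' : ∀ i, Subsingleton (DerivedCategory.Q.obj ((S i)⟦(1 : ℤ)⟧) ⟶ DerivedCategory.Q.obj I) :=
      fun i => ⟨fun a b => (cancel_mono e.inv).1 ((hsh i Y hY).elim _ _)⟩
    suffices h : Function.Bijective fun t : DerivedCategory.Q.obj fac.Z ⟶ DerivedCategory.Q.obj I =>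
        DerivedCategory.Q.map fac.i ≫ t by
      refine ⟨fun a b hab => (cancel_mono e.hom).1 (h.1 ?_), fun r => ?_⟩
      · show _ ≫ a ≫ e.hom = _ ≫ b ≫ e.hom
        rw [← Category.assoc, ← Category.assoc]
        exact congrArg (· ≫ e.hom) hab
      · obtain ⟨t, ht⟩ := h.2 (r ≫ e.hom)
        refine ⟨t ≫ e.inv, ?_⟩
        show _ ≫ t ≫ e.inv = r
        rw [← Category.assoc, show DerivedCategory.Q.map fac.i ≫ t = _ from ht, Category.assoc,
          e.hom_inv_id, Category.comp_id]
    constructor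
    · intro a b hab
      obtain ⟨a', rfl⟩ := Q_map_surjective _ _ a
      obtain ⟨b', rfl⟩ := Q_map_surjective _ _ b
      rw [← sub_eq_zero, ← Functor.map_sub, Q_map_eq_zero_iff]
      have h0 : (HomotopyCategory.quotient A (ComplexShape.up ℤ)).map (fac.i ≫ (a' - b')) = 0 := by
        rw [← Q_map_eq_zero_iff, Functor.map_comp, Functor.map_sub, Preadditive.comp_sub, sub_eq_zero]
        exact hab
      obtain ⟨z, hz⟩ := (null_iff _).1 h0
      let u : M ⟶ mappingCocone (𝟙 I) := mappingCocone.lift (𝟙 I) (fac.i ≫ (a' - b')) (-z)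
        (by rw [δ_neg, hz, Category.comp_id, neg_add_cancel])
      have sq : CommSq u fac.i (mappingCocone.fst (𝟙 I)) (a' - b') := ⟨mappingCocone.lift_fst _ _ _ _⟩
      haveI : HasLiftingProperty fac.i (mappingCocone.fst (𝟙 I)) :=
        fac.hi _ (rlp_fst_of_local S hinj hsh')
      refine (null_iff _).2 ⟨-((Cochain.ofHom sq.lift).comp (mappingCocone.snd (𝟙 I)) (zero_add _)), ?_⟩
      have hd := congrArg (fun c => (Cochain.ofHom sq.lift).comp c (zero_add 0)) (δ_snd I)
      simp only [Cochain.comp_add, Cochain.comp_zero, ← Cochain.ofHom_comp, sq.fac_right] at hd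
      rw [δ_neg, δ_ofHom_comp]
      exact neg_eq_of_add_eq_zero_right hd
    · intro r
      obtain ⟨r', rfl⟩ := Q_map_surjective _ _ r
      haveI : HasLiftingProperty fac.i (0 : I ⟶ Z) :=
        fac.hi _ (hasLiftingProperty_of_local S hZ _ (hasExt_of_isKInjective hinj) hloc)
      have sq : CommSq r' fac.i (0 : I ⟶ Z) (0 : fac.Z ⟶ Z) := ⟨hZ.eq_of_tgt _ _⟩
      exact ⟨DerivedCategory.Q.map sq.lift,
        (Functor.map_comp _ _ _).symm.trans (congrArg _ sq.fac_left)⟩
  choose B η hη using fun X : DerivedCategory A => key (DerivedCategory.Q.objPreimage X)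
  refine ⟨_, ⟨Adjunction.adjunctionOfEquivLeft (F_obj := B)
    (fun X Y => (Equiv.ofBijective
      (fun t : B X ⟶ Y => (DerivedCategory.Q.objObjPreimageIso X).inv ≫ η X ≫ t.hom) ?_))
    (fun X Y Y' a b => by simp [Category.assoc])⟩⟩
  exact (Iso.homFromEquiv (DerivedCategory.Q.objObjPreimageIso X) (Z := Y.obj)).bijective.comp
    ((hη X Y.obj Y.property).comp ⟨fun _ _ h => ObjectProperty.hom_ext _ h,
      fun t => ⟨ObjectProperty.homMk t, rfl⟩⟩)

end Derived

end Groth.Agent.DerLib.OrthLocal
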