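/-
Way-out functors.
-/
import Groth.Agent.DerLib.Devissage
import Mathlib.Algebra.Homology.DerivedCategory.SingleTriangle
import Mathlib.CategoryTheory.Abelian.DiagramLemmas.Four

set_option linter.unusedSectionVars false
set_option linter.style.haveILetI false

universe w w' v v' u u'

open CategoryTheory Limits Pretriangulated DerivedCategory DerivedCategory.TStructure ComposableArrows

namespace Groth.Agent.DerLib.WayOut

open Devissage

variable {C : Type u} [Category.{v} C] [Abelian C] [HasDerivedCategory.{w} C]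
  {E : Type u'} [Category.{v'} E] [Abelian E] [HasDerivedCategory.{w'} E]
  {Φ Ψ : DerivedCategory C ⥤ DerivedCategory E}
  [Φ.CommShift ℤ] [Ψ.CommShift ℤ] [Φ.IsTriangulated] [Ψ.IsTriangulated]
  (τ : Φ ⟶ Ψ) [NatTrans.CommShift τ ℤ]

/-- Way-out to the right. -/
def Right (Φ : DerivedCategory C ⥤ DerivedCategory E) : Prop :=
  ∀ n₁ : ℤ, ∃ n₂ : ℤ, ∀ Y : DerivedCategory C, Y.IsGE n₂ → (Φ.obj Y).IsGE n₁

/-- Way-out to the left. -/
def Left (Φ : DerivedCategory C ⥤ DerivedCategory E) : Prop :=
  ∀ n₁ : ℤ, ∃ n₂ : ℤ, ∀ Y : DerivedCategory C, Y.IsLE n₂ → (Φ.obj Y).IsLE n₁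

theorem isIso_single_homology (X : DerivedCategory C) (q : ℤ) {Y : DerivedCategory C}
    (f : Y ⟶ X) [IsIso ((homologyFunctor C q).map f)]
    (h : IsIso (τ.app ((singleFunctor C 0).obj ((homologyFunctor C q).obj X)))) :
    IsIso (τ.app ((singleFunctor C 0).obj ((homologyFunctor C q).obj Y))) :=
  (NatTrans.isIso_app_iff_of_iso τ ((singleFunctor C 0).mapIso
    (asIso ((homologyFunctor C q).map f)))).2 h

theorem isIso_single_of_isZero (M : C) (hM : IsZero M) :
    IsIso (τ.app ((singleFunctor C 0).obj M)) :=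
  have := (singleFunctor C 0).map_isZero hM
  (Φ.map_isZero this).isIso (Ψ.map_isZero this) _

theorem of_bounded_above (hΦ : Right Φ) (hΨ : Right Ψ) (X : DerivedCategory C) (n : ℤ) [X.IsGE n]
    (h : ∀ q : ℤ, IsIso (τ.app ((singleFunctor C 0).obj ((homologyFunctor C q).obj X)))) :
    IsIso (τ.app X) := by
  rw [isIso_iff]
  intro j
  obtain ⟨a, ha⟩ := hΦ (j + 1)
  obtain ⟨b, hb⟩ := hΨ (j + 1)
  let m := max n (max a b)
  haveI : ((t.truncLE m).obj X).IsGE n := by
    rw [isGE_iff]
    intro i hi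
    haveI := isIso_homology_truncLEι X m i (by omega)
    exact (isZero_of_isGE X n i hi).of_iso
      (asIso ((homologyFunctor C i).map ((t.truncLEι m).app X)))
  haveI : ((t.truncLE m).obj X).IsLE (n + ((m - n).toNat : ℤ)) := t.isLE_of_le _ m _ (by omega)
  haveI : IsIso (τ.app ((t.truncLE m).obj X)) := by
    refine isIso_app_of_bounded τ n (m - n).toNat _ fun q => ?_
    by_cases hq : q ≤ m
    · haveI := isIso_homology_truncLEι X m q hq
      exact isIso_single_homology τ X q ((t.truncLEι m).app X) (h q)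
    · exact isIso_single_of_isZero τ _ (isZero_of_isLE _ m q (by omega))
  have key : ∀ (Θ : DerivedCategory C ⥤ DerivedCategory E) [Θ.CommShift ℤ] [Θ.IsTriangulated],
      (∃ c, c ≤ m + 1 ∧ ∀ Y : DerivedCategory C, Y.IsGE c → (Θ.obj Y).IsGE (j + 1)) →
      IsIso ((homologyFunctor E j).map (Θ.map ((t.truncLEι m).app X))) := by
    intro Θ _ _ hc
    obtain ⟨c, hc₁, hc₂⟩ := hc
    haveI : ((t.truncGT m).obj X).IsGE c := t.isGE_of_ge _ c (m + 1) hc₁
    haveI := hc₂ ((t.truncGT m).obj X) inferInstance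
    exact isIso_homologyMap_mor₁ _ (Θ.map_distinguished _ (t.triangleLEGT_distinguished m X)) j
      (isZero_of_isGE (Θ.obj ((t.truncGT m).obj X)) (j + 1) j (by omega))
      (isZero_of_isGE (Θ.obj ((t.truncGT m).obj X)) (j + 1) (j - 1) (by omega))
  haveI := key Φ ⟨a, by omega, ha⟩
  haveI := key Ψ ⟨b, by omega, hb⟩
  have := (homologyFunctor E j).congr_map (τ.naturality ((t.truncLEι m).app X))
  simp only [Functor.map_comp] at this
  exact IsIso.of_isIso_fac_left this

theorem of_bounded_below (hΦ : Left Φ) (hΨ : Left Ψ) (X : DerivedCategory C) (n : ℤ) [X.IsLE n]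
    (h : ∀ q : ℤ, IsIso (τ.app ((singleFunctor C 0).obj ((homologyFunctor C q).obj X)))) :
    IsIso (τ.app X) := by
  rw [isIso_iff]
  intro j
  obtain ⟨a, ha⟩ := hΦ (j - 1)
  obtain ⟨b, hb⟩ := hΨ (j - 1)
  let m := min (n - 1) (min a b)
  haveI : ((t.truncGT m).obj X).IsLE n := by
    rw [isLE_iff]
    intro i hi
    haveI := isIso_homology_truncGTπ X m i (by omega)
    exact (isZero_of_isLE X n i hi).of_iso
      (asIso ((homologyFunctor C i).map ((t.truncGTπ m).app X))).symm
  haveI : ((t.truncGT m).obj X).IsLE (m + 1 + ((n - (m + 1)).toNat : ℤ)) :=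
    t.isLE_of_le _ n _ (by omega)
  haveI : IsIso (τ.app ((t.truncGT m).obj X)) := by
    refine isIso_app_of_bounded τ (m + 1) (n - (m + 1)).toNat _ fun q => ?_
    by_cases hq : m < q
    · haveI := isIso_homology_truncGTπ X m q hq
      exact (NatTrans.isIso_app_iff_of_iso τ ((singleFunctor C 0).mapIso
        (asIso ((homologyFunctor C q).map ((t.truncGTπ m).app X))))).1 (h q)
    · exact isIso_single_of_isZero τ _ (isZero_of_isGE _ (m + 1) q (by omega))
  have key : ∀ (Θ : DerivedCategory C ⥤ DerivedCategory E) [Θ.CommShift ℤ] [Θ.IsTriangulated],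
      (∃ c, m ≤ c ∧ ∀ Y : DerivedCategory C, Y.IsLE c → (Θ.obj Y).IsLE (j - 1)) →
      IsIso ((homologyFunctor E j).map (Θ.map ((t.truncGTπ m).app X))) := by
    intro Θ _ _ hc
    obtain ⟨c, hc₁, hc₂⟩ := hc
    haveI : ((t.truncLE m).obj X).IsLE c := t.isLE_of_le _ m c hc₁
    haveI := hc₂ ((t.truncLE m).obj X) inferInstance
    exact isIso_homologyMap_mor₂ _ (Θ.map_distinguished _ (t.triangleLEGT_distinguished m X)) j
      (isZero_of_isLE (Θ.obj ((t.truncLE m).obj X)) (j - 1) j (by omega))
      (isZero_of_isLE (Θ.obj ((t.truncLE m).obj X)) (j - 1) (j + 1) (by omega))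
  haveI := key Φ ⟨a, by omega, ha⟩
  haveI := key Ψ ⟨b, by omega, hb⟩
  have := (homologyFunctor E j).congr_map (τ.naturality ((t.truncGTπ m).app X))
  simp only [Functor.map_comp] at this
  exact IsIso.of_isIso_fac_right this.symm

theorem of_both (hΦ : Right Φ) (hΦ' : Left Φ) (hΨ : Right Ψ) (hΨ' : Left Ψ) (X : DerivedCategory C)
    (h : ∀ q : ℤ, IsIso (τ.app ((singleFunctor C 0).obj ((homologyFunctor C q).obj X)))) :
    IsIso (τ.app X) := by
  haveI : IsIso (τ.app ((t.triangleLEGT 0).obj X).obj₁) := by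
    change IsIso (τ.app ((t.truncLE 0).obj X))
    refine of_bounded_below τ hΦ' hΨ' _ 0 fun q => ?_
    by_cases hq : q ≤ 0
    · haveI := isIso_homology_truncLEι X 0 q hq
      exact isIso_single_homology τ X q ((t.truncLEι 0).app X) (h q)
    · exact isIso_single_of_isZero τ _ (isZero_of_isLE _ 0 q (by omega))
  haveI : IsIso (τ.app ((t.triangleLEGT 0).obj X).obj₃) := by
    change IsIso (τ.app ((t.truncGT 0).obj X))
    refine of_bounded_above τ hΦ hΨ _ (0 + 1) fun q => ?_
    by_cases hq : 0 < q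
    · haveI := isIso_homology_truncGTπ X 0 q hq
      exact (NatTrans.isIso_app_iff_of_iso τ ((singleFunctor C 0).mapIso
        (asIso ((homologyFunctor C q).map ((t.truncGTπ 0).app X))))).1 (h q)
    · exact isIso_single_of_isZero τ _ (isZero_of_isGE _ (0 + 1) q (by omega))
  exact isIso_app_obj₂ τ _ (t.triangleLEGT_distinguished 0 X)

theorem exists_bound (hΦ : Right Φ) :
    ∃ c : ℤ, ∀ (M : C) (i : ℤ), i < c →
      IsZero ((homologyFunctor E i).obj (Φ.obj ((singleFunctor C 0).obj M))) := by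
  obtain ⟨n₂, h⟩ := hΦ 1
  refine ⟨1 - n₂, fun M i hi => ?_⟩
  haveI : ((singleFunctor C 0).obj M).IsGE 0 := inferInstance
  haveI : (((singleFunctor C 0).obj M)⟦-n₂⟧).IsGE n₂ := t.isGE_shift _ 0 (-n₂) n₂ (by omega)
  haveI : t.IsGE ((shiftFunctor (DerivedCategory C) (-n₂) ⋙ Φ).obj ((singleFunctor C 0).obj M)) 1 :=
    h (((singleFunctor C 0).obj M)⟦-n₂⟧) inferInstance
  haveI : ((Φ.obj ((singleFunctor C 0).obj M))⟦-n₂⟧).IsGE 1 :=
    t.isGE_of_iso ((Φ.commShiftIso (-n₂)).app _) 1
  exact (isZero_of_isGE ((Φ.obj ((singleFunctor C 0).obj M))⟦-n₂⟧) 1 (i + n₂) (by omega)).of_iso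
    ((((homologyFunctor E 0).shiftIso (-n₂) (i + n₂) i (by omega)).app _).symm)

theorem of_cogenerating (P : ObjectProperty C) (hP : ∀ X : C, ∃ (Y : C) (i : X ⟶ Y), P Y ∧ Mono i)
    (hΦ : Right Φ) (hΨ : Right Ψ) (h : ∀ X : C, P X → IsIso (τ.app ((singleFunctor C 0).obj X)))
    (X : C) : IsIso (τ.app ((singleFunctor C 0).obj X)) := by
  obtain ⟨a, ha⟩ := exists_bound hΦ
  obtain ⟨b, hb⟩ := exists_bound hΨ
  rw [isIso_iff]
  intro j
  suffices key : ∀ (k : ℕ) (M : C) (i : ℤ), i < min a b + k →
      IsIso ((homologyFunctor E i).map (τ.app ((singleFunctor C 0).obj M))) from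
    key ((j - min a b).toNat + 1) X j (by omega)
  intro k
  induction k with
  | zero => exact fun M i hi => (ha M i (by omega)).isIso (hb M i (by omega)) _
  | succ k ih =>
    have step : ∀ (M : C) (i : ℤ), i < min a b + ((k + 1 : ℕ) : ℤ) →
        Mono ((homologyFunctor E i).map (τ.app ((singleFunctor C 0).obj M))) ∧
        ((∀ M' : C, Mono ((homologyFunctor E i).map (τ.app ((singleFunctor C 0).obj M')))) →
          IsIso ((homologyFunctor E i).map (τ.app ((singleFunctor C 0).obj M)))) := by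
      intro M i hi
      obtain ⟨Y, f, hY, hf⟩ := hP M
      let S := ShortComplex.mk f (cokernel.π f) (cokernel.condition f)
      have hS : S.ShortExact := { exact := ShortComplex.exact_cokernel f }
      let T := hS.singleTriangle
      have hT := hS.singleTriangle_distinguished
      let φ : Φ.mapTriangle.obj T ⟶ Ψ.mapTriangle.obj T :=
        (Φ.mapTriangle.obj T).homMk (Ψ.mapTriangle.obj T) (τ.app T.obj₁) (τ.app T.obj₂)
          (τ.app T.obj₃) (τ.naturality _) (τ.naturality _) (by
            show (Φ.map T.mor₃ ≫ (Φ.commShiftIso (1 : ℤ)).hom.app T.obj₁) ≫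
                (τ.app T.obj₁)⟦(1 : ℤ)⟧' =
              τ.app T.obj₃ ≫ Ψ.map T.mor₃ ≫ (Ψ.commShiftIso (1 : ℤ)).hom.app T.obj₁
            rw [Category.assoc, NatTrans.shift_app_comm τ (1 : ℤ) T.obj₁, τ.naturality_assoc])
      let H := homologyFunctor E 0
      have h₁ := H.homologySequenceComposableArrows₅_exact (Φ.mapTriangle.obj T)
        (Φ.map_distinguished _ hT) (i - 1) i (by omega)
      have h₂ := H.homologySequenceComposableArrows₅_exact (Ψ.mapTriangle.obj T)
        (Ψ.map_distinguished _ hT) (i - 1) i (by omega)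
      let ψ : H.homologySequenceComposableArrows₅ (Φ.mapTriangle.obj T) (i - 1) i (by omega) ⟶
          H.homologySequenceComposableArrows₅ (Ψ.mapTriangle.obj T) (i - 1) i (by omega) :=
        ComposableArrows.homMk₅ ((H.shift (i - 1)).map φ.hom₁) ((H.shift (i - 1)).map φ.hom₂)
          ((H.shift (i - 1)).map φ.hom₃) ((H.shift i).map φ.hom₁) ((H.shift i).map φ.hom₂)
          ((H.shift i).map φ.hom₃)
          (((H.shift (i - 1)).map_comp _ _).symm.trans
            ((congrArg (H.shift (i - 1)).map φ.comm₁).trans ((H.shift (i - 1)).map_comp _ _)))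
          (((H.shift (i - 1)).map_comp _ _).symm.trans
            ((congrArg (H.shift (i - 1)).map φ.comm₂).trans ((H.shift (i - 1)).map_comp _ _)))
          (H.homologySequenceδ_naturality _ _ φ (i - 1) i (by omega)).symm
          (((H.shift i).map_comp _ _).symm.trans
            ((congrArg (H.shift i).map φ.comm₁).trans ((H.shift i).map_comp _ _)))
          (((H.shift i).map_comp _ _).symm.trans
            ((congrArg (H.shift i).map φ.comm₂).trans ((H.shift i).map_comp _ _)))
      haveI := h Y hY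
      have hY₁ : IsIso ((homologyFunctor E (i - 1)).map (τ.app ((singleFunctor C 0).obj Y))) :=
        inferInstance
      have hY₂ : IsIso ((homologyFunctor E i).map (τ.app ((singleFunctor C 0).obj Y))) :=
        inferInstance
      have hX' : IsIso ((homologyFunctor E (i - 1)).map
          (τ.app ((singleFunctor C 0).obj (cokernel f)))) := ih _ (i - 1) (by omega)
      refine ⟨Abelian.mono_of_epi_of_mono_of_mono'' (k := 1) (by omega) h₁ h₂ ψ 1 2 3 4 rfl rfl rfl
        rfl (show Epi ((homologyFunctor E (i - 1)).map (τ.app ((singleFunctor C 0).obj Y))) from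
          inferInstance)
        (show Mono ((homologyFunctor E (i - 1)).map
          (τ.app ((singleFunctor C 0).obj (cokernel f)))) from inferInstance)
        (show Mono ((homologyFunctor E i).map (τ.app ((singleFunctor C 0).obj Y))) from
          inferInstance), fun hm => ?_⟩
      exact Abelian.isIso_of_epi_of_isIso_of_isIso_of_mono' (k := 1) (by omega) h₁ h₂ ψ 1 2 3 4 5
        rfl rfl rfl rfl rfl
        (show Epi ((homologyFunctor E (i - 1)).map (τ.app ((singleFunctor C 0).obj Y))) from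
          inferInstance) hX' hY₂ (hm (cokernel f))
    exact fun M i hi => (step M i hi).2 fun M' => (step M' i hi).1

end Groth.Agent.DerLib.WayOut
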